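import Cfsg.Agent.Mrg.Omega.OM.Swap.Pair
import Cfsg.Agent.Mrg.Omega.OM.Swap.Perm
import Cfsg.Agent.Omega.OM.Swap.Sit


/-!
# THEOREM SW (#18741), STEP 0: the situation `Swap.Sit` from the frame `Line S P L W Z C A 2`

`M ≥ K0, N_G(B)`. If some subgroup `H ≥ B` of characteristic 2 is not contained in `M`, then there is a pair `(T, F)`
with `|Phi(T)|` maximal and one `O₂(F)`-orbit of indices for which `Swap.Sit` holds.
-/

set_option autoImplicit false

namespace Cfsg.Agent.Omega.OM.Swap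

open Subgroup Cfsg Cfsg.Agent.ZN.ChoiceBase Cfsg.Agent.ZN.ChoiceSit
open Cfsg.Agent.ZN (jj zj bau zc zl o2)
open Cfsg.Agent.Omega.OM.Dich (K0)
open Cfsg.Agent.Omega.OM.BlkGen (FBlk)

universe u

variable {G : Type u} [Group G] [Finite G]

/-- The module facts (helper323, `ModFacts.lean`). -/
structure MF {ι : Type} (S : Subgroup G) (L W Z : ι → Subgroup G) : Prop where
  act : ∀ X ∈ AA S, ∀ a ∈ X, ∀ i, ∀ x ∈ W i, ∀ z ∈ Z i, z ≠ 1 → a * x * a⁻¹ = x ∨ a * x * a⁻¹ = x * z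
  hat : ∀ X ∈ AA S, ∀ i, (∃ a ∈ X, ∃ x ∈ W i, a * x ≠ x * a) →
    ∃ a ∈ X, (∃ x ∈ W i, a * x ≠ x * a) ∧ ∀ j, j ≠ i → ∀ x ∈ W j, a * x = x * a
  conj : ∀ r : Set ι, ∀ x ∈ (⨆ i ∈ r, W i), ∃ m ∈ (⨆ i ∈ r, L i), m * x * m⁻¹ ∈ zj S

/-- the indices fixed by `T` -/
def Phi {ι : Type} (Z : ι → Subgroup G) (T : Subgroup G) : Set ι := {i | ∀ t ∈ T, cj t (Z i) = Z i}

section line

variable {ι : Type} [Finite ι] {S : Sylow 2 G} {P : Subgroup G} {L W Z C A : ι → Subgroup G}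

/-- A pair with `|Phi(T)|` maximal; `C_G(Z₀ z_j) ≤ M` for `j ∉ Phi(T)`. -/
theorem exists_max (h : Line S P L W Z C A 2) (hFF : FFThm.Stmt.{u}) (hA : FFBr.AStmt.{u}) {M H : Subgroup G}
    (hK : K0 (S : Subgroup G) (FBlk (S : Subgroup G)) ≤ M) (hN : normalizer (bau (S : Subgroup G) : Set G) ≤ M)
    (hB : bau (S : Subgroup G) ≤ H) (hc : H ⊓ centralizer (o2 H : Set G) ≤ o2 H) (hM : ¬ H ≤ M) :
    ∃ T F : Subgroup G, Pair S P M T F ∧ ∀ j, j ∉ Phi Z T →
      centralizer (((⨆ i ∈ Phi Z T, Z i) ⊔ Z j : Subgroup G) : Set G) ≤ M := by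
  classical
  have hS2 : IsPGroup 2 (zj (S : Subgroup G)) := S.isPGroup'.to_le ((zj_le_bau _).trans (bau_le _))
  -- choose
  let s : Set ℕ := {n | ∃ T F : Subgroup G, Pair S P M T F ∧ (Phi Z T).ncard = n}
  have hs1 : s.Nonempty := by
    obtain ⟨T, F, hp, -⟩ := exists_pair h hFF hA hK hN hB hc hM
    exact ⟨_, T, F, hp, rfl⟩
  have hs2 : s.Finite := by
    refine (Set.finite_Iic (Nat.card ι)).subset ?_
    rintro n ⟨T, F, -, rfl⟩
    rw [Set.mem_Iic, ← Set.ncard_univ]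
    exact Set.ncard_le_ncard (Set.subset_univ _)
  obtain ⟨n, hn⟩ := hs2.exists_maximal hs1
  obtain ⟨T, F, hp, hcard⟩ := hn.prop
  refine ⟨T, F, hp, fun j hj => ?_⟩
  by_contra hcon
  set X : Subgroup G := (⨆ i ∈ Phi Z T, Z i) ⊔ Z j with hX
  have hXJ : X ≤ zj (S : Subgroup G) :=
    sup_le (iSup_le fun i => iSup_le fun _ => h.fr.Z_le i) (h.fr.Z_le j)
  have hX1 : X ≠ ⊥ := by
    intro e
    obtain ⟨z, hz, hz1⟩ := Z_ne h j
    have h1 : z ∈ X := mem_sup_right hz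
    rw [e, mem_bot] at h1
    exact hz1 h1
  have hBX : bau (S : Subgroup G) ≤ centralizer (X : Set G) :=
    (Dich.bau_le_cent _).trans (centralizer_le (by exact_mod_cast hXJ))
  obtain ⟨T', F', hp', hle⟩ := exists_pair h hFF hA hK hN hBX
    (char2_cent h.hyp.ctx.char2 (hS2.to_le hXJ) hX1) hcon
  have hfix : ∀ i, Z i ≤ X → i ∈ Phi Z T' := by
    intro i hi t ht
    have h1 := hle (hp'.syl.1 ht)
    refine cj_eq_of_mem_normalizer (centralizer_le_normalizer _ ?_)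
    exact centralizer_le (by exact_mod_cast hi) h1
  have hsub : insert j (Phi Z T) ⊆ Phi Z T' := by
    rintro i (rfl | hi)
    · exact hfix _ le_sup_right
    · exact hfix _ (le_sup_of_le_left (le_iSup₂ (f := fun i (_ : i ∈ Phi Z T) => Z i) i hi))
  have h2 : n + 1 ≤ (Phi Z T').ncard := by
    rw [← hcard, ← Set.ncard_insert_of_notMem hj (Set.toFinite _)]
    exact Set.ncard_le_ncard hsub (Set.toFinite _)
  have h3 : (Phi Z T').ncard ≤ n := hn.le_of_ge ⟨T', F', hp', rfl⟩ (by show n ≤ (Phi Z T').ncard; omega)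
  omega

/-- `V` commutes with its conjugates under `F` if `V ≤ O₂(F)`, `B ≤ T`. -/
theorem comm_of_pair (h : Line S P L W Z C A 2) {M T F : Subgroup G} (hp : Pair S P M T F) {f : G} (hf : f ∈ F)
    {x y : G} (hx : x ∈ zl (S : Subgroup G) P) (hy : y ∈ zl (S : Subgroup G) P) :
    x * (f * y * f⁻¹) = f * y * f⁻¹ * x := by
  have hV := hp.VO
  have hTn := two_norm h hp.syl.2.1 hp.BT
  have hO : o2 F ≤ T := o2_le_syl hp.syl
  have hcO : cj f (o2 F) = o2 F := cj_eq_of_mem_normalizer (le_normalizer_o2 F hf)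
  have h1 : cj f (zl (S : Subgroup G) P) ≤ normalizer (zl (S : Subgroup G) P : Set G) := by
    have := cj_mono f hV
    rw [hcO] at this
    exact (this.trans hO).trans hTn
  have h2 : zl (S : Subgroup G) P ≤ normalizer ((cj f (zl (S : Subgroup G) P) : Subgroup G) : Set G) := by
    have h3 := cj_mono f ((hO.trans hTn : o2 F ≤ normalizer (zl (S : Subgroup G) P : Set G)))
    rw [hcO, cj_normalizer] at h3
    exact hV.trans h3
  by_contra hne
  refine h.hyp.noFF ⟨P, P, f, h.hyp.star, h.hyp.star, h2, h1, fun e => hne ?_⟩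
  have h4 := commutator_eq_bot_iff_le_centralizer.1 e
  exact (mem_centralizer_iff.1 (h4 hx) (f * y * f⁻¹) ⟨y, hy, rfl⟩).symm

theorem mm_two (S : Sylow 2 G) {T : Subgroup G} (hT : IsPGroup 2 T) (hB : bau (S : Subgroup G) ≤ T) :
    mm T = mm (S : Subgroup G) := by
  rw [← mm_bau T, LemmaK.Main.bau_eq S hT hB, mm_bau]

theorem AA_two (S : Sylow 2 G) {T : Subgroup G} (hT : IsPGroup 2 T) (hB : bau (S : Subgroup G) ≤ T)
    {X : Subgroup G} (hX : X ∈ AA T) : X ∈ AA (S : Subgroup G) := by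
  obtain ⟨h1, h2, h3⟩ := mem_AA_iff.1 hX
  have h4 : X ≤ (S : Subgroup G) := by
    have := le_jj hX
    rw [LemmaK.Main.jj_eq S hT hB] at this
    exact this.trans (jj_le _)
  rw [mem_AA_iff]
  refine ⟨h1, h4, ?_⟩
  rw [← mm_two S hT hB]
  exact h3

/-- **STEP 0.** -/
theorem exists_sit (h : Line S P L W Z C A 2) (hmf : MF (S : Subgroup G) L W Z) (hFF : FFThm.Stmt.{u})
    (hA : FFBr.AStmt.{u}) {M H : Subgroup G}
    (hK : K0 (S : Subgroup G) (FBlk (S : Subgroup G)) ≤ M) (hN : normalizer (bau (S : Subgroup G) : Set G) ≤ M)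
    (hB : bau (S : Subgroup G) ≤ H) (hc : H ⊓ centralizer (o2 H : Set G) ≤ o2 H) (hM : ¬ H ≤ M) :
    ∃ (T F F₀ : Subgroup G) (κ : Type) (V : κ → Subgroup G) (z : κ → G), Sit F T F₀ V z := by
  classical
  obtain ⟨T, F, hp, hcen⟩ := exists_max h hFF hA hK hN hB hc hM
  have hD : centralizer (zj (S : Subgroup G) : Set G) ≤ M := Dich.cent_le_K0.trans hK
  have hSM : (S : Subgroup G) ≤ M := (Line.S_le S).trans hN
  have hLM : ∀ i, L i ≤ M := fun i => (Dich.blk_le_K0 (h.fblk i)).trans hK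
  have hTN : T ≤ normalizer (bau (S : Subgroup G) : Set G) := Dich.two_le S hp.syl.2.1 hp.BT
  have hTM : T ≤ M := hTN.trans hN
  have hO : o2 F ≤ T := o2_le_syl hp.syl
  have hON : o2 F ≤ normalizer (bau (S : Subgroup G) : Set G) := hO.trans hTN
  have hTF : T ≤ F := hp.syl.1
  choose z hz hz1 using Z_ne h
  -- an index moved by `O₂(F)`
  obtain ⟨i₀, o₀, ho₀, hmv⟩ : ∃ i, ∃ o ∈ o2 F, cj o (Z i) ≠ Z i := by
    by_contra hcon
    push Not at hcon
    apply hp.nM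
    have h1 : zj (S : Subgroup G) ≤ centralizer (F : Set G) := by
      intro x hx
      refine hp.fix ⟨hx, mem_centralizer_iff.2 fun o ho => ?_⟩
      refine comm_of_supp h (hON ho) hx fun i j e => ?_
      rw [hcon i o ho] at e
      rw [Z_inj h e]
    exact (le_centralizer_iff.1 h1).trans hD
  -- its orbit
  set r : Set ι := {j | ∃ o ∈ o2 F, cj o (Z i₀) = Z j} with hr
  have hrO : ∀ o ∈ o2 F, ∀ i j, cj o (Z i) = Z j → (i ∈ r ↔ j ∈ r) := by
    intro o ho i j e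
    constructor
    · rintro ⟨o', ho', e'⟩
      exact ⟨o * o', mul_mem ho ho', cj_mul_eq e' e⟩
    · rintro ⟨o', ho', e'⟩
      exact ⟨o⁻¹ * o', mul_mem (inv_mem ho) ho', cj_mul_eq e' (cj_inv_eq e)⟩
  have hi₀ : i₀ ∈ r := ⟨1, one_mem _, cj_one _⟩
  obtain ⟨j₀, hj₀, -⟩ := perm h (hON ho₀) i₀
  have hj₀r : j₀ ∈ r := ⟨o₀, ho₀, hj₀⟩
  have hne₀ : i₀ ≠ j₀ := by
    rintro rfl
    exact hmv hj₀
  -- elements of `Z_J` with support `r` are centralised by `F`
  have hsuppF : ∀ x ∈ zj (S : Subgroup G), (∀ i, x ∈ C i ↔ i ∉ r) → ∀ f ∈ F, f * x = x * f := by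
    intro x hx hxs f hf
    refine mem_centralizer_iff.1 (hp.fix ⟨hx, mem_centralizer_iff.2 fun o ho => ?_⟩) f hf
    refine comm_of_supp h (hON ho) hx fun i j e => ?_
    rw [hxs i, hxs j, hrO o ho i j e]
  obtain ⟨xr, hxr, hxrs⟩ := exists_supp h r
  -- `T` stabilises `r`
  have hrT : ∀ t ∈ T, ∀ i j, cj t (Z i) = Z j → i ∈ r → j ∈ r := by
    intro t ht i j e hi
    by_contra hj
    have h1 := (supp_cj h (hTN ht) e hxr).1
    have h2 := hsuppF xr hxr hxrs t (hTF ht)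
    have h3 : t * xr * t⁻¹ = xr := by rw [h2]; group
    rw [h3] at h1
    exact (hxrs i).1 (h1 ((hxrs j).2 hj)) hi
  -- `r` and `Phi(T)` are disjoint
  have hrPhi : ∀ j ∈ r, j ∉ Phi Z T := by
    rintro j ⟨o, ho, e⟩ hj
    apply hmv
    have h1 := hj (o * o₀ * o⁻¹) (hO (mul_mem (mul_mem ho ho₀) (inv_mem ho)))
    rw [← e, cj_cj] at h1
    have h2 : cj o⁻¹ (cj (o * o₀ * o⁻¹ * o) (Z i₀)) = cj o⁻¹ (cj o (Z i₀)) := by rw [h1]
    rw [cj_cj, cj_inv_cj] at h2
    have e2 : o⁻¹ * (o * o₀ * o⁻¹ * o) = o₀ := by group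
    rwa [e2] at h2
  -- the group `Z₀`
  set Z₀ : Subgroup G := ⨆ i ∈ Phi Z T, Z i with hZ₀
  have hZ₀J : Z₀ ≤ zj (S : Subgroup G) := iSup_le fun i => iSup_le fun _ => h.fr.Z_le i
  have hFZ₀ : F ≤ centralizer (Z₀ : Set G) := by
    rw [le_centralizer_iff]
    refine iSup_le fun i => iSup_le fun hi x hx => ?_
    refine hp.fix ⟨h.fr.Z_le i hx, mem_centralizer_iff.2 fun o ho => ?_⟩
    exact cent_of_cj h (hi o (hO ho)) hx
  have hBZ₀ : bau (S : Subgroup G) ≤ centralizer (Z₀ : Set G) :=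
    (Dich.bau_le_cent _).trans (centralizer_le (by exact_mod_cast hZ₀J))
  have hLZ₀ : ∀ j ∈ r, L j ≤ centralizer (Z₀ : Set G) := by
    intro j hj
    rw [le_centralizer_iff]
    refine iSup_le fun i => iSup_le fun hi x hx => ?_
    rw [mem_centralizer_iff]
    intro l hl
    have hij : j ≠ i := by
      rintro rfl
      exact hrPhi _ hj hi
    exact h.fr.LC j l hl x (h.fr.Z_le i hx) (Z_C h hij hx)
  -- (TI)
  have hti : ∀ i ∈ r, ∀ x ∈ W i, x ≠ 1 → ∀ f ∈ F, x ∈ cj f (⨆ j ∈ r, W j) → f ∈ M := by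
    intro i hi x hx hx1 f hf hxf
    obtain ⟨l, hl, hxl⟩ := UniPlus.cover_two (UniPlus.nb h.fr i) hx
    rw [mem_cj] at hxl hxf
    -- `C_G(Z₀ x) ≤ M`
    have hcx : ∀ u, u ∈ centralizer (Z₀ : Set G) → u * x = x * u → u ∈ M := by
      intro u hu hux
      have h1 : l⁻¹ * u * l ∈ M := by
        refine hcen i (hrPhi i hi) ?_
        rw [mem_centralizer_iff]
        intro y hy
        have h2 : ((⨆ i ∈ Phi Z T, Z i) ⊔ Z i : Subgroup G) ≤ centralizer ({l⁻¹ * u * l} : Set G) := by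
          refine sup_le ?_ fun y hy => ?_
          · have h3 : l⁻¹ * u * l ∈ centralizer (Z₀ : Set G) :=
              mul_mem (mul_mem (inv_mem (hLZ₀ i hi hl)) hu) (hLZ₀ i hi hl)
            intro y hy
            rw [mem_centralizer_singleton_iff]
            exact mem_centralizer_iff.1 h3 y hy
          · rw [mem_centralizer_singleton_iff]
            by_cases hy1 : y = 1
            · rw [hy1]; simp
            have h3 : l⁻¹ * x * l ≠ 1 := fun h4 => hx1 (by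
              have h5 := congrArg (fun t => l * t * l⁻¹) h4
              simpa [mul_assoc] using h5)
            have h4 := Z_eq h hy hxl hy1 h3
            rw [h4]
            have h5 := congrArg (fun t => l⁻¹ * t * l) hux
            simpa [mul_assoc] using h5.symm
        exact mem_centralizer_singleton_iff.1 (h2 hy)
      have h2 := mul_mem (mul_mem (hLM i hl) h1) (inv_mem (hLM i hl))
      have e : l * (l⁻¹ * u * l) * l⁻¹ = u := by group
      rwa [e] at h2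
    obtain ⟨m, hm, hmx⟩ := hmf.conj r _ hxf
    have hmM : m ∈ M := (iSup₂_le fun i (_ : i ∈ r) => hLM i : (⨆ i ∈ r, L i) ≤ M) hm
    have hmZ : m ∈ centralizer (Z₀ : Set G) :=
      (iSup₂_le fun i (hi : i ∈ r) => hLZ₀ i hi : (⨆ i ∈ r, L i) ≤ centralizer (Z₀ : Set G)) hm
    have hg : f * m⁻¹ ∈ M := by
      refine mem_of_cj_bau_le S hSM hN ?_
      rintro _ ⟨b, hb, rfl⟩
      refine hcx _ ?_ ?_
      · have hgZ : f * m⁻¹ ∈ centralizer (Z₀ : Set G) := mul_mem (hFZ₀ hf) (inv_mem hmZ)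
        exact mul_mem (mul_mem hgZ (hBZ₀ hb)) (inv_mem hgZ)
      · have h1 := (mem_bau.1 hb).2 _ hmx
        change (f * m⁻¹) * b * (f * m⁻¹)⁻¹ * x = x * ((f * m⁻¹) * b * (f * m⁻¹)⁻¹)
        have h2 := congrArg (fun t => (f * m⁻¹) * t * (f * m⁻¹)⁻¹) h1
        have e1 : (f * m⁻¹) * (m * (f⁻¹ * x * f) * m⁻¹ * b) * (f * m⁻¹)⁻¹ =
          x * ((f * m⁻¹) * b * (f * m⁻¹)⁻¹) := by group
        have e2 : (f * m⁻¹) * (b * (m * (f⁻¹ * x * f) * m⁻¹)) * (f * m⁻¹)⁻¹ =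
          (f * m⁻¹) * b * (f * m⁻¹)⁻¹ * x := by group
        have h3 : (f * m⁻¹) * (m * (f⁻¹ * x * f) * m⁻¹ * b) * (f * m⁻¹)⁻¹ =
            (f * m⁻¹) * (b * (m * (f⁻¹ * x * f) * m⁻¹)) * (f * m⁻¹)⁻¹ := by
          first
            | exact h2
            | exact h2.symm
        rw [e1, e2] at h3
        exact h3.symm
    have h3 := mul_mem hg hmM
    have e : f * m⁻¹ * m = f := by group
    rwa [e] at h3
  have hsup : (⨆ j : r, W j) = ⨆ j ∈ r, W j := iSup_subtype' (f := fun j (_ : j ∈ r) => W j) |>.symm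
  have hWV : ∀ i, W i ≤ zl (S : Subgroup G) P := h.fr.WV
  refine ⟨T, F, F ⊓ M, r, fun i => W i, fun i => z i, ?_⟩
  refine
    { syl := hp.syl
      TF₀ := le_inf hTF hTM
      F₀F := lt_of_le_of_ne inf_le_left fun e => hp.nM (inf_eq_left.1 e)
      max := fun K hTK hKF => le_inf hKF.le (hp.min K hTK hKF)
      nJ := ?_
      fin := inferInstance
      two := ⟨⟨i₀, hi₀⟩, ⟨j₀, hj₀r⟩, fun e => hne₀ (congrArg Subtype.val e)⟩
      card := fun i => by rw [(h.fr.blk i).card, h.fr.cardZ]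
      zV := fun i => Z_W h _ (hz i)
      z1 := fun i => hz1 i
      VO := fun i => (hWV i).trans hp.VO
      sq := fun i x hx => by
        rw [← pow_two]
        exact SQ1.Bau.elem_sq h.fr.el x (hWV i hx)
      comm := fun f hf i j x hx y hy => comm_of_pair h hp hf (hWV i hx) (hWV j hy)
      ind := ?_
      perm := ?_
      tr := ?_
      act := fun X hX a ha i x hx => hmf.act X (AA_two S hp.syl.2.1 hp.BT hX) a ha i x hx (z i) (hz i) (hz1 i)
      hat := ?_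
      mov := ?_
      zc := ?_
      ti := ?_ }
  · by_contra hcon
    push Not at hcon
    apply hp.nJ
    rw [← LemmaK.Main.jj_eq S hp.syl.2.1 hp.BT, Cfsg.Agent.ZN.ChoiceBase.jj_eq]
    exact sSup_le hcon
  · rintro ⟨i, hi⟩ x hx hx'
    have h1 : (⨆ j : r, ⨆ _ : j ≠ ⟨i, hi⟩, W j) ≤ C i := by
      refine iSup_le fun j => iSup_le fun hj => ?_
      exact h.fr.WjC i j fun e => hj (Subtype.ext e.symm)
    have h2 : x ∈ W i ⊓ C i := mem_inf.2 ⟨hx, h1 hx'⟩
    rwa [h.fr.dir i, mem_bot] at h2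
  · rintro t ht ⟨i, hi⟩
    obtain ⟨j, h1, h2, -⟩ := perm h (hTN ht) i
    exact ⟨⟨j, hrT t ht i j h1 hi⟩, h2, conj_gen h h1 (hz i) (hz1 i) (hz j) (hz1 j)⟩
  · rintro ⟨i, o, ho, e⟩ ⟨j, o', ho', e'⟩
    refine ⟨o' * o⁻¹, mul_mem ho' (inv_mem ho), ?_⟩
    exact W_cj h (hON (mul_mem ho' (inv_mem ho))) (cj_mul_eq (cj_inv_eq e) e')
  · rintro X hX ⟨i, hi⟩ hmv'
    obtain ⟨a, ha, h1, h2⟩ := hmf.hat X (AA_two S hp.syl.2.1 hp.BT hX) i hmv'
    exact ⟨a, ha, h1, fun j hj x hx => h2 j (fun e => hj (Subtype.ext e)) x hx⟩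
  · rintro ⟨i, hi⟩
    have h1 : A i ∈ AA T := by
      rw [mem_AA_iff]
      refine ⟨h.fr.Ael i, (h.fr.AB i).trans hp.BT, ?_⟩
      rw [mm_two S hp.syl.2.1 hp.BT, h.fr.Am i]
    have h2 := h.fr.Ane i
    push Not at h2
    obtain ⟨a, ha, v, hv, hne⟩ := h2
    exact ⟨A i, h1, a, ha, v, hv, hne⟩
  · rintro ⟨i, hi⟩ ⟨j, hj⟩ hij hall f hf
    have hij' : i ≠ j := fun e => hij (Subtype.ext e)
    have hall' : ∀ k ∈ r, k = i ∨ k = j := by
      intro k hk
      rcases hall ⟨k, hk⟩ with e | e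
      · exact Or.inl (congrArg Subtype.val e)
      · exact Or.inr (congrArg Subtype.val e)
    refine hsuppF (z i * z j) (mul_mem (h.fr.Z_le i (hz i)) (h.fr.Z_le j (hz j))) (fun k => ?_) f hf
    by_cases hki : k = i
    · subst hki
      rw [Subgroup.mul_mem_cancel_right _ (Z_C h hij' (hz j))]
      exact ⟨fun h1 => absurd h1 (not_mem_C h (hz k) (hz1 k)), fun h1 => absurd hi h1⟩
    · by_cases hkj : k = j
      · subst hkj
        rw [Subgroup.mul_mem_cancel_left _ (Z_C h hki (hz i))]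
        exact ⟨fun h1 => absurd h1 (not_mem_C h (hz k) (hz1 k)), fun h1 => absurd hj h1⟩
      · refine ⟨fun _ hk => ?_, fun _ => mul_mem (Z_C h hki (hz i)) (Z_C h hkj (hz j))⟩
        rcases hall' k hk with e | e
        · exact hki e
        · exact hkj e
  · rintro ⟨i, hi⟩ x hx hx1 f hf hxf
    rw [hsup] at hxf
    exact mem_inf.2 ⟨hf, hti i hi x hx hx1 f hf hxf⟩

/-- The conclusion of STEPS 1 and 2 (helper394). -/
def SitFalse : Prop :=
  ∀ (G : Type u) [Group G] [Finite G] (F T F₀ : Subgroup G) (κ : Type) (V : κ → Subgroup G) (z : κ → G),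
    Sit F T F₀ V z → False

/-- **THEOREM SW**: every subgroup of characteristic 2 over `B` is contained in every `M ≥ K0, N_G(B)`. -/
theorem le_of_char2 (hs : SitFalse.{u}) (h : Line S P L W Z C A 2) (hmf : MF (S : Subgroup G) L W Z)
    (hFF : FFThm.Stmt.{u}) (hA : FFBr.AStmt.{u}) {M H : Subgroup G}
    (hK : K0 (S : Subgroup G) (FBlk (S : Subgroup G)) ≤ M) (hN : normalizer (bau (S : Subgroup G) : Set G) ≤ M)
    (hB : bau (S : Subgroup G) ≤ H) (hc : H ⊓ centralizer (o2 H : Set G) ≤ o2 H) : H ≤ M := by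
  by_contra hM
  obtain ⟨T, F, F₀, κ, V, z, hS⟩ := exists_sit h hmf hFF hA hK hN hB hc hM
  exact hs G F T F₀ κ V z hS

/-- **(Om) is impossible for `q = 2`**: `K0` normalises no nontrivial 2-subgroup. -/
theorem noOm (hs : SitFalse.{u}) (h : Line S P L W Z C A 2) (hmf : MF (S : Subgroup G) L W Z)
    (hFF : FFThm.Stmt.{u}) (hA : FFBr.AStmt.{u}) :
    ∀ R : Subgroup G, IsPGroup 2 R → K0 (S : Subgroup G) (FBlk (S : Subgroup G)) ≤ normalizer (R : Set G) →
      R = ⊥ := by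
  rcases h.cases hFF with hE | ⟨M, hM, ho, -, hK, hD, -, hN, hS, hP⟩
  · exact hE
  exfalso
  have h1 := MinPar.isLoc_centralizer_zc S h.S_ne
  have h2 : FrameNOFF.CZ (S : Subgroup G) ≤ M :=
    le_of_char2 hs h hmf hFF hA hK hN ((bau_le _).trans h1.le) (h1.char2 S h.hyp.ctx.char2)
  apply ho
  refine h.hyp.nonLoc _ (isPGroup_o2 _) ?_ ?_
  · rw [← hM]; exact hP
  · rw [← hM]; exact h2

end line

end Cfsg.Agent.Omega.OM.Swap
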