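import Cfsg.Agent.Mrg.Omega.OM.FrSym
import Cfsg.Agent.Mrg.Omega.OM.FixPt
import Cfsg.Agent.Mrg.Omega.NOne.LemmaT
import Mathlib
import Cfsg.Agent.Omega.NO3S.ThmB.End.Auto
import Cfsg.Agent.Omega.NO3S.ThmB.End.AutTwo
import Cfsg.Agent.Mrg.Omega.NO3S.ThmB.Cyc

section


/-!
# THEOREM SW (#18741), STEP 0: pairs `(T, F)` inside every subgroup of characteristic 2 over `B` not contained in `M`
-/

set_option autoImplicit false

namespace Cfsg.Agent.Omega.OM.Swap

open Subgroup Cfsg Cfsg.Agent.ZN.ChoiceBase Cfsg.Agent.ZN.ChoiceSit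
open Cfsg.Agent.ZN (jj zj bau zc zl o2)
open Cfsg.Agent.MinSimple.MinParabolic (IsMinPar)
open Cfsg.Agent.MinSimple.VModule (oddGen oddGen_le)
open Cfsg.Agent.Omega.OM.Dich (K0)
open Cfsg.Agent.Omega.OM.BlkGen (FBlk)

universe u

variable {G : Type u} [Group G] [Finite G]

/-- **(F1)** a conjugate of `B` inside `M` is a conjugate by an element of `M`. -/
theorem mem_of_cj_bau_le (S : Sylow 2 G) {M : Subgroup G} (hSM : (S : Subgroup G) ≤ M)
    (hN : normalizer (bau (S : Subgroup G) : Set G) ≤ M) {g : G} (h : cj g (bau (S : Subgroup G)) ≤ M) : g ∈ M := by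
  have hS : Syl (S : Subgroup G) M := ⟨hSM, S.isPGroup', fun Q _ hQ hle => S.is_maximal' hQ hle⟩
  have h2 : IsPGroup 2 (cj g (bau (S : Subgroup G))) := isPGroup_cj g (S.isPGroup'.to_le (bau_le _))
  obtain ⟨T, hT, hle⟩ := exists_syl h2 h
  obtain ⟨m, hm, rfl⟩ := syl_conj hS hT
  have h3 : bau (S : Subgroup G) ≤ cj (g⁻¹ * m) (S : Subgroup G) := by
    rw [← cj_cj]
    exact cj_le_iff.1 hle
  have h4 := LemmaK.Main.bau_eq S (isPGroup_cj _ S.isPGroup') h3
  rw [bau_cj] at h4
  have h5 : g⁻¹ * m ∈ M := hN (mem_normalizer_iff_cj.2 h4)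
  have h6 := mul_mem hm (inv_mem h5)
  have e : m * (g⁻¹ * m)⁻¹ = g := by group
  rwa [e] at h6

/-- The pairs `(T, F)` of STEP 0. -/
structure Pair (S : Sylow 2 G) (P M T F : Subgroup G) : Prop where
  syl : Syl T F
  BT : bau (S : Subgroup G) ≤ T
  nM : ¬ F ≤ M
  min : ∀ K : Subgroup G, T ≤ K → K < F → K ≤ M
  nJ : ¬ jj (S : Subgroup G) ≤ o2 F
  VO : zl (S : Subgroup G) P ≤ o2 F
  fix : zj (S : Subgroup G) ⊓ centralizer (o2 F : Set G) ≤ centralizer (F : Set G)

theorem norm_jj_le (S : Sylow 2 G) {M : Subgroup G}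
    (hD : centralizer (zj (S : Subgroup G) : Set G) ≤ M) (hN : normalizer (bau (S : Subgroup G) : Set G) ≤ M) :
    normalizer (jj (S : Subgroup G) : Set G) ≤ M := by
  have h6 : normalizer (jj (S : Subgroup G) : Set G) ≤ normalizer (zj (S : Subgroup G) : Set G) := by
    have h7 := normalizer_le_of_cj (F := zj) zj_cj (jj (S : Subgroup G))
    have h8 : zj (jj (S : Subgroup G)) = zj (S : Subgroup G) :=
      zj_congr (jj_eq_of_jj_le le_rfl (jj_le _))
    rwa [h8] at h7
  exact h6.trans ((Dich.norm_zj_le S).trans (sup_le hD hN))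

theorem zj_le_bau (S : Subgroup G) : zj S ≤ bau S := by
  rw [← zc_bau]
  exact zc_le _

section line

variable {ι : Type} [Finite ι] {S : Sylow 2 G} {P : Subgroup G} {L W Z C A : ι → Subgroup G} {q : ℕ}

/-- a 2-group over `B` normalises `V`. -/
theorem two_norm (h : Line S P L W Z C A q) {T : Subgroup G} (hT : IsPGroup 2 T)
    (hB : bau (S : Subgroup G) ≤ T) : T ≤ normalizer (zl (S : Subgroup G) P : Set G) :=
  (Dich.two_le S hT hB).trans h.norm_le

theorem V_le_bau (h : Line S P L W Z C A q) : zl (S : Subgroup G) P ≤ bau (S : Subgroup G) :=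
  h.fr.VQ.trans h.fr.QB

/-- `V ≤ O₂(Y)` if `Y` centralises `Ω₁(Z(T))`, `B ≤ T ≤ Y`. -/
theorem V_le_o2 (h : Line S P L W Z C A q) {T Y : Subgroup G} (hT : IsPGroup 2 T)
    (hB : bau (S : Subgroup G) ≤ T) (hTY : T ≤ Y) (hY : Y ≤ centralizer (zc T : Set G)) :
    zl (S : Subgroup G) P ≤ o2 Y := by
  obtain ⟨S', hS'⟩ := hT.exists_le_sylow
  obtain ⟨g, hg⟩ := MulAction.exists_smul_eq G S S'
  have hg2 : (S' : Subgroup G) = cj g (S : Subgroup G) := by
    rw [← hg, Sylow.coe_subgroup_smul]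
    rfl
  have h1 := LemmaK.Main.bau_eq S S'.isPGroup' (hB.trans hS')
  have h2 := LemmaK.Main.zj_eq S S'.isPGroup' (hB.trans hS')
  have hgN : g ∈ normalizer (bau (S : Subgroup G) : Set G) := by
    rw [mem_normalizer_iff_cj, ← bau_cj, ← hg2, h1]
  have h3 : zc (S' : Subgroup G) ≤ zc T := by
    intro z hz
    have h4 : z ∈ T := by
      have := zc_le_zj _ hz
      rw [h2] at this
      exact hB (zj_le_bau _ this)
    obtain ⟨h5, h6, h7⟩ := mem_zc.1 hz
    exact mem_zc.2 ⟨h4, h6, fun y hy => h7 y (hS' hy)⟩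
  have h4 : Y ≤ centralizer (zc (S' : Subgroup G) : Set G) := hY.trans (centralizer_le h3)
  have h5 : zl (S : Subgroup G) P ≤ o2 (centralizer (zc (S' : Subgroup G) : Set G)) := by
    have h6 := cj_mono g (h.hyp.low P h.hyp.star)
    rw [(h.norm hgN).1, ← pCore_cj, cj_centralizer, ← LemmaK.Main.zc_cj, ← hg2] at h6
    exact h6
  have h6 : zl (S : Subgroup G) P ≤ o2 (centralizer (zc (S' : Subgroup G) : Set G)) ⊓ Y :=
    le_inf h5 (((V_le_bau h).trans hB).trans hTY)
  refine h6.trans (le_o2 ((isPGroup_o2 _).to_le inf_le_left) inf_le_right ?_)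
  intro y hy
  rw [mem_normalizer_iff_cj, cj_inf, cj_eq_of_mem_normalizer (le_normalizer_o2 _ (h4 hy)),
    cj_eq_of_mem_normalizer (le_normalizer hy)]

/-- **Existence of pairs.** -/
theorem exists_pair (h : Line S P L W Z C A q) (hFF : FFThm.Stmt.{u}) (hA : FFBr.AStmt.{u}) {M H : Subgroup G}
    (hK : K0 (S : Subgroup G) (FBlk (S : Subgroup G)) ≤ M) (hN : normalizer (bau (S : Subgroup G) : Set G) ≤ M)
    (hB : bau (S : Subgroup G) ≤ H) (hc : H ⊓ centralizer (o2 H : Set G) ≤ o2 H) (hM : ¬ H ≤ M) :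
    ∃ T F : Subgroup G, Pair S P M T F ∧ F ≤ H := by
  have : Fact (Nat.Prime 2) := ⟨Nat.prime_two⟩
  have hD : centralizer (zj (S : Subgroup G) : Set G) ≤ M := Dich.cent_le_K0.trans hK
  have hB2 : IsPGroup 2 (bau (S : Subgroup G)) := S.isPGroup'.to_le (bau_le _)
  obtain ⟨T₀, hT₀, hBT₀⟩ := exists_syl hB2 hB
  have hg := h.gen hFF hA hK hN hT₀ hBT₀ hc
  -- the minimal parabolic `Y`
  obtain ⟨Y, ⟨hYm, hYH, hYJ, hYc, -⟩, hYM⟩ : ∃ Y : Subgroup G, (IsMinPar T₀ Y ∧ Y ≤ H ∧ ¬ jj T₀ ≤ o2 Y ∧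
      Y ≤ centralizer (zc T₀ : Set G) ∧ ¬ o2 Y ≤ bau (S : Subgroup G)) ∧ ¬ Y ≤ M := by
    by_contra hcon
    push Not at hcon
    exact hM (hg.trans (sup_le inf_le_right (iSup_le fun Y => hcon Y.1 Y.2)))
  have hTM : T₀ ≤ M := (Dich.two_le S hT₀.2.1 hBT₀).trans hN
  have hTY : Syl T₀ Y := ⟨hYm.le, hT₀.2.1, fun Q hQ h2 hTQ => hT₀.2.2 Q (hQ.trans hYH) h2 hTQ⟩
  have hcY : Y ⊓ centralizer (o2 Y : Set G) ≤ o2 Y := by
    have h4 : o2 H ≤ o2 Y :=
      le_o2 (isPGroup_o2 H) ((o2_le_syl hT₀).trans hYm.le) (hYH.trans (le_normalizer_o2 H))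
    rintro x ⟨hx, hxc⟩
    exact h4 (hc ⟨hYH hx, centralizer_le (by exact_mod_cast h4) hxc⟩)
  have hVY : zl (S : Subgroup G) P ≤ o2 Y := V_le_o2 h hT₀.2.1 hBT₀ hYm.le hYc
  -- `Y₁ = O²(Y) O₂(Y) B`
  set Y₁ : Subgroup G := oddGen Y ⊔ (o2 Y ⊔ bau (S : Subgroup G)) with hY₁
  have hY₁Y : Y₁ ≤ Y := sup_le (oddGen_le Y) (sup_le (o2_le Y) (hBT₀.trans hYm.le))
  have hOB : IsPGroup 2 (o2 Y ⊔ bau (S : Subgroup G) : Subgroup G) :=
    hT₀.2.1.to_le (sup_le (o2_le_syl hTY) hBT₀)
  obtain ⟨T, hT, hOT⟩ := exists_syl hOB (le_sup_right : o2 Y ⊔ bau (S : Subgroup G) ≤ Y₁)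
  have hY₁M : ¬ Y₁ ≤ M := by
    intro hle
    apply hYM
    rw [← Dich.oddGen_sup_syl hTY]
    exact sup_le (le_sup_left.trans hle) hTM
  obtain ⟨F, hF⟩ := (Set.toFinite {K : Subgroup G | T ≤ K ∧ K ≤ Y₁ ∧ ¬ K ≤ M}).exists_minimal
    ⟨Y₁, hT.1, le_rfl, hY₁M⟩
  obtain ⟨hTF, hFY₁, hFM⟩ := hF.prop
  have hFY : F ≤ Y := hFY₁.trans hY₁Y
  have hsyl : Syl T F := ⟨hTF, hT.2.1, fun Q hQ h2 hle => hT.2.2 Q (hQ.trans hFY₁) h2 hle⟩
  have hBT : bau (S : Subgroup G) ≤ T := le_sup_right.trans hOT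
  have hOF : o2 Y ≤ o2 F :=
    le_o2 (isPGroup_o2 Y) ((le_sup_left.trans hOT).trans hTF) (hFY.trans (le_normalizer_o2 Y))
  refine ⟨T, F, ⟨hsyl, hBT, hFM, fun K hTK hKF => ?_, fun hJ => hFM ?_, hVY.trans hOF, ?_⟩, hFY.trans hYH⟩
  · by_contra hKM
    exact hKF.not_ge (hF.le_of_le ⟨hTK, hKF.le.trans hFY₁, hKM⟩ hKF.le)
  · have hjT : jj T = jj (S : Subgroup G) := LemmaK.Main.jj_eq S hT.2.1 hBT
    have h2 : jj (o2 F) = jj (S : Subgroup G) := by
      rw [← hjT]
      exact jj_eq_of_jj_le (hjT ▸ hJ) (o2_le_syl hsyl)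
    have h3 := (le_normalizer_o2 F).trans (normalizer_le_jj (o2 F))
    rw [h2] at h3
    exact h3.trans (norm_jj_le S hD hN)
  · rintro z ⟨hz, hzc⟩
    have hzB : z ∈ bau (S : Subgroup G) := zj_le_bau _ hz
    have hzO : ∀ y ∈ o2 Y, y * z = z * y := fun y hy => mem_centralizer_iff.1 hzc y (hOF hy)
    have hz1 : z ∈ zc (o2 Y) := by
      refine mem_zc.2 ⟨hcY ⟨hYm.le (hBT₀ hzB), mem_centralizer_iff.2 hzO⟩, (mem_zj.1 hz).2.1, hzO⟩
    have hz2 : z ∈ centralizer (oddGen Y : Set G) := FixPt.fixPt hA hTY hYm hYJ hYc hz1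
    have hle : Y₁ ≤ centralizer ({z} : Set G) := by
      refine sup_le (fun y hy => ?_) (sup_le (fun y hy => ?_) fun y hy => ?_) <;>
        rw [mem_centralizer_singleton_iff]
      · exact mem_centralizer_iff.1 hz2 y hy
      · exact hzO y hy
      · exact ((mem_bau.1 hy).2 z hz).symm
    rw [mem_centralizer_iff]
    intro y hy
    exact mem_centralizer_singleton_iff.1 (hle (hFY₁ hy))

/-- `C_G(X)` has characteristic 2 for a nontrivial 2-group `X`. -/
theorem char2_cent (hG : IsCharacteristicTwoType G) {X : Subgroup G} (hX : IsPGroup 2 X) (hX1 : X ≠ ⊥) :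
    centralizer (X : Set G) ⊓ centralizer (o2 (centralizer (X : Set G)) : Set G) ≤
      o2 (centralizer (X : Set G)) :=
  NOne.LemmaT.char2_of_normal (self_cent hG ⟨X, hX, hX1, rfl⟩) (centralizer_le_normalizer _)
    (Dich.norm_cent (A := X))

end line

end Cfsg.Agent.Omega.OM.Swap

end

section


/-!
# THEOREM Y (TCARD 5, D4): LEMMA C1 and step (8)

* `exists_blk_le` : a minimal parabolic `Y` over `T ≥ B` with `J(T) ≰ O₂(Y)` which moves `Ω₁(Z(T))` contains an FF-block
  over `B`;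
* `no_blk` : no FF-block over `B` centralises `Ω₁(Z(S))`;
* `Line.c1` : if `Ω₁(Z(S)) ≤ R ≤ Z_J` and `B` is a Sylow group of `C_G(R)`, then `C_G(R) ≤ N_G(Z_J)`;
* `Line.end8` : (8) of THEOREM Y.
-/

set_option autoImplicit false

namespace Cfsg.Agent.Omega.OM.YThm.End8

open Subgroup Cfsg Cfsg.Agent.ZN.ChoiceBase Cfsg.Agent.ZN.ChoiceSit
open Cfsg.Agent.ZN (jj zj bau zc zl o2)
open Cfsg.Agent.MinSimple.MinParabolic (IsMinPar)
open Cfsg.Agent.Omega.LemmaK (Block WeakNormal)
open Cfsg.Agent.Omega.LemmaK.Main (le_normalizer_bau)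
open Cfsg.Agent.Omega.OM Cfsg.Agent.Omega.OM.BlkGen
open Cfsg.Agent.Omega.OM.Uni (FB Fr)
open Cfsg.Agent.Omega.OM.BlkGen (FBlk)
open scoped Pointwise

universe u

variable {G : Type u} [Group G] [Finite G]

/-- A minimal parabolic which moves `Ω₁(Z(T))` contains an FF-block over `B`. -/
theorem exists_blk_le {T H : Subgroup G} (hFF : FFThm.Stmt.{u}) (S : Sylow 2 G) (hT : Syl T H)
    (hB : bau (S : Subgroup G) ≤ T) (hP : IsMinPar T H) (hc : H ⊓ centralizer (o2 H : Set G) ≤ o2 H)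
    (hJ : ¬ jj T ≤ o2 H) (hZ : ¬ H ≤ centralizer (zc T : Set G)) :
    ∃ L V, FBlk (S : Subgroup G) L V ∧ L ≤ H := by
  have hbau : bau T = bau (S : Subgroup G) := LemmaK.Main.bau_eq S hT.2.1 hB
  have hw : WeakNormal 2 (bau T) := by
    rw [hbau]
    exact fun R hR hBR => le_normalizer_bau S hR hBR
  obtain ⟨A, hA, hoff⟩ := exists_off hT hP hc hJ hZ
  obtain ⟨hno, hcon⟩ := hFF G T H hT hP hc ⟨A, hA.2.1.trans hT.1, hoff⟩
  have hm := SQ1.FFOne.minH_of hT hP hc
  rcases hcon with ⟨F, _, _, _, k, hk, ⟨M⟩⟩ | ⟨k, m, hk, hm2, ⟨M⟩⟩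
  · have : Nonempty (Fin k) := ⟨⟨0, hk⟩⟩
    set N := (SQ1.FFOne.natKB_of hT hc hJ hk M).toFFK hm with hN
    obtain ⟨E, hE⟩ := N.toInK hm
    obtain ⟨L, hL⟩ := hE.exists_blk ⟨0, hk⟩
    have hpb := FBK.pb hm N hE hw hL
    exact ⟨L, ⁅N.N ⟨0, hk⟩, L⁆, ⟨⟨_, _, by rw [← hbau]; exact hpb.fb⟩, by rw [← hbau]; exact hpb.block hw⟩,
      hL.LH hE⟩
  · have h := syT_of hm hJ M hk (by omega) SQ1.FFOf.cv_le SQ1.FFOf.cv_norm
    obtain ⟨ι, J, X, Y, t, r, c⟩ := h.exists_ch
    have hin := c.main h Cfsg.Agent.Omega.SQ1.SymCyc.exists_pow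
    obtain ⟨j, x, y, hTr⟩ := h.exists_tr
    obtain ⟨i, -⟩ := c.ex j x y hTr
    obtain ⟨L, hL⟩ := hin.exists_blk i
    have hpb := FBS.pb hin hw hL
    exact ⟨L, ⁅h.NN (J i) 0 (X i) (Y i), L⁆,
      ⟨⟨_, _, by rw [← hbau]; exact hpb.fb⟩, by rw [← hbau]; exact hpb.block hw⟩, hL.LH hin⟩

section line

variable {ι : Type} [Finite ι] {S : Sylow 2 G} {P : Subgroup G} {L W Z C A : ι → Subgroup G} {q : ℕ}

/-- No FF-block over `B` centralises `Ω₁(Z(S))`. -/
theorem no_blk (h : Line S P L W Z C A q) (htr : ∀ i j : ι, ∃ s ∈ (S : Subgroup G), cj s (Z i) = Z j)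
    {L' V' : Subgroup G} (hb : FBlk (S : Subgroup G) L' V') (hc : L' ≤ centralizer (zc (S : Subgroup G) : Set G)) :
    False := by
  have : Fact (Nat.Prime 2) := ⟨Nat.prime_two⟩
  -- one block gives an index
  have key : ∀ {L' V' Z' : Subgroup G} {q' : ℕ}, FB (bau (S : Subgroup G)) L' V' Z' q' →
      Block 2 (bau (S : Subgroup G)) L' V' → L' ≤ centralizer (zc (S : Subgroup G) : Set G) →
      ∃ i, Z' = Z i ∧ zc (S : Subgroup G) ≤ C i := by
    intro L' V' Z' q' h' hbl hc
    obtain ⟨-, i, hZ, -, ⟨-, h1, -⟩ | ⟨-, -, ⟨w', hw', w, hw, hne⟩, -⟩⟩ := h.uniPlus h'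
    · exact ⟨i, hZ, fun z hz => (h1 z (zc_le_zj _ hz)).2 fun l hl => (mem_centralizer_iff.1 (hc hl) z hz).symm⟩
    · exfalso
      have hH := h.hyp.low P h.hyp.star
      have h1 := hbl.le_centralizer (isPGroup_o2 (centralizer (zc (S : Subgroup G) : Set G)))
        (hc.trans (le_normalizer_o2 _))
      exact hne (mem_centralizer_iff.1 (h1 (hH (h.fr.WV i hw))) w' hw')
  obtain ⟨⟨Z', q', h'⟩, hbl⟩ := hb
  obtain ⟨i, hZ, -⟩ := key h' hbl hc
  have hall : ∀ j, zc (S : Subgroup G) ≤ C j := by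
    intro j
    obtain ⟨s, hs, hsZ⟩ := htr i j
    have hsB : cj s (bau (S : Subgroup G)) = bau (S : Subgroup G) :=
      cj_eq_of_mem_normalizer (Line.S_le S hs)
    have h1 := h'.conj s
    have h2 := block_conj hbl s
    rw [hsB] at h1 h2
    obtain ⟨j', hZ', hj'⟩ := key h1 h2 (by
      have h3 := cj_mono s hc
      rw [cj_centralizer] at h3
      have h4 : cj s (zc (S : Subgroup G)) = zc (S : Subgroup G) := by
        apply cj_eq_of_mem_normalizer
        refine (centralizer_le_normalizer _) ?_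
        rw [mem_centralizer_iff]
        exact fun z hz => ((mem_zc.1 hz).2.2 s hs).symm
      rwa [h4] at h3)
    rw [hZ, hsZ] at hZ'
    have hjj : j = j' := by
      by_contra hne
      have h5 : Z j ≤ W j ⊓ C j := le_inf (h.fr.blk j).ZV (by
        rw [hZ']
        exact (h.fr.blk j').ZV.trans (h.fr.WjC j j' hne))
      rw [h.fr.dir j] at h5
      have h6 := h.fr.cardZ j
      rw [le_bot_iff.1 h5, Subgroup.card_bot] at h6
      have h7 := (h.fr.blk j).one
      omega
    rw [hjj]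
    exact hj'
  have hne := zc_ne_bot (S.isPGroup') (h.S_ne)
  apply hne
  rw [eq_bot_iff]
  intro z hz
  rw [mem_bot]
  exact h.fr.C0 z (h.fr.ZJV (zc_le_zj _ hz)) fun j => hall j hz

/-- **LEMMA C1** -/
theorem _root_.Cfsg.Agent.Omega.OM.Line.c1 (h : Line S P L W Z C A q)
    (htr : ∀ i j : ι, ∃ s ∈ (S : Subgroup G), cj s (Z i) = Z j) (hFF : FFThm.Stmt.{u}) {R : Subgroup G}
    (hZR : zc (S : Subgroup G) ≤ R) (hR : R ≤ zj (S : Subgroup G))
    (hB : Syl (bau (S : Subgroup G)) (centralizer (R : Set G))) :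
    centralizer (R : Set G) ≤ normalizer (zj (S : Subgroup G) : Set G) := by
  have hR1 : R ≠ ⊥ := fun e => zc_ne_bot (S.isPGroup') (h.S_ne) (le_bot_iff.1 (e ▸ hZR))
  have hR2 : IsPGroup 2 R := S.isPGroup'.to_le (hR.trans ((Swap.zj_le_bau _).trans (bau_le _)))
  have hcH := Swap.char2_cent h.hyp.ctx.char2 hR2 hR1
  refine MinSimple.MinParabolic.le_of_forall hB.1 (inf_le_right.trans (Dich.norm_zj _)) fun Y hY hYH => ?_
  have hTY : Syl (bau (S : Subgroup G)) Y :=
    ⟨hY.le, hB.2.1, fun Q hQ h2 hTQ => hB.2.2 Q (hQ.trans hYH) h2 hTQ⟩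
  have hjj : jj (bau (S : Subgroup G)) = jj (S : Subgroup G) := LemmaK.Main.jj_eq S hB.2.1 le_rfl
  by_cases h1 : jj (bau (S : Subgroup G)) ≤ o2 Y
  · have h2 : o2 Y ≤ bau (S : Subgroup G) := o2_le_syl hTY
    have h3 : jj (o2 Y) = jj (bau (S : Subgroup G)) := jj_eq_of_jj_le h1 h2
    have h4 : Y ≤ normalizer (jj (S : Subgroup G) : Set G) := by
      rw [← hjj, ← h3]
      exact (le_normalizer_o2 Y).trans (normalizer_le_jj _)
    have h6 : normalizer (jj (S : Subgroup G) : Set G) ≤ normalizer (zj (S : Subgroup G) : Set G) := by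
      have h7 := normalizer_le_of_cj (F := zj) zj_cj (jj (S : Subgroup G))
      have h8 : zj (jj (S : Subgroup G)) = zj (S : Subgroup G) :=
        zj_congr (jj_eq_of_jj_le le_rfl (jj_le _))
      rwa [h8] at h7
    exact h4.trans h6
  by_cases h2 : Y ≤ centralizer (zc (bau (S : Subgroup G)) : Set G)
  · rw [h.fr.zcB] at h2
    exact h2.trans (centralizer_le_normalizer _)
  exfalso
  have h4 : o2 (centralizer (R : Set G)) ≤ o2 Y :=
    le_o2 (isPGroup_o2 _) ((o2_le_syl hB).trans hY.le) (hYH.trans (le_normalizer_o2 _))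
  have hcY : Y ⊓ centralizer (o2 Y : Set G) ≤ o2 Y := by
    rintro x ⟨hx, hxc⟩
    exact h4 (hcH ⟨hYH hx, centralizer_le (by exact_mod_cast h4) hxc⟩)
  obtain ⟨L', V', hb, hLY⟩ := exists_blk_le hFF S hTY le_rfl hY hcY h1 h2
  exact no_blk h htr hb (hLY.trans (hYH.trans (centralizer_le (by exact_mod_cast hZR))))

/-- The exceptional configuration of THEOREM Y. -/
def FourF (S : Subgroup G) (q : ℕ) : Prop :=
  q = 4 ∧ ∃ t ∈ normalizer (bau S : Set G), (∃ n : ℕ, t ^ 2 ^ n = 1) ∧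
    Nat.card (zj S) = 2 * Nat.card ↥(zj S ⊓ centralizer ({t} : Set G))

/-- Field part of (8): `|F : {x | a σ(x) = x}| = 2` and `|F| ≥ 4` ⟹ `|F| = 4`. -/
theorem card_four {F : Type} [Field F] [Finite F] (h4 : 4 ≤ Nat.card F) (a : F)
    (σ : F ≃+* F) {δ : F} (hδ : ∀ x, a * σ x = x ∨ a * σ x = x + δ) (hne : ∃ x, a * σ x ≠ x) :
    Nat.card F = 4 := by
  classical
  -- the fixed elements
  let K : AddSubgroup F :=
    { carrier := {x | a * σ x = x}
      zero_mem' := by simp
      add_mem' := fun {x y} hx hy => by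
        change a * σ (x + y) = x + y
        rw [map_add, mul_add, hx, hy]
      neg_mem' := fun {x} hx => by
        change a * σ (-x) = -x
        rw [map_neg, mul_neg, hx] }
  have hK : ∀ x, x ∈ K ↔ a * σ x = x := fun x => Iff.rfl
  obtain ⟨x₀, hx₀⟩ := hne
  -- `|F| ≤ 2 |K|`
  have h1 : Nat.card F ≤ 2 * Nat.card K := by
    have hsub : (Set.univ : Set F) ⊆ (K : Set F) ∪ (fun k => k + x₀) '' (K : Set F) := by
      intro x _
      rcases hδ x with h | h
      · exact Or.inl h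
      · right
        refine ⟨x - x₀, ?_, sub_add_cancel x x₀⟩
        have h0 := (hδ x₀).resolve_left hx₀
        change a * σ (x - x₀) = x - x₀
        rw [map_sub, mul_sub, h, h0]
        ring
    have e1 := Set.ncard_le_ncard hsub (Set.toFinite _)
    have e2 := Set.ncard_union_le (K : Set F) ((fun k => k + x₀) '' (K : Set F))
    have e3 := Set.ncard_image_le (f := fun k => k + x₀) (Set.toFinite (K : Set F))
    have e4 : (K : Set F).ncard = Nat.card K := (Nat.card_coe_set_eq _).symm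
    rw [Set.ncard_univ] at e1
    rw [e4] at e2 e3
    omega
  have h2 : 2 ≤ Nat.card K := by omega
  -- a nonzero fixed element
  obtain ⟨y, hy, hy0⟩ : ∃ y ∈ K, y ≠ 0 := by
    by_contra hc
    push Not at hc
    have : K = ⊥ := (AddSubgroup.eq_bot_iff_forall K).2 hc
    rw [this, AddSubgroup.card_bot] at h2
    omega
  -- the fixed field of `σ`
  let F₀ : Subfield F :=
    { carrier := {x | σ x = x}
      mul_mem' := fun {x y} hx hy => by change σ (x * y) = x * y; rw [map_mul, hx, hy]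
      one_mem' := map_one σ
      add_mem' := fun {x y} hx hy => by change σ (x + y) = x + y; rw [map_add, hx, hy]
      zero_mem' := map_zero σ
      neg_mem' := fun {x} hx => by change σ (-x) = -x; rw [map_neg, hx]
      inv_mem' := fun x hx => by change σ x⁻¹ = x⁻¹; rw [map_inv₀, hx] }
  have hy' := (hK y).1 hy
  have hσy : σ y ≠ 0 := by
    rw [Ne, map_eq_zero]; exact hy0
  have ha : a = y / σ y := by rw [eq_div_iff hσy]; exact hy'
  have h3 : Nat.card K ≤ Nat.card F₀ := by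
    refine Nat.card_le_card_of_injective (fun x : K => (⟨(x : F) / y, ?_⟩ : F₀)) ?_
    · change σ ((x : F) / y) = (x : F) / y
      have hx := (hK x).1 x.2
      rw [map_div₀, div_eq_div_iff hσy hy0]
      rw [ha, div_mul_eq_mul_div, div_eq_iff hσy] at hx
      rw [mul_comm (σ (x : F)) y, hx]
    · intro x x' hxx
      have : (x : F) / y = (x' : F) / y := congrArg Subtype.val hxx
      exact Subtype.ext ((div_left_inj' hy0).1 this)
  have h4' : F₀ ≠ ⊤ := by
    intro e
    have hs : ∀ x, σ x = x := fun x => by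
      have : x ∈ F₀ := by rw [e]; exact Subfield.mem_top x
      exact this
    apply hx₀
    rw [hs] at hy' ⊢
    have ha1 : a = 1 := by
      have : a * y = 1 * y := by rw [hy', one_mul]
      exact mul_right_cancel₀ hy0 this
    rw [ha1, one_mul]
  -- `|F₀|² ≤ |F|`
  have h5 : Nat.card F₀ * Nat.card F₀ ≤ Nat.card F := by
    have hfin : Module.Finite F₀ F := Module.Finite.of_finite
    have e1 := Module.natCard_eq_pow_finrank (K := F₀) (V := F)
    have e2 : 1 < Module.finrank F₀ F := by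
      by_contra hc
      have e3 : 0 < Module.finrank F₀ F := Module.finrank_pos
      have e4 : Module.finrank F₀ F = 1 := by omega
      rw [e4, pow_one] at e1
      apply h4'
      have e5 : (F₀ : Set F) = Set.univ := by
        apply Set.eq_of_subset_of_ncard_le (Set.subset_univ _) _ (Set.toFinite _)
        rw [Set.ncard_univ, e1]
        exact (Nat.card_coe_set_eq (F₀ : Set F)).le
      exact SetLike.coe_injective (by rw [e5]; rfl)
    rw [e1]
    have e6 : 0 < Nat.card F₀ := Nat.card_pos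
    calc Nat.card F₀ * Nat.card F₀ = Nat.card F₀ ^ 2 := (pow_two _).symm
      _ ≤ Nat.card F₀ ^ Module.finrank F₀ F := Nat.pow_le_pow_right e6 e2
  have h6 : Nat.card F₀ ≤ 2 := by
    have e1 : 0 < Nat.card F₀ := Nat.card_pos
    have e2 : Nat.card F₀ * Nat.card F₀ ≤ Nat.card F₀ * 2 := by
      calc Nat.card F₀ * Nat.card F₀ ≤ Nat.card F := h5
        _ ≤ 2 * Nat.card K := h1
        _ ≤ 2 * Nat.card F₀ := Nat.mul_le_mul_left _ h3
        _ = Nat.card F₀ * 2 := mul_comm _ _
    exact Nat.le_of_mul_le_mul_left e2 e1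
  omega

/-- (8) -/
theorem _root_.Cfsg.Agent.Omega.OM.Line.end8 (h : Line S P L W Z C A q)
    (htr : ∀ i j : ι, ∃ s ∈ (S : Subgroup G), cj s (Z i) = Z j) (hFF : FFThm.Stmt.{u}) (hq : 4 ≤ q)
    {F : Type} [Field F] [Finite F] (hF : Nat.card F = q) {k : ℕ} (e : G → Fin k → F)
    (emul : ∀ z ∈ zj (S : Subgroup G), ∀ w ∈ zj (S : Subgroup G), e (z * w) = e z + e w)
    (esurj : ∀ x : Fin k → F, ∃ z ∈ zj (S : Subgroup G), e z = x)
    (einj : ∀ z ∈ zj (S : Subgroup G), e z = 0 → z = 1)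
    (hsem : ∀ t ∈ normalizer (bau (S : Subgroup G) : Set G), ∃ (π : Equiv.Perm (Fin k)) (a : Fin k → F)
      (σ : Fin k → F ≃+* F), ∀ z ∈ zj (S : Subgroup G), ∀ i, e (t * z * t⁻¹) (π i) = a i * σ i (e z i))
    {R : Subgroup G} (hZR : zc (S : Subgroup G) ≤ R) (hR : R ≤ zj (S : Subgroup G))
    (hcR : Nat.card (zj (S : Subgroup G)) ≤ 2 * Nat.card R) {g : G} (hg : g ∈ centralizer (R : Set G))
    (hgn : g ∉ normalizer (zj (S : Subgroup G) : Set G)) : FourF (S : Subgroup G) q := by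
  classical
  have : Fact (Nat.Prime 2) := ⟨Nat.prime_two⟩
  have hBR : bau (S : Subgroup G) ≤ centralizer (R : Set G) :=
    (Dich.bau_le_cent _).trans (centralizer_le (by exact_mod_cast hR))
  obtain ⟨T, hT, hBT⟩ := exists_syl (S.isPGroup'.to_le (bau_le _)) hBR
  -- `T` moves `Z_J`
  obtain ⟨t, ht, z₀, hz₀, hne⟩ : ∃ t ∈ T, ∃ z ∈ zj (S : Subgroup G), t * z ≠ z * t := by
    by_contra hc
    push Not at hc
    have h1 : T ≤ centralizer (zj (S : Subgroup G) : Set G) := fun t ht =>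
      mem_centralizer_iff.2 fun z hz => (hc t ht z hz).symm
    have h2 := (Dich.syl S).2.2 T h1 hT.2.1 hBT
    rw [h2] at hT
    exact hgn (h.c1 htr hFF hZR hR hT hg)
  have htB : t ∈ normalizer (bau (S : Subgroup G) : Set G) := Dich.two_le S hT.2.1 hBT ht
  have htZ : ∀ z ∈ zj (S : Subgroup G), t * z * t⁻¹ ∈ zj (S : Subgroup G) := fun z hz =>
    (mem_normalizer_iff.1 (Dich.norm_zj _ htB) z).1 hz
  have htR : ∀ r ∈ R, t * r = r * t := fun r hr => (mem_centralizer_iff.1 (hT.1 ht) r hr).symm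
  obtain ⟨n, hn⟩ := hT.2.1 ⟨t, ht⟩
  have htn : t ^ 2 ^ n = 1 := congrArg Subtype.val hn
  have hz₀R : z₀ ∉ R := fun hr => hne (htR _ hr)
  -- `Z_J = R ∪ R z₀`
  have hcov : ∀ z ∈ zj (S : Subgroup G), z ∈ R ∨ ∃ r ∈ R, z = r * z₀ := by
    intro z hz
    by_contra hc
    push Not at hc
    obtain ⟨hzR, hzR'⟩ := hc
    have hinj : Function.Injective fun x : Fin 3 × R => (⟨(x.2 : G) * ![1, z₀, z] x.1,
        mul_mem (hR x.2.2) (by
          obtain ⟨i, r⟩ := x
          fin_cases i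
          · exact one_mem _
          · exact hz₀
          · exact hz)⟩ : zj (S : Subgroup G)) := by
      rintro ⟨i, r⟩ ⟨j, r'⟩ hxy
      have h1 : (r : G) * ![1, z₀, z] i = (r' : G) * ![1, z₀, z] j := congrArg Subtype.val hxy
      have h2 : ((r' : G)⁻¹ * (r : G)) ∈ R := mul_mem (inv_mem r'.2) r.2
      have h2' : ((r : G)⁻¹ * (r' : G)) ∈ R := mul_mem (inv_mem r.2) r'.2
      have h3 : ∀ (u v : G) (s s' : G), s * u = s' * v → v = (s'⁻¹ * s) * u := by
        intro u v s s' hs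
        rw [mul_assoc, hs]; group
      fin_cases i <;> fin_cases j
      · simp only [Fin.zero_eta, Matrix.cons_val_zero, mul_one] at h1
        exact Prod.ext rfl (Subtype.ext h1)
      · exfalso
        have h4 : z₀ = ((r' : G)⁻¹ * (r : G)) * 1 := h3 _ _ r r' h1
        rw [mul_one] at h4
        exact hz₀R (h4 ▸ h2)
      · exfalso
        have h4 : z = ((r' : G)⁻¹ * (r : G)) * 1 := h3 _ _ r r' h1
        rw [mul_one] at h4
        exact hzR (h4 ▸ h2)
      · exfalso
        have h4 : z₀ = ((r : G)⁻¹ * (r' : G)) * 1 := h3 _ _ r' r h1.symm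
        rw [mul_one] at h4
        exact hz₀R (h4 ▸ h2')
      · exact Prod.ext rfl (Subtype.ext (mul_right_cancel h1))
      · exfalso
        exact hzR' _ h2 (h3 z₀ z r r' h1)
      · exfalso
        have h4 : z = ((r : G)⁻¹ * (r' : G)) * 1 := h3 _ _ r' r h1.symm
        rw [mul_one] at h4
        exact hzR (h4 ▸ h2')
      · exfalso
        exact hzR' _ h2' (h3 z₀ z r' r h1.symm)
      · exact Prod.ext rfl (Subtype.ext (mul_right_cancel h1))
    have h5 := Nat.card_le_card_of_injective _ hinj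
    rw [Nat.card_prod, Nat.card_eq_fintype_card, Fintype.card_fin] at h5
    have h6 : 0 < Nat.card R := Nat.card_pos
    omega
  -- the commutator
  set d : G := t * z₀ * t⁻¹ * z₀⁻¹ with hd
  have hcomm : ∀ z ∈ zj (S : Subgroup G), t * z * t⁻¹ = z ∨ t * z * t⁻¹ = d * z := by
    intro z hz
    rcases hcov z hz with hr | ⟨r, hr, rfl⟩
    · left
      rw [htR z hr, mul_inv_cancel_right]
    · right
      have h1 : d * r = r * d := by
        have h2 : ∀ x ∈ zj (S : Subgroup G), ∀ y ∈ zj (S : Subgroup G), x * y = y * x := fun x hx y hy =>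
          h.fr.Vc (h.fr.ZJV hx) (h.fr.ZJV hy)
        exact h2 _ (mul_mem (htZ _ hz₀) (inv_mem hz₀)) _ (hR hr)
      calc t * (r * z₀) * t⁻¹ = (t * r) * z₀ * t⁻¹ := by group
        _ = r * d * z₀ := by rw [htR r hr, hd]; group
        _ = d * (r * z₀) := by rw [← h1]; group
  have hdZ : d ∈ zj (S : Subgroup G) := mul_mem (htZ _ hz₀) (inv_mem hz₀)
  have hd1 : d ≠ 1 := by
    intro e1
    apply hne
    rw [hd, mul_inv_eq_one, mul_inv_eq_iff_eq_mul] at e1
    exact e1
  have hed : e d ≠ 0 := fun e1 => hd1 (einj d hdZ e1)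
  obtain ⟨π, a, σ, hs⟩ := hsem t htB
  have hcomm' : ∀ z ∈ zj (S : Subgroup G), e (t * z * t⁻¹) = e z ∨ e (t * z * t⁻¹) = e d + e z := by
    intro z hz
    rcases hcomm z hz with h1 | h1
    · left; rw [h1]
    · right; rw [h1, emul d hdZ z hz]
  have h0 : ∀ i, σ i 0 = 0 := fun i => map_zero _
  have ha : ∀ i, a i ≠ 0 := by
    intro i hai
    obtain ⟨z, hz, hez⟩ := esurj (Pi.single i 1)
    have h1 : e (t * z * t⁻¹) = 0 := by
      funext j
      obtain ⟨j, rfl⟩ := π.surjective j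
      rw [hs z hz j, hez]
      by_cases hji : j = i
      · subst hji; rw [hai, zero_mul]; rfl
      · rw [Pi.single_eq_of_ne hji, h0, mul_zero]; rfl
    have h2 := einj _ (htZ z hz) h1
    have h3 : z = 1 := by
      have : z = t⁻¹ * (t * z * t⁻¹) * t := by group
      rw [this, h2]; group
    have h4 : e (1 : G) = 0 := by
      have := emul 1 (one_mem _) 1 (one_mem _)
      rw [mul_one] at this
      exact left_eq_add.1 this
    rw [h3, h4] at hez
    have := congrFun hez i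
    rw [Pi.single_eq_same] at this
    exact zero_ne_one this
  have hF4 : 4 ≤ Nat.card F := by rw [hF]; exact hq
  -- `π = 1`
  have hπ : ∀ i, π i = i := by
    intro i
    by_contra hπi
    have hsub : (Set.univ : Set F) ⊆ {0, (a i)⁻¹ * e d (π i)} := by
      intro x _
      -- x = σ i y
      obtain ⟨y, rfl⟩ := (σ i).surjective x
      obtain ⟨z, hz, hez⟩ := esurj (Pi.single i y)
      have h1 := hs z hz i
      have h2 : e z (π i) = 0 := by rw [hez, Pi.single_eq_of_ne hπi]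
      rw [hez, Pi.single_eq_same] at h1
      rw [Set.mem_insert_iff, Set.mem_singleton_iff]
      rcases hcomm' z hz with h3 | h3
      · left
        have h4 := congrFun h3 (π i)
        rw [h1, h2] at h4
        exact (mul_eq_zero.1 h4).resolve_left (ha i)
      · right
        have h4 := congrFun h3 (π i)
        rw [h1, Pi.add_apply, h2, add_zero] at h4
        rw [← h4, inv_mul_cancel_left₀ (ha i)]
    have e1 := Set.ncard_le_ncard hsub (Set.toFinite _)
    rw [Set.ncard_univ] at e1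
    have e2 := Set.ncard_insert_le (0 : F) {(a i)⁻¹ * e d (π i)}
    rw [Set.ncard_singleton] at e2
    omega
  -- one index
  obtain ⟨i, hi⟩ : ∃ i, e d i ≠ 0 := by
    by_contra hc
    push Not at hc
    exact hed (funext hc)
  have hfour : Nat.card F = 4 := by
    refine card_four hF4 (a i) (σ i) (δ := e d i) (fun x => ?_) ?_
    · obtain ⟨z, hz, hez⟩ := esurj (Pi.single i x)
      have h1 := hs z hz i
      rw [hπ i, hez, Pi.single_eq_same] at h1
      rcases hcomm' z hz with h3 | h3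
      · left
        have h4 := congrFun h3 i
        rw [h1, hez, Pi.single_eq_same] at h4
        exact h4
      · right
        have h4 := congrFun h3 i
        rw [h1, Pi.add_apply, hez, Pi.single_eq_same] at h4
        rw [h4, add_comm]
    · refine ⟨e z₀ i, fun h1 => ?_⟩
      have h2 := hs z₀ hz₀ i
      rw [hπ i, h1] at h2
      have h3 : e (t * z₀ * t⁻¹) = e d + e z₀ := by
        rw [← emul d hdZ z₀ hz₀, hd]
        congr 1
        group
      rw [h3, Pi.add_apply] at h2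
      exact hi (left_eq_add.1 (by rw [add_comm]; exact h2.symm))
  refine ⟨by rw [← hF, hfour], t, htB, ⟨n, htn⟩, ?_⟩
  -- the index
  have hRC : R ≤ zj (S : Subgroup G) ⊓ centralizer ({t} : Set G) :=
    le_inf hR fun r hr => mem_centralizer_singleton_iff.2 (htR r hr).symm
  have hlt : zj (S : Subgroup G) ⊓ centralizer ({t} : Set G) ≠ zj (S : Subgroup G) := by
    intro e1
    have h1 : z₀ ∈ zj (S : Subgroup G) ⊓ centralizer ({t} : Set G) := by rw [e1]; exact hz₀
    exact hne (mem_centralizer_singleton_iff.1 h1.2).symm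
  obtain ⟨m, hm⟩ := Subgroup.card_dvd_of_le
    (inf_le_left : zj (S : Subgroup G) ⊓ centralizer ({t} : Set G) ≤ zj (S : Subgroup G))
  have hle : Nat.card R ≤ Nat.card ↥(zj (S : Subgroup G) ⊓ centralizer ({t} : Set G)) := Subgroup.card_le_of_le hRC
  have hpos : 0 < Nat.card ↥(zj (S : Subgroup G) ⊓ centralizer ({t} : Set G)) := Nat.card_pos
  have hm1 : m ≠ 1 := by
    rintro rfl
    exact hlt (Subgroup.eq_of_le_of_card_ge inf_le_left (by rw [hm, mul_one]))
  have hm0 : m ≠ 0 := by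
    rintro rfl
    rw [mul_zero] at hm
    have : 0 < Nat.card (zj (S : Subgroup G)) := Nat.card_pos
    omega
  have hm2 : m ≤ 2 := by
    by_contra hc
    have h1 : 3 ≤ m := by omega
    have h2 : Nat.card ↥(zj (S : Subgroup G) ⊓ centralizer ({t} : Set G)) * 3 ≤ Nat.card (zj (S : Subgroup G)) := by
      rw [hm]; exact Nat.mul_le_mul_left _ h1
    omega
  have hm3 : m = 2 := by omega
  rw [hm, hm3, mul_comm]

end line

end Cfsg.Agent.Omega.OM.YThm.End8

end

section


/-!
# THEOREM Y, LEMMA V for one block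

A group `E` acts on `F²` (`|F| = q`, characteristic 2) by upper triangular semilinear maps `P s`; it acts as an
elementary abelian group and the maps which are trivial on the line are transvections.  Then
`|E : C_E(F²)| |C(E)| ≤ q |C_line(E)|`.
-/

set_option autoImplicit false

namespace Cfsg.Agent.Omega.OM.YThm.OneB

open Subgroup

variable {F : Type*} [Field F]

/-- the fixed points of `z ↦ c σ(z)` -/
def Fs (σ : RingAut F) (c : F) : AddSubgroup F where
  carrier := {z | c * σ z = z}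
  zero_mem' := by show c * σ 0 = 0; rw [map_zero, mul_zero]
  add_mem' := by
    intro a b ha hb
    show c * σ (a + b) = a + b
    rw [map_add, mul_add, ha, hb]
  neg_mem' := by
    intro a ha
    show c * σ (-a) = -a
    rw [map_neg, mul_neg, ha]

theorem mem_Fs {σ : RingAut F} {c z : F} : z ∈ Fs σ c ↔ c * σ z = z := Iff.rfl

theorem card_Fs_le [Finite F] (σ : RingAut F) (c : F) : Nat.card (Fs σ c) ≤ Nat.card (Fs σ 1) := by
  by_cases h : ∃ g ∈ Fs σ c, g ≠ 0
  · obtain ⟨g, hg, hg0⟩ := h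
    have hsg : σ g ≠ 0 := fun h1 => hg0 (by rwa [map_eq_zero_iff σ σ.injective] at h1)
    refine Nat.card_le_card_of_injective (fun w : Fs σ c => (⟨w.1 / g, ?_⟩ : Fs σ 1)) ?_
    · have hw : c * σ w.1 = w.1 := w.2
      have hg' : c * σ g = g := hg
      have hc : c ≠ 0 := by
        rintro rfl
        rw [zero_mul] at hg'
        exact hg0 hg'.symm
      show 1 * σ (w.1 / g) = w.1 / g
      rw [one_mul, map_div₀, div_eq_div_iff hsg hg0]
      apply mul_left_cancel₀ hc
      calc c * (σ w.1 * g) = (c * σ w.1) * g := by ring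
        _ = (c * σ w.1) * (c * σ g) := by rw [hg']
        _ = w.1 * (c * σ g) := by rw [hw]
        _ = c * (w.1 * σ g) := by ring
    · intro w w' h1
      have h2 : w.1 / g = w'.1 / g := congrArg Subtype.val h1
      rw [div_left_inj' hg0] at h2
      exact Subtype.ext h2
  · push Not at h
    have h1 : Fs σ c = ⊥ := by
      rw [eq_bot_iff]
      exact fun x hx => AddSubgroup.mem_bot.2 (h x hx)
    rw [h1, AddSubgroup.card_bot]
    exact Nat.card_pos

theorem two_mul_card_Fs [Finite F] {σ : RingAut F} (hs : σ ≠ 1) : 2 * Nat.card (Fs σ 1) ≤ Nat.card F := by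
  have h1 : (Fs σ 1).index ≠ 1 := by
    intro h2
    rw [AddSubgroup.index_eq_one] at h2
    apply hs
    refine RingEquiv.ext fun x => ?_
    have : x ∈ Fs σ 1 := by rw [h2]; trivial
    rw [mem_Fs, one_mul] at this
    exact this
  have h2 : (Fs σ 1).index ≠ 0 := AddSubgroup.index_ne_zero_of_finite
  rw [← AddSubgroup.card_mul_index (Fs σ 1), mul_comm]
  exact Nat.mul_le_mul_left _ (by omega)

variable {E : Type*} [Group E]

/-- the situation -/
structure Sit (P : E → (Fin 2 → F) → (Fin 2 → F)) : Prop where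
  one : ∀ x, P 1 x = x
  mul : ∀ s t x, P (s * t) x = P s (P t x)
  add : ∀ s x y, P s (x + y) = P s x + P s y
  sem : ∀ s, ∃ (c d : F) (σ : RingAut F), (∀ x, P s ![x, 0] = ![c * σ x, 0]) ∧ ∀ x, P s x 1 = d * σ (x 1)
  up : ∀ s, (∀ x, P s ![x, 0] = ![x, 0]) → ∃ b, ∀ x, P s x = ![x 0 + b * x 1, x 1]
  comm : ∀ s t x, P s (P t x) = P t (P s x)
  sq : ∀ s x, P s (P s x) = x

namespace Sit

variable {P : E → (Fin 2 → F) → (Fin 2 → F)} (h : Sit P)

/-- the elements trivial on the line -/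
def A0 : Subgroup E where
  carrier := {s | ∀ x, P s ![x, 0] = ![x, 0]}
  one_mem' := fun _ => h.one _
  mul_mem' := by
    intro a b ha hb _
    rw [h.mul, hb, ha]
  inv_mem' := by
    intro a ha x
    have h1 := h.mul a⁻¹ a ![x, 0]
    rw [inv_mul_cancel, h.one, ha] at h1
    exact h1.symm

theorem mem_A0 {s : E} : s ∈ h.A0 ↔ ∀ x, P s ![x, 0] = ![x, 0] := Iff.rfl

/-- the kernel -/
def N : Subgroup E where
  carrier := {s | ∀ x, P s x = x}
  one_mem' := fun _ => h.one _
  mul_mem' := by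
    intro a b ha hb x
    rw [h.mul, hb, ha]
  inv_mem' := by
    intro a ha x
    have h1 := h.mul a⁻¹ a x
    rw [inv_mul_cancel, h.one, ha] at h1
    exact h1.symm

theorem mem_N {s : E} : s ∈ h.N ↔ ∀ x, P s x = x := Iff.rfl

theorem N_le : h.N ≤ h.A0 := fun _ hs x => hs _

/-- the entry -/
noncomputable def b (s : h.A0) : F := (h.up s s.2).choose

theorem b_spec (s : h.A0) (x : Fin 2 → F) : P s x = ![x 0 + h.b s * x 1, x 1] := (h.up s s.2).choose_spec x

theorem b_eq {s : h.A0} {c : F} (hc : P s ![0, 1] 0 = c) : h.b s = c := by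
  rw [← hc, h.b_spec]
  simp

/-- the entry as a homomorphism -/
noncomputable def bh : h.A0 →* Multiplicative F where
  toFun s := Multiplicative.ofAdd (h.b s)
  map_one' := by
    have : h.b 1 = 0 := h.b_eq (by
      change P 1 ![0, 1] 0 = 0
      rw [h.one]; rfl)
    rw [this]; rfl
  map_mul' s t := by
    have : h.b (s * t) = h.b s + h.b t := h.b_eq (by
      change P (s * t : E) ![0, 1] 0 = _
      rw [h.mul, h.b_spec, h.b_spec]
      simp
      ring)
    rw [this]; rfl

theorem ker_bh : h.bh.ker = h.N.subgroupOf h.A0 := by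
  ext s
  rw [MonoidHom.mem_ker, mem_subgroupOf, mem_N]
  change Multiplicative.ofAdd (h.b s) = 1 ↔ _
  constructor
  · intro h1 x
    have h2 : h.b s = 0 := Multiplicative.ofAdd.injective (h1.trans ofAdd_zero.symm)
    rw [h.b_spec, h2, zero_mul, add_zero]
    ext i; fin_cases i <;> rfl
  · intro h1
    have h2 : h.b s = 0 := h.b_eq (by rw [h1]; rfl)
    rw [h2]; rfl

theorem relIndex_eq : h.N.relIndex h.A0 = Nat.card h.bh.range := by
  rw [relIndex, ← ker_bh, index_ker]

/-- the fixed vectors -/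
def C (P : E → (Fin 2 → F) → (Fin 2 → F)) : Set (Fin 2 → F) := {x | ∀ s, P s x = x}

/-- the fixed vectors on the line -/
def C1 (P : E → (Fin 2 → F) → (Fin 2 → F)) : Set (Fin 2 → F) := {x | x 1 = 0 ∧ ∀ s, P s x = x}

theorem C_eq (hb : h.N.relIndex h.A0 ≠ 1) : C P = C1 P := by
  obtain ⟨s, hs⟩ : ∃ s : h.A0, h.b s ≠ 0 := by
    by_contra hcon
    push Not at hcon
    apply hb
    rw [relIndex_eq]
    have : h.bh.range = ⊥ := by
      rw [eq_bot_iff]
      rintro _ ⟨x, rfl⟩
      rw [mem_bot]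
      change Multiplicative.ofAdd (h.b x) = 1
      rw [hcon]; rfl
    rw [this, card_bot]
  ext x
  constructor
  · intro hx
    refine ⟨?_, hx⟩
    have h1 := congrFun (hx s) 0
    rw [h.b_spec] at h1
    simp only [Matrix.cons_val_zero] at h1
    have h2 : h.b s * x 1 = 0 := by linear_combination h1
    exact (mul_eq_zero.1 h2).resolve_left hs
  · exact fun hx => hx.2

variable [Finite F] [CharP F 2]

omit [Finite F] in
theorem c_one {c : F} (hc : c * c = 1) : c = 1 := by
  have h1 : (c - 1) * (c - 1) = 0 := by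
    have h2 : (2 : F) = 0 := CharTwo.two_eq_zero
    linear_combination hc + (1 - c) * h2
  have h3 := mul_self_eq_zero.1 h1
  exact sub_eq_zero.1 h3

omit [Finite F] in
theorem sem' (s : E) : ∃ (c d : F) (σ : RingAut F), (∀ x, P s ![x, 0] = ![c * σ x, 0]) ∧
    (∀ x, P s x 1 = d * σ (x 1)) ∧ σ * σ = 1 ∧ c * σ c = 1 ∧ (σ = 1 → s ∈ h.A0) := by
  obtain ⟨c, d, σ, h1, h2⟩ := h.sem s
  have h3 : ∀ x, c * σ (c * σ x) = x := fun x => by
    have h4 := h.sq s ![x, 0]
    rw [h1, h1] at h4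
    exact congrFun h4 0
  have h4 : c * σ c = 1 := by
    have := h3 1
    rwa [map_one, mul_one] at this
  have h5 : σ * σ = 1 := by
    refine RingEquiv.ext fun x => ?_
    have h6 := h3 x
    rw [map_mul, ← mul_assoc, h4, one_mul] at h6
    exact h6
  refine ⟨c, d, σ, h1, h2, h5, h4, fun h6 x => ?_⟩
  subst h6
  have h7 : c = 1 := c_one h4
  rw [h1, h7, one_mul]
  rfl

/-- if some element moves the line -/
theorem index_le {s0 : E} (hs0 : s0 ∉ h.A0) : h.A0.index ≤ 2 := by
  obtain ⟨c0, d0, σ0, a1, a2, a3, a4, a5⟩ := h.sem' s0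
  have key : ∀ s, s ∉ h.A0 → s * s0 ∈ h.A0 := by
    intro s hs
    obtain ⟨c, d, σ, b1, b2, b3, b4, b5⟩ := h.sem' s
    have e1 : σ = σ0 := by
      have hσ : σ ^ 2 ^ 1 = 1 := by rw [pow_one, pow_two, b3]
      have hσ0 : σ0 ^ 2 ^ 1 = 1 := by rw [pow_one, pow_two, a3]
      have n1 : σ ≠ 1 := fun e => hs (b5 e)
      have n2 : σ0 ≠ 1 := fun e => hs0 (a5 e)
      have two : ∀ a b : RingAut F, b * b = 1 → a ∈ zpowers b → a ≠ 1 → a = b := by
        intro a b hb ha h1
        obtain ⟨n, rfl⟩ := mem_zpowers_iff.1 ha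
        rcases Int.even_or_odd' n with ⟨m, rfl | rfl⟩
        · exfalso
          apply h1
          rw [zpow_mul, zpow_ofNat, pow_two, hb, one_zpow]
        · rw [zpow_add, zpow_mul, zpow_ofNat, pow_two, hb, one_zpow, one_mul, zpow_one]
      rcases NO3S.ThmB.End.AutTwo.mem_or_mem' ⟨1, hσ⟩ ⟨1, hσ0⟩ with h1 | h1
      · exact two _ _ a3 h1 n1
      · exact (two _ _ b3 h1 n2).symm
    subst e1
    have h1 : ∀ x, P (s * s0) ![x, 0] = ![(c * σ c0) * x, 0] := fun x => by
      rw [h.mul, a1, b1, map_mul]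
      have : σ (σ x) = x := DFunLike.congr_fun b3 x
      rw [this, mul_assoc]
    have h2 : c * σ c0 = 1 := by
      have h3 := h.sq (s * s0) ![1, 0]
      rw [h1, h1] at h3
      have h4 := congrFun h3 0
      simp only [Matrix.cons_val_zero, mul_one] at h4
      exact c_one h4
    intro x
    rw [h1, h2, one_mul]
  have h1 : h.A0.index ≠ 0 → h.A0.index ≤ 2 := by
    intro _
    by_cases ht : h.A0 = ⊤
    · rw [ht, index_top]; norm_num
    · have h2 : h.A0.index = 2 := by
        rw [index_eq_two_iff]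
        refine ⟨s0, fun b => ?_⟩
        by_cases hb : b ∈ h.A0
        · refine Or.inr ⟨hb, fun h3 => hs0 ?_⟩
          exact (mul_mem_cancel_left hb).1 h3
        · exact Or.inl ⟨key b hb, hb⟩
      omega
  by_cases h0 : h.A0.index = 0
  · omega
  · exact h1 h0

theorem main : h.N.index * Nat.card (C P) ≤ Nat.card F * Nat.card (C1 P) := by
  have hfin : Finite (Fin 2 → F) := inferInstance
  have hFpos : 0 < Nat.card F := Nat.card_pos
  by_cases hall : ∀ s, s ∈ h.A0
  · have ht : h.A0 = ⊤ := by rw [eq_top_iff]; exact fun s _ => hall s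
    have h1 : h.N.index = h.N.relIndex h.A0 := by rw [ht, relIndex_top_right]
    by_cases h2 : h.N.relIndex h.A0 = 1
    · have h3 : ∀ s x, P s x = x := by
        rw [← h1, index_eq_one] at h2
        intro s x
        have : s ∈ h.N := by rw [h2]; trivial
        exact this x
      have h4 : Nat.card (C P) = Nat.card F * Nat.card F := by
        have : C P = Set.univ := Set.eq_univ_of_forall fun x s => h3 s x
        rw [this, Nat.card_congr (Equiv.Set.univ _), Nat.card_fun]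
        simp [pow_two]
      have h5 : Nat.card F ≤ Nat.card (C1 P) := by
        refine Nat.card_le_card_of_injective (fun x : F => (⟨![x, 0], rfl, fun s => h3 s _⟩ : C1 P)) ?_
        intro x y hxy
        exact congrFun (congrArg Subtype.val hxy) 0
      rw [h1, h2, one_mul, h4]
      exact Nat.mul_le_mul_left _ h5
    · rw [h.C_eq h2, h1, h.relIndex_eq]
      refine Nat.mul_le_mul_right _ ?_
      exact Nat.card_le_card_of_injective (fun w : h.bh.range => Multiplicative.toAdd w.1) fun w w' h1 =>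
        Subtype.ext (Multiplicative.toAdd.injective h1)
  · push Not at hall
    obtain ⟨s0, hs0⟩ := hall
    have h2 := h.index_le hs0
    obtain ⟨c, d, σ, a1, a2, a3, a4, a5⟩ := h.sem' s0
    have hσ : σ ≠ 1 := fun e => hs0 (a5 e)
    have h3 := two_mul_card_Fs hσ
    have h4 : h.N.index = h.N.relIndex h.A0 * h.A0.index := (relIndex_mul_index h.N_le).symm
    have hd : d ≠ 0 := by
      rintro rfl
      have := congrFun (h.sq s0 ![0, 1]) 1
      rw [a2, zero_mul] at this
      exact zero_ne_one this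
    have h5 : h.N.relIndex h.A0 * Nat.card (C P) ≤ Nat.card (Fs σ 1) * Nat.card (C1 P) := by
      by_cases h6 : h.N.relIndex h.A0 = 1
      · rw [h6, one_mul]
        have hmem : ∀ x ∈ C P, x 1 ∈ Fs σ d := fun x hx => by
          have := congrFun (hx s0) 1
          rw [a2] at this
          exact this
        let f : C P → Fs σ d := fun x => ⟨x.1 1, hmem x.1 x.2⟩
        have h7 : Nat.card (C P) ≤ Nat.card (Fs σ d) * Nat.card (C1 P) := by
          rw [← Nat.card_prod]
          -- choose representatives of the fibres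
          classical
          let r : Fs σ d → (Fin 2 → F) := fun y => if hy : ∃ x : C P, f x = y then hy.choose.1 else 0
          have hr : ∀ x : C P, r (f x) ∈ C P ∧ r (f x) 1 = x.1 1 := by
            intro x
            have hy : ∃ x' : C P, f x' = f x := ⟨x, rfl⟩
            have e : r (f x) = hy.choose.1 := dif_pos hy
            rw [e]
            exact ⟨hy.choose.2, congrArg Subtype.val hy.choose_spec⟩
          have hsub : ∀ s x y, P s (x - y) = P s x - P s y := by
            intro s x y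
            have h8 := h.add s (x - y) y
            rw [sub_add_cancel] at h8
            rw [h8, add_sub_cancel_right]
          refine Nat.card_le_card_of_injective (fun x : C P => ((f x, ⟨x.1 - r (f x), ?_, ?_⟩) :
            Fs σ d × C1 P)) ?_
          · rw [Pi.sub_apply, (hr x).2, sub_self]
          · intro s
            rw [hsub, x.2 s, (hr x).1 s]
          · intro x y hxy
            have e1 : f x = f y := congrArg Prod.fst hxy
            have e2 : x.1 - r (f x) = y.1 - r (f y) := congrArg (fun z => z.2.1) hxy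
            rw [e1] at e2
            exact Subtype.ext (sub_left_injective e2)
        exact h7.trans (Nat.mul_le_mul_right _ (card_Fs_le σ d))
      · rw [h.C_eq h6, h.relIndex_eq]
        refine Nat.mul_le_mul_right _ ?_
        refine le_trans ?_ (card_Fs_le σ (c / d))
        refine Nat.card_le_card_of_injective
          (fun w : h.bh.range => (⟨Multiplicative.toAdd w.1, ?_⟩ : Fs σ (c / d))) ?_
        · obtain ⟨s, hs⟩ := w.2
          rw [← hs]
          change h.b s ∈ Fs σ (c / d)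
          rw [mem_Fs]
          have e1 := h.comm s0 s ![0, 1]
          have e2 : P s ![0, 1] = ![0, 1] + ![h.b s, 0] := by
            rw [h.b_spec]
            ext i; fin_cases i <;> simp
          rw [e2, h.add, a1, h.b_spec, a2] at e1
          have e3 := congrFun e1 0
          simp only [Pi.add_apply, Matrix.cons_val_zero, Matrix.cons_val_one, map_one, mul_one] at e3
          have e4 : c * σ (h.b s) = h.b s * d := add_left_cancel e3
          field_simp
          rw [e4]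
          ring
        · intro w w' h1
          have h9 : Multiplicative.toAdd w.1 = Multiplicative.toAdd w'.1 :=
            congrArg (fun z : Fs σ (c / d) => z.1) h1
          exact Subtype.ext (Multiplicative.toAdd.injective h9)
    rw [h4]
    calc h.N.relIndex h.A0 * h.A0.index * Nat.card (C P)
        = h.A0.index * (h.N.relIndex h.A0 * Nat.card (C P)) := by ring
      _ ≤ 2 * (Nat.card (Fs σ 1) * Nat.card (C1 P)) := Nat.mul_le_mul h2 h5
      _ = (2 * Nat.card (Fs σ 1)) * Nat.card (C1 P) := by ring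
      _ ≤ Nat.card F * Nat.card (C1 P) := Nat.mul_le_mul_right _ h3

end Sit

end Cfsg.Agent.Omega.OM.YThm.OneB

end

section


/-!
# THEOREM Y, LEMMA V: the orbit argument

A finite group `E` permutes the set `ι` and acts on the functions `f : ι → X` by a cocycle `T`:
`(s • f) (s • i) = T s i (f i)`; `Z0 ⊆ X` is invariant.  `Fxd T Z0` : the fixed functions with values in `Z0`;
`Loc T Z0 i` : the elements of `Z0` fixed by the stabiliser of `i`; `K i` : the kernel on the `i`-th summand.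

* `card_fxd` : `|Fxd| = ∏ |Loc|` over the orbits;
* `main` : if `|E_i : K_i| |Loc i| ≤ q |Loc Z0 i|` for all `i`, then `|E : ⋂ K_i| |Fxd| ≤ |Fxd Z0| q ^ |ι|`.
-/

set_option autoImplicit false

namespace Cfsg.Agent.Omega.OM.YThm.Orb

open MulAction

variable {E : Type*} [Group E] {ι X : Type*} [MulAction E ι]

/-- a cocycle -/
structure Coc (T : E → ι → X → X) : Prop where
  one : ∀ i x, T 1 i x = x
  mul : ∀ s t i x, T (s * t) i x = T s (t • i) (T t i x)

/-- fixed functions -/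
def Fxd (T : E → ι → X → X) (Z0 : Set X) : Type _ :=
  {f : ι → X // (∀ i, f i ∈ Z0) ∧ ∀ s i, f (s • i) = T s i (f i)}

/-- fixed vectors of the stabiliser -/
def Loc (T : E → ι → X → X) (Z0 : Set X) (i : ι) : Type _ :=
  {x : X // x ∈ Z0 ∧ ∀ s : E, s • i = i → T s i x = x}

variable {T : E → ι → X → X}

/-- the kernel on the `i`-th summand -/
def K (h : Coc T) (i : ι) : Subgroup E where
  carrier := {s | s • i = i ∧ ∀ x, T s i x = x}
  one_mem' := ⟨one_smul _ _, h.one i⟩
  mul_mem' := by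
    rintro a b ⟨ha, ha'⟩ ⟨hb, hb'⟩
    refine ⟨by rw [mul_smul, hb, ha], fun x => ?_⟩
    rw [h.mul, hb, hb', ha']
  inv_mem' := by
    rintro a ⟨ha, ha'⟩
    have h1 : a⁻¹ • i = i := by rw [inv_smul_eq_iff, ha]
    refine ⟨h1, fun x => ?_⟩
    have h2 := h.mul a a⁻¹ i x
    rw [mul_inv_cancel, h.one, h1, ha'] at h2
    exact h2.symm

theorem mem_K {h : Coc T} {i : ι} {s : E} : s ∈ K h i ↔ s • i = i ∧ ∀ x, T s i x = x := Iff.rfl

theorem T_inj (h : Coc T) (s : E) (i : ι) : Function.Injective (T s i) := by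
  intro x y hxy
  have h1 := h.mul s⁻¹ s i x
  have h2 := h.mul s⁻¹ s i y
  rw [inv_mul_cancel, h.one] at h1 h2
  rw [h1, h2, hxy]

theorem T_surj (h : Coc T) (s : E) (i : ι) (y : X) : ∃ x, T s i x = y := by
  have h1 := h.mul s s⁻¹ (s • i) y
  rw [mul_inv_cancel, h.one, inv_smul_smul] at h1
  exact ⟨_, h1.symm⟩

theorem exists_c (i : ι) : ∃ c : E, c • (Quotient.mk (orbitRel E ι) i).out = i := by
  have h1 : (orbitRel E ι) ((Quotient.mk (orbitRel E ι) i).out) i := Quotient.mk_out (s := orbitRel E ι) i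
  rw [orbitRel_apply] at h1
  obtain ⟨s, hs⟩ := h1
  refine ⟨s⁻¹, ?_⟩
  rw [inv_smul_eq_iff]
  exact hs.symm

theorem mk_smul (s : E) (i : ι) : Quotient.mk (orbitRel E ι) (s • i) = Quotient.mk (orbitRel E ι) i :=
  Quotient.sound ⟨s, rfl⟩

theorem T_eq (h : Coc T) {r : ι} {x : X} (hx : ∀ s : E, s • r = r → T s r x = x) {a b : E} (hab : a • r = b • r) :
    T a r x = T b r x := by
  have h1 : (a⁻¹ * b) • r = r := by rw [mul_smul, ← hab, inv_smul_smul]
  have h2 := h.mul a (a⁻¹ * b) r x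
  rw [mul_inv_cancel_left, h1, hx _ h1] at h2
  exact h2.symm

/-- the restriction to the representatives of the orbits -/
noncomputable def res (T : E → ι → X → X) (Z0 : Set X) (f : Fxd T Z0) (ω : Quotient (orbitRel E ι)) : Loc T Z0 ω.out :=
  ⟨f.1 ω.out, f.2.1 _, fun s hs => by
    have h1 := f.2.2 s ω.out
    rw [hs] at h1
    exact h1.symm⟩

theorem res_bij (h : Coc T) {Z0 : Set X} (hZ : ∀ s i x, x ∈ Z0 → T s i x ∈ Z0) : Function.Bijective (res T Z0) := by
  classical
  constructor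
  · intro f f' hff
    apply Subtype.ext
    funext i
    obtain ⟨c, hc⟩ := exists_c (E := E) i
    have h1 := f.2.2 c (Quotient.mk (orbitRel E ι) i).out
    have h2 := f'.2.2 c (Quotient.mk (orbitRel E ι) i).out
    have h3 := congrArg Subtype.val (congrFun hff (Quotient.mk (orbitRel E ι) i))
    change f.1 _ = f'.1 _ at h3
    rw [h3, ← h2, hc] at h1
    exact h1
  · intro g
    choose c hc using fun i : ι => exists_c (E := E) i
    let f : ι → X := fun i => T (c i) (Quotient.mk (orbitRel E ι) i).out (g (Quotient.mk (orbitRel E ι) i)).1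
    have key : ∀ (ω : Quotient (orbitRel E ι)) (i : ι) (a : E), a • ω.out = i → Quotient.mk (orbitRel E ι) i = ω →
        f i = T a ω.out (g ω).1 := by
      rintro ω i a ha rfl
      exact T_eq h (g _).2.2 (by rw [hc, ha])
    have key2 : ∀ (ω : Quotient (orbitRel E ι)) (i : ι) (a : E), a • ω.out = i → f i = T a ω.out (g ω).1 := by
      intro ω i a ha
      refine key ω i a ha ?_
      rw [← ha, mk_smul]
      exact Quotient.out_eq ω
    refine ⟨⟨f, fun i => hZ _ _ _ (g _).2.1, fun s i => ?_⟩, ?_⟩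
    · have h1 := key2 (Quotient.mk (orbitRel E ι) i) (s • i) (s * c i) (by rw [mul_smul, hc])
      rw [h1, h.mul, hc]
    · funext ω
      apply Subtype.ext
      change f ω.out = _
      rw [key2 ω ω.out 1 (one_smul _ _), h.one]

theorem card_fxd [Fintype (Quotient (orbitRel E ι))] (h : Coc T) {Z0 : Set X}
    (hZ : ∀ s i x, x ∈ Z0 → T s i x ∈ Z0) :
    Nat.card (Fxd T Z0) = ∏ ω : Quotient (orbitRel E ι), Nat.card (Loc T Z0 ω.out) := by
  rw [Nat.card_congr (Equiv.ofBijective _ (res_bij h hZ)), Nat.card_pi]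

theorem K_smul (h : Coc T) (hc : ∀ s t : E, ∀ i, (s * t) • i = (t * s) • i ∧ ∀ x, T (s * t) i x = T (t * s) i x)
    (t : E) (i : ι) : K h i ≤ K h (t • i) := by
  rintro s ⟨hs, hs'⟩
  have h1 : s • t • i = t • i := by rw [← mul_smul, (hc s t i).1, mul_smul, hs]
  refine ⟨h1, fun x => ?_⟩
  obtain ⟨y, rfl⟩ := T_surj h t i x
  rw [← h.mul, (hc s t i).2, h.mul, hs, hs']

theorem pow_le {q r : ℕ} (hq : 2 ≤ q) (hr : 0 < r) : r * q ≤ q ^ r := by
  obtain ⟨m, rfl⟩ : ∃ m, r = m + 1 := ⟨r - 1, by omega⟩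
  rw [pow_succ]
  have h1 : m < 2 ^ m := Nat.lt_pow_self (by norm_num)
  have h2 : 2 ^ m ≤ q ^ m := Nat.pow_le_pow_left hq m
  exact Nat.mul_le_mul_right _ (by omega)

theorem main [Finite E] [Finite ι] (h : Coc T)
    (hc : ∀ s t : E, ∀ i, (s * t) • i = (t * s) • i ∧ ∀ x, T (s * t) i x = T (t * s) i x)
    {Z0 : Set X} (hZ : ∀ s i x, x ∈ Z0 → T s i x ∈ Z0) {q : ℕ} (hq : 2 ≤ q)
    (hloc : ∀ i, (K h i).relIndex (stabilizer E i) * Nat.card (Loc T Set.univ i) ≤ q * Nat.card (Loc T Z0 i)) :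
    (⨅ i, K h i).index * Nat.card (Fxd T Set.univ) ≤ Nat.card (Fxd T Z0) * q ^ Nat.card ι := by
  classical
  have := Fintype.ofFinite (Quotient (orbitRel E ι))
  have h1 := card_fxd h (Z0 := Set.univ) fun _ _ _ _ => Set.mem_univ _
  have h2 := card_fxd h hZ
  have h3 : (⨅ i, K h i) = ⨅ ω : Quotient (orbitRel E ι), K h ω.out := by
    apply le_antisymm
    · exact le_iInf fun ω => iInf_le _ _
    · refine le_iInf fun i => ?_
      obtain ⟨c, hc'⟩ := exists_c (E := E) i
      have h4 := K_smul h hc c (Quotient.mk (orbitRel E ι) i).out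
      rw [hc'] at h4
      exact (iInf_le _ _).trans h4
  have h5 : (⨅ ω : Quotient (orbitRel E ι), K h ω.out).index ≤
      ∏ ω : Quotient (orbitRel E ι), (K h ω.out).index := Subgroup.index_iInf_le _
  have h6 : ∀ i, (K h i).index = (K h i).relIndex (stabilizer E i) * Nat.card (orbit E i) := by
    intro i
    have h7 : K h i ≤ stabilizer E i := fun s hs => hs.1
    rw [← Subgroup.relIndex_mul_index h7, MulAction.index_stabilizer]
    rfl
  have h8 : ∏ ω : Quotient (orbitRel E ι), q ^ Nat.card (orbit E ω.out) = q ^ Nat.card ι := by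
    rw [Finset.prod_pow_eq_pow_sum]
    congr 1
    have e := Nat.card_congr (selfEquivSigmaOrbits' E ι)
    rw [e, Nat.card_sigma]
    refine Finset.sum_congr rfl fun ω _ => ?_
    rw [orbitRel.Quotient.orbit_eq_orbit_out ω Quotient.out_eq]
  rw [h1, h2, h3, ← h8]
  refine (Nat.mul_le_mul_right _ h5).trans ?_
  rw [← Finset.prod_mul_distrib, ← Finset.prod_mul_distrib]
  refine Finset.prod_le_prod' fun ω _ => ?_
  rw [h6]
  have h9 := hloc ω.out
  have hne : Nonempty (orbit E ω.out) := ⟨⟨_, mem_orbit_self _⟩⟩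
  have h10 : 0 < Nat.card (orbit E ω.out) := Nat.card_pos
  calc (K h ω.out).relIndex (stabilizer E ω.out) * Nat.card (orbit E ω.out) * Nat.card (Loc T Set.univ ω.out)
      = Nat.card (orbit E ω.out) * ((K h ω.out).relIndex (stabilizer E ω.out) *
        Nat.card (Loc T Set.univ ω.out)) := by ring
    _ ≤ Nat.card (orbit E ω.out) * (q * Nat.card (Loc T Z0 ω.out)) := Nat.mul_le_mul_left _ h9
    _ = Nat.card (orbit E ω.out) * q * Nat.card (Loc T Z0 ω.out) := by ring
    _ ≤ q ^ Nat.card (orbit E ω.out) * Nat.card (Loc T Z0 ω.out) := Nat.mul_le_mul_right _ (pow_le hq h10)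
    _ = _ := by ring

end Cfsg.Agent.Omega.OM.YThm.Orb

end

section


/-!
# THEOREM Y: LEMMA V

`V` is a sum of `k` natural `SL₂(F)`-modules (`NatKM`), `Z = {v ∈ V | all second coordinates are 0}`.

* `sgm` : the permutation of the summands induced by an element of `P'`; `Tc` : its action on the coordinates;
* `fx_stab` : the stabiliser in `S` of the `i`-th summand;
* **`lemV`** : `E ≤ S` acts on `V` as an elementary abelian group: `|E : C_E(V)| |Z : C_Z(E)| ≤ |V : C_V(E)|`.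
-/

set_option autoImplicit false

namespace Cfsg.Agent.Omega.OM.YThm.LemV

open Subgroup Cfsg Cfsg.Agent.ZN Cfsg.Agent.ZN.ChoiceBase
open Cfsg.Agent.Omega.FFThm Cfsg.Agent.Omega.NatPair Cfsg.Agent.Lib.SL2Mat
open Cfsg.Agent.Omega.NO3S.ThmB
open NO3S.ThmB.Nb (exists_single)

universe u

variable {G : Type u} [Group G] {F : Type} [Field F] {S P' V D : Subgroup G} {k : ℕ}

/-- `σ` is the permutation of the summands induced by `g`. -/
def IsSg (M : NatKM F S P' V D k) (g : G) (σ : Equiv.Perm (Fin k)) : Prop :=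
  ∀ v ∈ V, ∀ i, M.e (g * v * g⁻¹) (σ i) = 0 ↔ M.e v i = 0

theorem isSg_unique {M : NatKM F S P' V D k} {g : G} {σ τ : Equiv.Perm (Fin k)} (h1 : IsSg M g σ)
    (h2 : IsSg M g τ) : σ = τ := by
  refine Equiv.ext fun i => ?_
  obtain ⟨v, hv, hvi, hvl⟩ := exists_single M i ![1, 0]
  by_contra hne
  have h3 : τ.symm (σ i) ≠ i := fun e => hne (τ.symm_apply_eq.1 e)
  have h4 := (h2 v hv (τ.symm (σ i))).2 (hvl _ h3)
  rw [τ.apply_symm_apply] at h4
  have h5 := (h1 v hv i).1 h4
  rw [hvi] at h5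
  have := congrFun h5 0
  simp at this

theorem isSg_one (M : NatKM F S P' V D k) : IsSg M 1 1 := fun v _ i => by
  rw [one_mul, inv_one, mul_one]; rfl

theorem isSg_mul {M : NatKM F S P' V D k} (h : Nb M) {g x : G} (hx : x ∈ P') {σ τ : Equiv.Perm (Fin k)}
    (h1 : IsSg M g σ) (h2 : IsSg M x τ) : IsSg M (g * x) (σ * τ) := fun v hv i => by
  have e : g * x * v * (g * x)⁻¹ = g * (x * v * x⁻¹) * g⁻¹ := by group
  rw [e, Equiv.Perm.mul_apply, h1 _ (h.memV hx hv), h2 v hv]

/-- the permutation of the summands -/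
noncomputable def sgm (M : NatKM F S P' V D k) (g : P') : Equiv.Perm (Fin k) := (M.perm g g.2).choose

theorem sgm_spec (M : NatKM F S P' V D k) (g : P') : IsSg M g (sgm M g) := (M.perm g g.2).choose_spec

variable {M : NatKM F S P' V D k} (h : Nb M)

/-- the permutation representation -/
noncomputable def sgh : P' →* Equiv.Perm (Fin k) where
  toFun := sgm M
  map_one' := isSg_unique (sgm_spec M 1) (isSg_one M)
  map_mul' g x := isSg_unique (sgm_spec M (g * x)) (isSg_mul h x.2 (sgm_spec M g) (sgm_spec M x))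

theorem sgh_spec (g : P') {v : G} (hv : v ∈ V) (i : Fin k) :
    M.e ((g : G) * v * (g : G)⁻¹) (sgh h g i) = 0 ↔ M.e v i = 0 := sgm_spec M g v hv i

/-- the action on the coordinates -/
noncomputable def Tc (g : P') (i : Fin k) (x : Fin 2 → F) : Fin 2 → F :=
  M.e ((g : G) * wv M i x * (g : G)⁻¹) (sgh h g i)

theorem Tc_spec [CharP F 2] (g : P') (i : Fin k) {v : G} (hv : v ∈ V) :
    M.e ((g : G) * v * (g : G)⁻¹) (sgh h g i) = Tc h g i (M.e v i) := by
  have hw := wv_V M i (M.e v i)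
  have h0 : M.e (v * (wv M i (M.e v i))⁻¹) i = 0 := by
    rw [h.e_div hv hw, Pi.add_apply, wv_i]
    exact congrFun (h.add_self (M.e v)) i
  have h1 := (sgh_spec h g (mul_mem hv (inv_mem hw)) i).2 h0
  have e : (g : G) * (v * (wv M i (M.e v i))⁻¹) * (g : G)⁻¹ =
      ((g : G) * v * (g : G)⁻¹) * ((g : G) * wv M i (M.e v i) * (g : G)⁻¹)⁻¹ := by group
  rw [e, h.e_div (h.memV g.2 hv) (h.memV g.2 hw), Pi.add_apply] at h1
  have h2 := congrArg (· + M.e ((g : G) * wv M i (M.e v i) * (g : G)⁻¹) (sgh h g i)) h1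
  have h3 := congrFun (h.add_self (M.e ((g : G) * wv M i (M.e v i) * (g : G)⁻¹))) (sgh h g i)
  rw [Pi.add_apply, Pi.zero_apply] at h3
  simp only [add_assoc, h3] at h2
  rw [add_zero, zero_add] at h2
  exact h2

theorem Tc_one [CharP F 2] (i : Fin k) (x : Fin 2 → F) : Tc h 1 i x = x := by
  have h1 := Tc_spec h 1 i (wv_V M i x)
  rw [wv_i, map_one, Equiv.Perm.one_apply] at h1
  rw [← h1]
  have e : ((1 : P') : G) * wv M i x * ((1 : P') : G)⁻¹ = wv M i x := by
    rw [OneMemClass.coe_one, one_mul, inv_one, mul_one]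
  rw [e, wv_i]

theorem Tc_mul [CharP F 2] (g y : P') (i : Fin k) (x : Fin 2 → F) :
    Tc h (g * y) i x = Tc h g (sgh h y i) (Tc h y i x) := by
  have h1 := Tc_spec h (g * y) i (wv_V M i x)
  have h2 := Tc_spec h y i (wv_V M i x)
  have h3 := Tc_spec h g (sgh h y i) (h.memV y.2 (wv_V M i x))
  rw [wv_i] at h1 h2
  have e0 : ((g * y : P') : G) * wv M i x * ((g * y : P') : G)⁻¹ =
      (g : G) * ((y : G) * wv M i x * (y : G)⁻¹) * (g : G)⁻¹ := by
    rw [Subgroup.coe_mul]; group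
  rw [← h1, ← h2, ← h3, map_mul, Equiv.Perm.mul_apply, e0]

theorem Tc_add [CharP F 2] (g : P') (i : Fin k) (x y : Fin 2 → F) :
    Tc h g i (x + y) = Tc h g i x + Tc h g i y := by
  have hx := wv_V M i x
  have hy := wv_V M i y
  have h1 : M.e (wv M i x * wv M i y) i = x + y := by
    rw [M.mul _ hx _ hy, Pi.add_apply, wv_i, wv_i]
  rw [← h1, ← Tc_spec h g i (mul_mem hx hy)]
  have e : (g : G) * (wv M i x * wv M i y) * (g : G)⁻¹ =
      ((g : G) * wv M i x * (g : G)⁻¹) * ((g : G) * wv M i y * (g : G)⁻¹) := by group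
  rw [e, M.mul _ (h.memV g.2 hx) _ (h.memV g.2 hy)]
  rfl

/-- the stabiliser in `S` of the `i`-th summand -/
theorem fx_stab {g : P'} (hg : (g : G) ∈ S) {i : Fin k} (hi : sgh h g i = i) : Fx M i g := by
  have hσ := fun (v : G) (hv : v ∈ V) (i : Fin k) => sgh_spec h g hv i
  have ha2 : ∀ v ∈ V, (∀ l, l ≠ i → M.e v l = 0) → ∀ l, l ≠ i → M.e ((g : G) * v * (g : G)⁻¹) l = 0 := by
    intro v hv hvl l hl
    have h1 : (sgh h g).symm l ≠ i := fun e => hl (by rw [← hi, ← e, Equiv.apply_symm_apply])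
    have h2 := (hσ v hv ((sgh h g).symm l)).2 (hvl _ h1)
    rwa [Equiv.apply_symm_apply] at h2
  refine ⟨g.2, fun v hv h0 => ?_, ha2, fun v hv h0 => ?_⟩
  · have h1 := (hσ v hv i).2 h0
    rwa [hi] at h1
  · obtain ⟨τ, hτ⟩ := M.line g hg
    have hτi : τ i = i := by
      by_contra hne
      obtain ⟨w, hw, hwi, hwl⟩ := exists_single M i ![0, 1]
      have h1 := (hτ w hw i).1 (by rw [ha2 w hw hwl _ hne]; rfl)
      rw [hwi] at h1
      simp at h1
    have h1 := (hτ v hv i).2 h0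
    rwa [hτi] at h1

/-- `S` permutes the lines -/
theorem line_Tc [CharP F 2] {g : P'} (hg : (g : G) ∈ S) (i : Fin k) {x : Fin 2 → F} (hx : x 1 = 0) :
    Tc h g i x 1 = 0 := by
  obtain ⟨τ, hτ⟩ := M.line g hg
  have hτi : τ i = sgh h g i := by
    by_contra hne
    obtain ⟨w, hw, hwi, hwl⟩ := exists_single M i ![0, 1]
    have h2 : (sgh h g).symm (τ i) ≠ i := fun e => hne ((Equiv.symm_apply_eq _).1 e)
    have h3 := (sgh_spec h g hw ((sgh h g).symm (τ i))).2 (hwl _ h2)
    rw [Equiv.apply_symm_apply] at h3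
    have h1 := (hτ w hw i).1 (by rw [h3]; rfl)
    rw [hwi] at h1
    simp at h1
  have h1 := (hτ _ (wv_V M i x) i).2 (by rw [wv_i]; exact hx)
  rw [hτi] at h1
  exact h1

include h in
/-- an element of 2-power order which is trivial on the line is a transvection on the `i`-th summand -/
theorem up_of_line [Finite F] [CharP F 2] {i : Fin k} {u : G} (hs : Fx M i u) (hs' : Fx M i u⁻¹) {j : ℕ}
    (hj : u ^ 2 ^ j = 1) (hline : ∀ x, Pf M i u ![x, 0] 0 = x) :
    ∃ b : F, ∀ x, Pf M i u x = ![x 0 + b * x 1, x 1] := by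
  have hfx : ∀ n : ℕ, Fx M i (u ^ n) := by
    intro n
    induction n with
    | zero =>
      rw [pow_zero]
      refine ⟨one_mem _, fun v _ h0 => ?_, fun v _ h0 l hl => ?_, fun v _ h0 => ?_⟩
      · rw [one_mul, inv_one, mul_one]; exact h0
      · rw [one_mul, inv_one, mul_one]; exact h0 l hl
      · rw [one_mul, inv_one, mul_one]; exact h0
    | succ n ih => rw [pow_succ]; exact Nb.Fx_mul h.VP' ih hs
  let f : F →+ F := AddMonoidHom.mk' (fun b => h.hH hs b * (h.gH hs 1)⁻¹) fun x y => by rw [map_add, add_mul]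
  obtain ⟨-, -, hg⟩ := End.Auto.of_id (h := h.hH hs) (f := f) (g := h.gH hs) (h.autot hs hs') hline
  have hpow : ∀ n : ℕ, ∀ x : F, Pf M i (u ^ n) ![0, x] 1 = (h.gH hs)^[n] x := by
    intro n
    induction n with
    | zero => intro x; rw [pow_zero, Nb.Pf_one]; rfl
    | succ n ih =>
      intro x
      rw [pow_succ', h.Pf_mul hs (hfx n), h.gH_eq hs, ih, Function.iterate_succ_apply']
  have hg1 : ∀ x, h.gH hs x = x := fun x =>
    End.Auto.eq_id_of_iterate (h.gH hs 1) (f := h.gH hs) hg (n := j) (fun y => by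
      rw [← hpow, hj, Nb.Pf_one]
      simp) x
  obtain ⟨c, hc, hcA⟩ := M.lift (sg i (lo 1))
  obtain ⟨A', -, hA'⟩ := h.conj_act hs hs' hc hcA
  have hu1 : ∀ x : Fin 2 → F, Pf M i u x 1 = x 1 := fun x => by rw [h.gH_eq hs, hg1]
  refine ⟨ent A' 0 0 + 1, fun x => vec_eq ?_ (hu1 x)⟩
  have k0 : ∀ x : Fin 2 → F, Pf M i u x 0 = x 0 + Pf M i u ![0, x 1] 0 := fun x => by
    have e : x = ![x 0, 0] + ![0, x 1] := by
      refine vec_eq ?_ ?_ <;> simp
    conv_lhs => rw [e, h.Pf_add hs, Pi.add_apply, hline]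
  have k1 : ∀ y : F, Pf M i u ![0, y] 0 = (ent A' 0 0 + 1) * y := by
    intro y
    have k2 := congrFun (hA' ![y, 0]) 0
    have e1 : Pf M i u ![y, 0] = ![y, 0] := vec_eq (hline y) (Nb.Pf_line hs _ rfl)
    rw [e1, ap_zero', k0, ap_lo_0, ap_lo_1] at k2
    simp only [Matrix.cons_val_zero, Matrix.cons_val_one, mul_zero, add_zero, one_mul] at k2
    have h2 : Pf M i u ![0, y] 0 = ent A' 0 0 * y + y := by
      rw [k2, add_comm y, add_assoc, CharTwo.add_self_eq_zero, add_zero]
    rw [h2]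
    ring
  rw [k0, k1]
  rfl

/-! ### The counting -/

section count

variable [Finite F] [CharP F 2] {E : Subgroup G} (hE : E ≤ S)

/-- `E → P'` -/
def inc (h : Nb M) (hE : E ≤ S) : E →* P' := Subgroup.inclusion (hE.trans h.SP')

/-- the action of `E` on the summands -/
@[reducible] noncomputable def act (h : Nb M) (hE : E ≤ S) : MulAction E (Fin k) :=
  MulAction.compHom (Fin k) ((sgh h).comp (inc h hE))

/-- the cocycle -/
noncomputable def TE (h : Nb M) (hE : E ≤ S) (s : E) (i : Fin k) (x : Fin 2 → F) : Fin 2 → F := Tc h (inc h hE s) i x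

omit [Finite F] in
theorem coc : @Orb.Coc E _ (Fin k) (Fin 2 → F) (act h hE) (TE h hE) :=
  @Orb.Coc.mk E _ (Fin k) (Fin 2 → F) (act h hE) (TE h hE) (fun i x => by
    rw [TE, map_one]; exact Tc_one h i x) fun s t i x => by
    rw [TE, map_mul]; exact Tc_mul h _ _ i x

omit [Finite F] [CharP F 2] in
theorem same_sgh {g y : P'} (hgy : ∀ v ∈ V, (g : G) * v * (g : G)⁻¹ = (y : G) * v * (y : G)⁻¹) :
    sgh h g = sgh h y := by
  refine isSg_unique (g := (g : G)) (sgm_spec M g) fun v hv i => ?_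
  rw [hgy v hv]
  exact sgh_spec h y hv i

omit [Finite F] [CharP F 2] in
theorem same_Tc {g y : P'} (hgy : ∀ v ∈ V, (g : G) * v * (g : G)⁻¹ = (y : G) * v * (y : G)⁻¹) (i : Fin k)
    (x : Fin 2 → F) : Tc h g i x = Tc h y i x := by
  rw [Tc, Tc, same_sgh h hgy, hgy _ (wv_V M i x)]

include h in
theorem sem' {i : Fin k} {s : G} (hs : Fx M i s) (hs' : Fx M i s⁻¹) :
    ∃ (c d : F) (σ : RingAut F), (∀ x, Pf M i s ![x, 0] = ![c * σ x, 0]) ∧ ∀ x, Pf M i s x 1 = d * σ (x 1) := by
  obtain ⟨σ, hσ⟩ := h.sem hs hs'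
  have h1 : h.hH hs 1 ≠ 0 := fun e => one_ne_zero (h.hH_inj hs hs' (e.trans (map_zero _).symm))
  have h2 := h.gH_ne hs hs'
  refine ⟨h.hH hs 1, h.gH hs 1, σ, fun x => by rw [h.hH_eq hs, hσ], fun x => ?_⟩
  have h3 := h.autot hs hs' 1 (x 1)
  rw [one_mul, hσ] at h3
  rw [h.gH_eq hs]
  have h4 : h.hH hs 1 * (h.gH hs 1 * σ (x 1)) = h.hH hs 1 * h.gH hs (x 1) := by
    calc h.hH hs 1 * (h.gH hs 1 * σ (x 1)) = h.gH hs 1 * (h.hH hs 1 * σ (x 1)) := by ring
      _ = h.gH hs 1 * (h.hH hs 1 * (h.gH hs 1)⁻¹ * h.gH hs (x 1)) := by rw [h3]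
      _ = (h.gH hs 1 * (h.gH hs 1)⁻¹) * (h.hH hs 1 * h.gH hs (x 1)) := by ring
      _ = _ := by rw [mul_inv_cancel₀ h2, one_mul]
  exact (mul_left_cancel₀ h1 h4).symm

omit [Finite F] [CharP F 2] in
theorem Tc_eq_Pf {g : P'} {i : Fin k} (hi : sgh h g i = i) (x : Fin 2 → F) : Tc h g i x = Pf M i g x := by
  rw [Tc, hi, Pf]

variable (hS2 : IsPGroup 2 S)
  (hcomm : ∀ a ∈ E, ∀ b ∈ E, ∀ v ∈ V, a * (b * v * b⁻¹) * a⁻¹ = b * (a * v * a⁻¹) * b⁻¹)
  (hsq : ∀ a ∈ E, ∀ v ∈ V, a * (a * v * a⁻¹) * a⁻¹ = v)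

include hS2 hcomm hsq in
theorem sit (i : Fin k) : OneB.Sit (F := F) (fun (s : @MulAction.stabilizer E (Fin k) _ (act h hE) i) x =>
    TE h hE s.1 i x) := by
  let _ := act h hE
  have hst : ∀ s : MulAction.stabilizer E i, sgh h (inc h hE s.1) i = i := fun s => s.2
  have hfx : ∀ s : MulAction.stabilizer E i, Fx M i (s.1 : G) := fun s =>
    fx_stab h (g := inc h hE s.1) (hE s.1.2) (hst s)
  have hfx' : ∀ s : MulAction.stabilizer E i, Fx M i (s.1 : G)⁻¹ := fun s => hfx s⁻¹
  have hP : ∀ (s : MulAction.stabilizer E i) x, TE h hE s.1 i x = Pf M i (s.1 : G) x := fun s x =>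
    Tc_eq_Pf h (hst s) x
  have hPm : ∀ (s t : MulAction.stabilizer E i) x, Pf M i ((s.1 : G) * (t.1 : G)) x =
      Pf M i (s.1 : G) (Pf M i (t.1 : G) x) := fun s t x => h.Pf_mul (hfx s) (hfx t) x
  have hPv : ∀ (g y : G), (∀ v ∈ V, g * v * g⁻¹ = y * v * y⁻¹) → ∀ x, Pf M i g x = Pf M i y x := fun g y hgy x => by
    rw [Pf, Pf, hgy _ (wv_V M i x)]
  refine ⟨fun x => ?_, fun s t x => ?_, fun s x y => ?_, fun s => ?_, fun s hs => ?_, fun s t x => ?_,
    fun s x => ?_⟩
  · simp only [hP]; exact Nb.Pf_one x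
  · simp only [hP]; exact hPm s t x
  · simp only [hP]; exact h.Pf_add (hfx s) x y
  · simp only [hP]; exact sem' h (hfx s) (hfx' s)
  · simp only [hP] at hs ⊢
    obtain ⟨j, hj⟩ := hS2 ⟨(s.1 : G), hE s.1.2⟩
    exact up_of_line h (hfx s) (hfx' s) (congrArg Subtype.val hj) fun x => by rw [hs]; rfl
  · simp only [hP]
    rw [← hPm, ← hPm]
    refine hPv _ _ (fun v hv => ?_) x
    have e1 : (s.1 : G) * t.1 * v * ((s.1 : G) * t.1)⁻¹ = s.1 * (t.1 * v * (t.1 : G)⁻¹) * (s.1 : G)⁻¹ := by group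
    have e2 : (t.1 : G) * s.1 * v * ((t.1 : G) * s.1)⁻¹ = t.1 * (s.1 * v * (s.1 : G)⁻¹) * (t.1 : G)⁻¹ := by group
    rw [e1, e2, hcomm _ s.1.2 _ t.1.2 v hv]
  · simp only [hP]
    rw [← hPm]
    have h1 := hPv ((s.1 : G) * s.1) 1 (fun v hv => by
      have e1 : (s.1 : G) * s.1 * v * ((s.1 : G) * s.1)⁻¹ = s.1 * (s.1 * v * (s.1 : G)⁻¹) * (s.1 : G)⁻¹ := by group
      rw [e1, hsq _ s.1.2 v hv]
      group) x
    rw [h1, Nb.Pf_one]

/-- the coordinates as a bijection -/
noncomputable def eV (h : Nb M) (hD : D = ⊥) : V ≃ (Fin k → Fin 2 → F) :=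
  Equiv.ofBijective (fun v => M.e v) ⟨fun v w hvw => by
    have h1 := (h.mem_D v.2 w.2).2 hvw
    rw [hD, mem_bot] at h1
    exact Subtype.ext (mul_inv_eq_one.1 h1), fun x => by
    obtain ⟨v, hv, hx⟩ := M.surj x
    exact ⟨⟨v, hv⟩, hx⟩⟩

omit [Finite F] in
theorem e_inj (h : Nb M) (hD : D = ⊥) {v w : G} (hv : v ∈ V) (hw : w ∈ V) (e : M.e v = M.e w) : v = w := by
  have h1 := (h.mem_D hv hw).2 e
  rw [hD, mem_bot] at h1
  exact mul_inv_eq_one.1 h1

omit [Finite F] in
theorem mem_cent_iff (hD : D = ⊥) {v : G} (hv : v ∈ V) : v ∈ centralizer (E : Set G) ↔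
    ∀ (s : E) (i : Fin k), M.e v (sgh h (inc h hE s) i) = TE h hE s i (M.e v i) := by
  rw [mem_centralizer_iff]
  constructor
  · intro h1 s i
    have h2 := Tc_spec h (inc h hE s) i hv
    have h3 : (s : G) * v * (s : G)⁻¹ = v := by rw [h1 s s.2]; group
    change M.e ((s : G) * v * (s : G)⁻¹) _ = _ at h2
    rw [h3] at h2
    exact h2
  · intro h1 s hs
    have h2 : s * v * s⁻¹ = v := by
      refine e_inj h hD (h.memV (h.SP' (hE hs)) hv) hv ?_
      funext i
      have h3 := Tc_spec h (inc h hE ⟨s, hs⟩) ((sgh h (inc h hE ⟨s, hs⟩)).symm i) hv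
      have h4 := h1 ⟨s, hs⟩ ((sgh h (inc h hE ⟨s, hs⟩)).symm i)
      rw [Equiv.apply_symm_apply] at h3 h4
      rw [h4]
      exact h3
    exact mul_inv_eq_iff_eq_mul.1 h2

/-- the line, as a subset of `F²` -/
def Z0 (F : Type) [Field F] : Set (Fin 2 → F) := {x | x 1 = 0}

/-- fixed functions and fixed vectors -/
noncomputable def fxdEquiv (hD : D = ⊥) (Y : Set (Fin 2 → F)) {Z : Subgroup G}
    (hZ : ∀ v, v ∈ Z ↔ v ∈ V ∧ ∀ i, M.e v i ∈ Y) :
    @Orb.Fxd E _ (Fin k) (Fin 2 → F) (act h hE) (TE h hE) Y ≃ ↥(Z ⊓ centralizer (E : Set G)) where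
  toFun f := ⟨(eV h hD).symm f.1, by
    have h1 : M.e ((eV h hD).symm f.1 : G) = f.1 := (eV h hD).apply_symm_apply f.1
    have hv : ((eV h hD).symm f.1 : G) ∈ V := ((eV h hD).symm f.1).2
    refine mem_inf.2 ⟨(hZ _).2 ⟨hv, fun i => by rw [h1]; exact f.2.1 i⟩, ?_⟩
    rw [mem_cent_iff h hE hD hv, h1]
    exact f.2.2⟩
  invFun v := ⟨M.e v.1, fun i => ((hZ _).1 (mem_inf.1 v.2).1).2 i,
    (mem_cent_iff h hE hD ((hZ _).1 (mem_inf.1 v.2).1).1).1 (mem_inf.1 v.2).2⟩
  left_inv f := Subtype.ext ((eV h hD).apply_symm_apply f.1)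
  right_inv v := Subtype.ext (by
    have hv : v.1 ∈ V := ((hZ _).1 (mem_inf.1 v.2).1).1
    exact congrArg (fun x : V => (x : G)) ((eV h hD).symm_apply_apply ⟨v.1, hv⟩))

include h hE hS2 hcomm hsq in
/-- **LEMMA V.** -/
theorem lemV [Finite G] (hD : D = ⊥) {Z : Subgroup G} (hZ : ∀ v, v ∈ Z ↔ v ∈ V ∧ ∀ i, M.e v i 1 = 0) :
    Nat.card E * Nat.card Z * Nat.card ↥(V ⊓ centralizer (E : Set G)) ≤
      Nat.card ↥(E ⊓ centralizer (V : Set G)) * Nat.card ↥(Z ⊓ centralizer (E : Set G)) * Nat.card V := by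
  let _ := act h hE
  have hloc : ∀ i, (Orb.K (coc h hE) i).relIndex (MulAction.stabilizer E i) *
      Nat.card (Orb.Loc (TE h hE) Set.univ i) ≤ Nat.card F * Nat.card (Orb.Loc (TE h hE) (Z0 F) i) := by
    intro i
    have h1 := (sit h hE hS2 hcomm hsq i).main
    have e1 : (sit h hE hS2 hcomm hsq i).N = (Orb.K (coc h hE) i).subgroupOf (MulAction.stabilizer E i) := by
      ext s
      rw [mem_subgroupOf, Orb.mem_K]
      exact ⟨fun h2 => ⟨s.2, h2⟩, fun h2 => h2.2⟩
    have e2 : Nat.card (Orb.Loc (TE h hE) Set.univ i) = Nat.card (OneB.Sit.C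
        (fun (s : MulAction.stabilizer E i) x => TE h hE s.1 i x)) :=
      Nat.card_congr (Equiv.subtypeEquivRight fun x =>
        ⟨fun h2 s => h2.2 s.1 s.2, fun h2 => ⟨Set.mem_univ _, fun s hs => h2 ⟨s, hs⟩⟩⟩)
    have e3 : Nat.card (Orb.Loc (TE h hE) (Z0 F) i) = Nat.card (OneB.Sit.C1
        (fun (s : MulAction.stabilizer E i) x => TE h hE s.1 i x)) :=
      Nat.card_congr (Equiv.subtypeEquivRight fun x =>
        ⟨fun h2 => ⟨h2.1, fun s => h2.2 s.1 s.2⟩, fun h2 => ⟨h2.1, fun s hs => h2.2 ⟨s, hs⟩⟩⟩)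
    rw [e2, e3, relIndex, ← e1]
    exact h1
  have hc : ∀ s t : E, ∀ i, (s * t) • i = (t * s) • i ∧ ∀ x, TE h hE (s * t) i x = TE h hE (t * s) i x := by
    intro s t i
    have h1 : ∀ v ∈ V, (inc h hE (s * t) : G) * v * (inc h hE (s * t) : G)⁻¹ =
        (inc h hE (t * s) : G) * v * (inc h hE (t * s) : G)⁻¹ := by
      intro v hv
      have e1 : ((s * t : E) : G) * v * ((s * t : E) : G)⁻¹ = s * (t * v * (t : G)⁻¹) * (s : G)⁻¹ := by
        rw [Subgroup.coe_mul]; group
      have e2 : ((t * s : E) : G) * v * ((t * s : E) : G)⁻¹ = t * (s * v * (s : G)⁻¹) * (t : G)⁻¹ := by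
        rw [Subgroup.coe_mul]; group
      exact e1.trans ((hcomm _ s.2 _ t.2 v hv).trans e2.symm)
    exact ⟨congrFun (congrArg (fun f : Equiv.Perm (Fin k) => (f : Fin k → Fin k)) (same_sgh h h1)) i,
      same_Tc h h1 i⟩
  have hq : 2 ≤ Nat.card F := Finite.one_lt_card
  have hmain := Orb.main (coc h hE) hc (Z0 := Z0 F) (fun s i x hx => line_Tc h (g := inc h hE s) (hE s.2) i hx) hq hloc
  have c1 := Nat.card_congr (fxdEquiv h hE hD Set.univ (Z := V) fun v => by simp)
  have c2 := Nat.card_congr (fxdEquiv h hE hD (Z0 F) hZ)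
  rw [c1, c2, Nat.card_fin] at hmain
  -- the kernel
  have c3 : (⨅ i, Orb.K (coc h hE) i) = (centralizer (V : Set G)).subgroupOf E := by
    ext s
    rw [mem_iInf, mem_subgroupOf, mem_centralizer_iff]
    constructor
    · intro h1 v hv
      have h2 : (s : G) * v * (s : G)⁻¹ = v := by
        refine e_inj h hD (h.memV (h.SP' (hE s.2)) hv) hv ?_
        funext i
        have h3 := Tc_spec h (inc h hE s) i hv
        have h4 := Orb.mem_K.1 (h1 i)
        have h5 : sgh h (inc h hE s) i = i := h4.1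
        rw [h5] at h3
        exact h3.trans (h4.2 _)
      exact (mul_inv_eq_iff_eq_mul.1 h2).symm
    · intro h1 i
      have h2 : ∀ v ∈ V, (inc h hE s : G) * v * (inc h hE s : G)⁻¹ = ((1 : P') : G) * v * ((1 : P') : G)⁻¹ := by
        intro v hv
        have : (s : G) * v * (s : G)⁻¹ = v := by rw [← h1 v hv]; group
        refine this.trans ?_
        rw [OneMemClass.coe_one]; group
      refine Orb.mem_K.2 ⟨?_, fun x => ?_⟩
      · have h3 := same_sgh h h2
        rw [map_one] at h3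
        change sgh h (inc h hE s) i = i
        rw [h3]; rfl
      · exact (same_Tc h h2 i x).trans (Tc_one h i x)
  have c4 : Nat.card ↥(E ⊓ centralizer (V : Set G)) * (⨅ i, Orb.K (coc h hE) i).index = Nat.card E := by
    rw [c3, inf_comm]
    rw [← relIndex]
    rw [mul_comm]
    have h5 : (centralizer (V : Set G)).relIndex E * Nat.card ↥(centralizer (V : Set G) ⊓ E : Subgroup G) =
        Nat.card E := by
      have h6 := card_mul_index ((centralizer (V : Set G)).subgroupOf E)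
      have h7 : Nat.card ((centralizer (V : Set G)).subgroupOf E) =
          Nat.card ↥(centralizer (V : Set G) ⊓ E : Subgroup G) := by
        rw [← inf_subgroupOf_right]
        exact Nat.card_congr (subgroupOfEquivOfLe inf_le_right).toEquiv
      rw [h7, mul_comm] at h6
      exact h6
    exact h5
  have c5 : Nat.card V = Nat.card F ^ k * Nat.card F ^ k := by
    rw [Nat.card_congr (eV h hD), Nat.card_fun, Nat.card_fun, ← mul_pow]
    simp [pow_two]
  have c6 : Nat.card Z = Nat.card F ^ k := by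
    have e : Z ≃ (Fin k → F) :=
      { toFun := fun v i => M.e v.1 i 0
        invFun := fun f => ⟨(eV h hD).symm fun i => ![f i, 0], by
          have h1 : M.e ((eV h hD).symm (fun i => ![f i, 0]) : G) = fun i => ![f i, 0] :=
            (eV h hD).apply_symm_apply _
          refine (hZ _).2 ⟨((eV h hD).symm fun i => ![f i, 0]).2, fun i => ?_⟩
          rw [h1]; rfl⟩
        left_inv := fun v => Subtype.ext (by
          have hv := (hZ _).1 v.2
          have h1 : (fun i => ![M.e v.1 i 0, 0]) = M.e v.1 := by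
            funext i
            exact vec_eq rfl (hv.2 i).symm
          show ((eV h hD).symm (fun i => ![M.e v.1 i 0, 0]) : G) = v.1
          rw [h1]
          exact congrArg Subtype.val ((eV h hD).symm_apply_apply ⟨v.1, hv.1⟩))
        right_inv := fun f => by
          funext i
          have h1 : M.e ((eV h hD).symm (fun i => ![f i, 0]) : G) = fun i => ![f i, 0] :=
            (eV h hD).apply_symm_apply _
          show M.e ((eV h hD).symm (fun i => ![f i, 0]) : G) i 0 = f i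
          rw [h1]; rfl }
    rw [Nat.card_congr e, Nat.card_fun, Nat.card_fin]
  rw [c5, c6, ← c4]
  calc Nat.card ↥(E ⊓ centralizer (V : Set G)) * (⨅ i, Orb.K (coc h hE) i).index * Nat.card F ^ k *
        Nat.card ↥(V ⊓ centralizer (E : Set G))
      = Nat.card ↥(E ⊓ centralizer (V : Set G)) * Nat.card F ^ k * ((⨅ i, Orb.K (coc h hE) i).index *
        Nat.card ↥(V ⊓ centralizer (E : Set G))) := by ring
    _ ≤ Nat.card ↥(E ⊓ centralizer (V : Set G)) * Nat.card F ^ k *
        (Nat.card ↥(Z ⊓ centralizer (E : Set G)) * Nat.card F ^ k) := Nat.mul_le_mul_left _ hmain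
    _ = _ := by ring

end count

end Cfsg.Agent.Omega.OM.YThm.LemV

end
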