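import Cfsg.Agent.Mrg.Omega.OM.Swap.Star
import Cfsg.Agent.Mrg.Omega.OM.Swap.Plug
import Cfsg.Agent.Mrg.Omega.OM.SwapV.NegPair

section


/-!
# THEOREM SW: the end

`Sit.false`, `Fam.SitF.false`, `sitFalse : SitFalse`.
-/

set_option autoImplicit false

namespace Cfsg.Agent.Omega.OM.Swap

open Subgroup Cfsg Cfsg.Agent.ZN Cfsg.Agent.ZN.ChoiceBase Cfsg.Agent.ZN.ChoiceSit

universe u

variable {G : Type u} [Group G] {ι : Type*} {F T F₀ : Subgroup G} {𝓐 : Set (Subgroup G)} {V : ι → Subgroup G}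
  {z : ι → G}

/-- The star lemma for `Sit`. -/
theorem Sit.starO [Finite G] (h : Sit F T F₀ V z) {i j : ι} (hij : i ≠ j) {c a : G} (hc : c ∈ T)
    (hc2 : ∀ u ∈ ⨆ k, V k, c * (c * u * c⁻¹) * c⁻¹ = u) (hcV : cj c (V i) = V j) (ha : a ∈ F) (ha0 : a ∉ F₀)
    (hE : ∀ x ∈ V i, a * (x * (c * x * c⁻¹)) = x * (c * x * c⁻¹) * a) : ∃ D E, StarO F V z i j D E :=
  StarH.out (T := T) (c := c) (a := a)
    { syl := h.syl
      card := h.card
      zV := h.zV
      z1 := h.z1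
      sq := h.sq
      cm := fun i j x hx y hy => by
        have := h.comm 1 (one_mem F) i j x hx y hy
        simpa using this
      ind := h.ind
      perm := h.perm
      tr := h.tr
      mov := fun i => by
        obtain ⟨A, hA, hm⟩ := h.mov i
        obtain ⟨t, ht, h1, h2⟩ := h.hat A hA i hm
        exact ⟨t, hA.2.1 ht, h1, h2⟩
      ti := fun i x hx hx1 hxa => ha0 (h.ti i x hx hx1 a ha hxa)
      ij := hij
      cT := hc
      cc := hc2
      cV := hcV
      aF := ha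
      star := hE }

theorem Sit.false [Finite G] (h : Sit F T F₀ V z) : False := by
  obtain ⟨i, j, hij, c, hc, hc2, hcV, a, ha, ha0, hE⟩ := h.exists_star
  obtain ⟨D, E, hs⟩ := h.starO hij hc (fun u _ => by
    have h1 : c * (c * u * c⁻¹) * c⁻¹ = (c * c) * u * (c * c)⁻¹ := by group
    rw [h1, hc2]; group) hcV ha ha0 hE
  exact h.false_of hs

/-- The star lemma for `SitF`. -/
theorem Fam.SitF.starO [Finite G] (h : Fam.SitF F T F₀ 𝓐 V z) {i j : ι} (hij : i ≠ j) {c a : G} (hc : c ∈ T)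
    (hc2 : ∀ u ∈ ⨆ k, V k, c * (c * u * c⁻¹) * c⁻¹ = u) (hcV : cj c (V i) = V j) (ha : a ∈ F) (ha0 : a ∉ F₀)
    (hE : ∀ x ∈ V i, a * (x * (c * x * c⁻¹)) = x * (c * x * c⁻¹) * a) : ∃ D E, StarO F V z i j D E :=
  StarH.out (T := T) (c := c) (a := a)
    { syl := h.syl
      card := h.card
      zV := h.zV
      z1 := h.z1
      sq := h.sq
      cm := fun i j x hx y hy => by
        have := h.comm 1 (one_mem F) i j x hx y hy
        simpa using this
      ind := h.ind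
      perm := h.perm
      tr := h.tr
      mov := h.mov
      ti := fun i x hx hx1 hxa => ha0 (h.ti i x hx hx1 a ha hxa)
      ij := hij
      cT := hc
      cc := hc2
      cV := hcV
      aF := ha
      star := hE }

theorem Fam.SitF.false [Finite G] (h : Fam.SitF F T F₀ 𝓐 V z) : False := by
  obtain ⟨i, j, hij, c, hc, hc2, hcV, a, ha, ha0, hE⟩ := h.exists_star
  obtain ⟨D, E, hs⟩ := h.starO hij hc hc2 hcV ha ha0 hE
  exact h.false_of hs

/-- **THEOREM SW, STEPS 1 and 2.** -/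
theorem sitFalse : SitFalse.{u} := fun _ _ _ _ _ _ _ _ _ h => h.false

end Cfsg.Agent.Omega.OM.Swap

end

section


/-!
# THEOREM SW (#18741), stage `-1`, over an abstract line `V` (box R, bb #24115)

`M ≥ K0, N_G(B)`, frame `LineV S Q V L W Z C A 2`.

* `exists_sit` : STEP 0: if some subgroup `H ≥ B` of characteristic 2 is not contained in `M`, then `Swap.Sit`;
* **`le_of_char2`** : every subgroup `H ≥ B` of characteristic 2 is contained in `M`;
* **`nonLoc`** : if `K0` normalises a nontrivial 2-group, then `O₂(K0) ≠ 1` and `M = N_G(O₂(K0))` contains `C_G(Z_J)`, all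
  FF-blocks over `B`, `N_G(B)`, `S` and every subgroup `H ≥ B` of characteristic 2.
-/

set_option autoImplicit false
set_option linter.unusedSectionVars false

namespace Cfsg.Agent.Omega.OM.SwapV.NegPlug

open Subgroup Cfsg Cfsg.Agent.ZN.ChoiceBase Cfsg.Agent.ZN.ChoiceSit
open Cfsg.Agent.ZN (jj zj bau zc zl o2)
open Cfsg.Agent.Omega.OM.Dich (K0 Fam)
open Cfsg.Agent.Omega.OM.BlkGen (FBlk)
open Cfsg.Agent.Omega.OM.SwapV.NegPair
open Cfsg.Agent.Omega.OM.Swap (MF Phi Sit SitFalse mm_two AA_two char2_cent mem_of_cj_bau_le zj_le_bau cj_mul_eq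
  cj_inv_eq)

universe u

variable {G : Type u} [Group G] [Finite G]

section line

variable {ι : Type} [Finite ι] {S : Sylow 2 G} {Q V : Subgroup G} {L W Z C A : ι → Subgroup G}

/-- A pair with `|Phi(T)|` maximal; `C_G(Z₀ z_j) ≤ M` for `j ∉ Phi(T)`. -/
theorem exists_max (h : LineV S Q V L W Z C A 2) (hFF : FFThm.Stmt.{u}) (hA : FFBr.AStmt.{u}) {M H : Subgroup G}
    (hK : K0 (S : Subgroup G) (FBlk (S : Subgroup G)) ≤ M) (hN : normalizer (bau (S : Subgroup G) : Set G) ≤ M)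
    (hB : bau (S : Subgroup G) ≤ H) (hc : H ⊓ centralizer (o2 H : Set G) ≤ o2 H) (hM : ¬ H ≤ M) :
    ∃ T F : Subgroup G, Pair S V M T F ∧ ∀ j, j ∉ Phi Z T →
      centralizer (((⨆ i ∈ Phi Z T, Z i) ⊔ Z j : Subgroup G) : Set G) ≤ M := by
  classical
  have hS2 : IsPGroup 2 (zj (S : Subgroup G)) := S.isPGroup'.to_le ((zj_le_bau _).trans (bau_le _))
  -- choose
  let s : Set ℕ := {n | ∃ T F : Subgroup G, Pair S V M T F ∧ (Phi Z T).ncard = n}
  have hs1 : s.Nonempty := by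
    obtain ⟨T, F, hp, -⟩ := exists_pair h hFF hA hK hN hB hc hM
    exact ⟨_, T, F, hp, rfl⟩
  have hs2 : s.Finite := by
    refine (Set.finite_Iic (Nat.card ι)).subset ?_
    rintro n ⟨T, F, -, rfl⟩
    rw [Set.mem_Iic, ← Set.ncard_univ]
    exact Set.ncard_le_ncard (Set.subset_univ _)
  obtain ⟨n, hn⟩ := hs2.exists_maximal hs1
  obtain ⟨T, F, hp, hcard⟩ := hn.prop
  refine ⟨T, F, hp, fun j hj => ?_⟩
  by_contra hcon
  set X : Subgroup G := (⨆ i ∈ Phi Z T, Z i) ⊔ Z j with hX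
  have hXJ : X ≤ zj (S : Subgroup G) :=
    sup_le (iSup_le fun i => iSup_le fun _ => h.fr.Z_le i) (h.fr.Z_le j)
  have hX1 : X ≠ ⊥ := by
    intro e
    obtain ⟨z, hz, hz1⟩ := Z_ne h j
    have h1 : z ∈ X := mem_sup_right hz
    rw [e, mem_bot] at h1
    exact hz1 h1
  have hBX : bau (S : Subgroup G) ≤ centralizer (X : Set G) :=
    (Dich.bau_le_cent _).trans (centralizer_le (by exact_mod_cast hXJ))
  obtain ⟨T', F', hp', hle⟩ := exists_pair h hFF hA hK hN hBX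
    (char2_cent h.ch (hS2.to_le hXJ) hX1) hcon
  have hfix : ∀ i, Z i ≤ X → i ∈ Phi Z T' := by
    intro i hi t ht
    have h1 := hle (hp'.syl.1 ht)
    refine cj_eq_of_mem_normalizer (centralizer_le_normalizer _ ?_)
    exact centralizer_le (by exact_mod_cast hi) h1
  have hsub : insert j (Phi Z T) ⊆ Phi Z T' := by
    rintro i (rfl | hi)
    · exact hfix _ le_sup_right
    · exact hfix _ (le_sup_of_le_left (le_iSup₂ (f := fun i (_ : i ∈ Phi Z T) => Z i) i hi))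
  have h2 : n + 1 ≤ (Phi Z T').ncard := by
    rw [← hcard, ← Set.ncard_insert_of_notMem hj (Set.toFinite _)]
    exact Set.ncard_le_ncard hsub (Set.toFinite _)
  have h3 : (Phi Z T').ncard ≤ n := hn.le_of_ge ⟨T', F', hp', rfl⟩ (by show n ≤ (Phi Z T').ncard; omega)
  omega

/-- `V` commutes with its conjugates under `F` if `V ≤ O₂(F)`, `B ≤ T`. -/
theorem comm_of_pair (h : LineV S Q V L W Z C A 2) {M T F : Subgroup G} (hp : Pair S V M T F) {f : G} (hf : f ∈ F)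
    {x y : G} (hx : x ∈ V) (hy : y ∈ V) :
    x * (f * y * f⁻¹) = f * y * f⁻¹ * x := by
  have hV := hp.VO
  have hO : o2 F ≤ T := o2_le_syl hp.syl
  have hcO : cj f (o2 F) = o2 F := cj_eq_of_mem_normalizer (le_normalizer_o2 F hf)
  refine h.nff T hp.syl.2.1 hp.BT f ?_ ?_ x hx _ ⟨y, hy, rfl⟩
  · have := cj_mono f hV
    rw [hcO] at this
    exact this.trans hO
  · have := cj_mono f hO
    rw [hcO] at this
    exact hV.trans this

/-- **STEP 0.** -/
theorem exists_sit (h : LineV S Q V L W Z C A 2) (hmf : MF (S : Subgroup G) L W Z) (hFF : FFThm.Stmt.{u})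
    (hA : FFBr.AStmt.{u}) {M H : Subgroup G}
    (hK : K0 (S : Subgroup G) (FBlk (S : Subgroup G)) ≤ M) (hN : normalizer (bau (S : Subgroup G) : Set G) ≤ M)
    (hB : bau (S : Subgroup G) ≤ H) (hc : H ⊓ centralizer (o2 H : Set G) ≤ o2 H) (hM : ¬ H ≤ M) :
    ∃ (T F F₀ : Subgroup G) (κ : Type) (U : κ → Subgroup G) (z : κ → G), Sit F T F₀ U z := by
  classical
  obtain ⟨T, F, hp, hcen⟩ := exists_max h hFF hA hK hN hB hc hM
  have hD : centralizer (zj (S : Subgroup G) : Set G) ≤ M := Dich.cent_le_K0.trans hK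
  have hSM : (S : Subgroup G) ≤ M := (Line.S_le S).trans hN
  have hLM : ∀ i, L i ≤ M := fun i => (Dich.blk_le_K0 (h.fblk i)).trans hK
  have hTN : T ≤ normalizer (bau (S : Subgroup G) : Set G) := Dich.two_le S hp.syl.2.1 hp.BT
  have hTM : T ≤ M := hTN.trans hN
  have hO : o2 F ≤ T := o2_le_syl hp.syl
  have hON : o2 F ≤ normalizer (bau (S : Subgroup G) : Set G) := hO.trans hTN
  have hTF : T ≤ F := hp.syl.1
  choose z hz hz1 using Z_ne h
  -- an index moved by `O₂(F)`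
  obtain ⟨i₀, o₀, ho₀, hmv⟩ : ∃ i, ∃ o ∈ o2 F, cj o (Z i) ≠ Z i := by
    by_contra hcon
    push Not at hcon
    apply hp.nM
    have h1 : zj (S : Subgroup G) ≤ centralizer (F : Set G) := by
      intro x hx
      refine hp.fix ⟨hx, mem_centralizer_iff.2 fun o ho => ?_⟩
      refine comm_of_supp h (hON ho) hx fun i j e => ?_
      rw [hcon i o ho] at e
      rw [Z_inj h e]
    exact (le_centralizer_iff.1 h1).trans hD
  -- its orbit
  set r : Set ι := {j | ∃ o ∈ o2 F, cj o (Z i₀) = Z j} with hr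
  have hrO : ∀ o ∈ o2 F, ∀ i j, cj o (Z i) = Z j → (i ∈ r ↔ j ∈ r) := by
    intro o ho i j e
    constructor
    · rintro ⟨o', ho', e'⟩
      exact ⟨o * o', mul_mem ho ho', cj_mul_eq e' e⟩
    · rintro ⟨o', ho', e'⟩
      exact ⟨o⁻¹ * o', mul_mem (inv_mem ho) ho', cj_mul_eq e' (cj_inv_eq e)⟩
  have hi₀ : i₀ ∈ r := ⟨1, one_mem _, cj_one _⟩
  obtain ⟨j₀, hj₀, -⟩ := perm h (hON ho₀) i₀
  have hj₀r : j₀ ∈ r := ⟨o₀, ho₀, hj₀⟩
  have hne₀ : i₀ ≠ j₀ := by
    rintro rfl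
    exact hmv hj₀
  -- elements of `Z_J` with support `r` are centralised by `F`
  have hsuppF : ∀ x ∈ zj (S : Subgroup G), (∀ i, x ∈ C i ↔ i ∉ r) → ∀ f ∈ F, f * x = x * f := by
    intro x hx hxs f hf
    refine mem_centralizer_iff.1 (hp.fix ⟨hx, mem_centralizer_iff.2 fun o ho => ?_⟩) f hf
    refine comm_of_supp h (hON ho) hx fun i j e => ?_
    rw [hxs i, hxs j, hrO o ho i j e]
  obtain ⟨xr, hxr, hxrs⟩ := exists_supp h r
  -- `T` stabilises `r`
  have hrT : ∀ t ∈ T, ∀ i j, cj t (Z i) = Z j → i ∈ r → j ∈ r := by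
    intro t ht i j e hi
    by_contra hj
    have h1 := (supp_cj h (hTN ht) e hxr).1
    have h2 := hsuppF xr hxr hxrs t (hTF ht)
    have h3 : t * xr * t⁻¹ = xr := by rw [h2]; group
    rw [h3] at h1
    exact (hxrs i).1 (h1 ((hxrs j).2 hj)) hi
  -- `r` and `Phi(T)` are disjoint
  have hrPhi : ∀ j ∈ r, j ∉ Phi Z T := by
    rintro j ⟨o, ho, e⟩ hj
    apply hmv
    have h1 := hj (o * o₀ * o⁻¹) (hO (mul_mem (mul_mem ho ho₀) (inv_mem ho)))
    rw [← e, cj_cj] at h1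
    have h2 : cj o⁻¹ (cj (o * o₀ * o⁻¹ * o) (Z i₀)) = cj o⁻¹ (cj o (Z i₀)) := by rw [h1]
    rw [cj_cj, cj_inv_cj] at h2
    have e2 : o⁻¹ * (o * o₀ * o⁻¹ * o) = o₀ := by group
    rwa [e2] at h2
  -- the group `Z₀`
  set Z₀ : Subgroup G := ⨆ i ∈ Phi Z T, Z i with hZ₀
  have hZ₀J : Z₀ ≤ zj (S : Subgroup G) := iSup_le fun i => iSup_le fun _ => h.fr.Z_le i
  have hFZ₀ : F ≤ centralizer (Z₀ : Set G) := by
    rw [le_centralizer_iff]
    refine iSup_le fun i => iSup_le fun hi x hx => ?_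
    refine hp.fix ⟨h.fr.Z_le i hx, mem_centralizer_iff.2 fun o ho => ?_⟩
    exact cent_of_cj h (hi o (hO ho)) hx
  have hBZ₀ : bau (S : Subgroup G) ≤ centralizer (Z₀ : Set G) :=
    (Dich.bau_le_cent _).trans (centralizer_le (by exact_mod_cast hZ₀J))
  have hLZ₀ : ∀ j ∈ r, L j ≤ centralizer (Z₀ : Set G) := by
    intro j hj
    rw [le_centralizer_iff]
    refine iSup_le fun i => iSup_le fun hi x hx => ?_
    rw [mem_centralizer_iff]
    intro l hl
    have hij : j ≠ i := by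
      rintro rfl
      exact hrPhi _ hj hi
    exact h.fr.LC j l hl x (h.fr.Z_le i hx) (Z_C h hij hx)
  -- (TI)
  have hti : ∀ i ∈ r, ∀ x ∈ W i, x ≠ 1 → ∀ f ∈ F, x ∈ cj f (⨆ j ∈ r, W j) → f ∈ M := by
    intro i hi x hx hx1 f hf hxf
    obtain ⟨l, hl, hxl⟩ := UniPlus.cover_two (UniPlus.nb h.fr i) hx
    rw [mem_cj] at hxl hxf
    -- `C_G(Z₀ x) ≤ M`
    have hcx : ∀ u, u ∈ centralizer (Z₀ : Set G) → u * x = x * u → u ∈ M := by
      intro u hu hux
      have h1 : l⁻¹ * u * l ∈ M := by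
        refine hcen i (hrPhi i hi) ?_
        rw [mem_centralizer_iff]
        intro y hy
        have h2 : ((⨆ i ∈ Phi Z T, Z i) ⊔ Z i : Subgroup G) ≤ centralizer ({l⁻¹ * u * l} : Set G) := by
          refine sup_le ?_ fun y hy => ?_
          · have h3 : l⁻¹ * u * l ∈ centralizer (Z₀ : Set G) :=
              mul_mem (mul_mem (inv_mem (hLZ₀ i hi hl)) hu) (hLZ₀ i hi hl)
            intro y hy
            rw [mem_centralizer_singleton_iff]
            exact mem_centralizer_iff.1 h3 y hy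
          · rw [mem_centralizer_singleton_iff]
            by_cases hy1 : y = 1
            · rw [hy1]; simp
            have h3 : l⁻¹ * x * l ≠ 1 := fun h4 => hx1 (by
              have h5 := congrArg (fun t => l * t * l⁻¹) h4
              simpa [mul_assoc] using h5)
            have h4 := Z_eq h hy hxl hy1 h3
            rw [h4]
            have h5 := congrArg (fun t => l⁻¹ * t * l) hux
            simpa [mul_assoc] using h5.symm
        exact mem_centralizer_singleton_iff.1 (h2 hy)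
      have h2 := mul_mem (mul_mem (hLM i hl) h1) (inv_mem (hLM i hl))
      have e : l * (l⁻¹ * u * l) * l⁻¹ = u := by group
      rwa [e] at h2
    obtain ⟨m, hm, hmx⟩ := hmf.conj r _ hxf
    have hmM : m ∈ M := (iSup₂_le fun i (_ : i ∈ r) => hLM i : (⨆ i ∈ r, L i) ≤ M) hm
    have hmZ : m ∈ centralizer (Z₀ : Set G) :=
      (iSup₂_le fun i (hi : i ∈ r) => hLZ₀ i hi : (⨆ i ∈ r, L i) ≤ centralizer (Z₀ : Set G)) hm
    have hg : f * m⁻¹ ∈ M := by
      refine mem_of_cj_bau_le S hSM hN ?_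
      rintro _ ⟨b, hb, rfl⟩
      refine hcx _ ?_ ?_
      · have hgZ : f * m⁻¹ ∈ centralizer (Z₀ : Set G) := mul_mem (hFZ₀ hf) (inv_mem hmZ)
        exact mul_mem (mul_mem hgZ (hBZ₀ hb)) (inv_mem hgZ)
      · have h1 := (mem_bau.1 hb).2 _ hmx
        change (f * m⁻¹) * b * (f * m⁻¹)⁻¹ * x = x * ((f * m⁻¹) * b * (f * m⁻¹)⁻¹)
        have h2 := congrArg (fun t => (f * m⁻¹) * t * (f * m⁻¹)⁻¹) h1
        have e1 : (f * m⁻¹) * (m * (f⁻¹ * x * f) * m⁻¹ * b) * (f * m⁻¹)⁻¹ =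
          x * ((f * m⁻¹) * b * (f * m⁻¹)⁻¹) := by group
        have e2 : (f * m⁻¹) * (b * (m * (f⁻¹ * x * f) * m⁻¹)) * (f * m⁻¹)⁻¹ =
          (f * m⁻¹) * b * (f * m⁻¹)⁻¹ * x := by group
        have h3 : (f * m⁻¹) * (m * (f⁻¹ * x * f) * m⁻¹ * b) * (f * m⁻¹)⁻¹ =
            (f * m⁻¹) * (b * (m * (f⁻¹ * x * f) * m⁻¹)) * (f * m⁻¹)⁻¹ := by
          exact h2
        rw [e1, e2] at h3
        exact h3.symm
    have h3 := mul_mem hg hmM
    have e : f * m⁻¹ * m = f := by group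
    rwa [e] at h3
  have hsup : (⨆ j : r, W j) = ⨆ j ∈ r, W j := iSup_subtype' (f := fun j (_ : j ∈ r) => W j) |>.symm
  have hWV : ∀ i, W i ≤ V := h.fr.WV
  refine ⟨T, F, F ⊓ M, r, fun i => W i, fun i => z i, ?_⟩
  refine
    { syl := hp.syl
      TF₀ := le_inf hTF hTM
      F₀F := lt_of_le_of_ne inf_le_left fun e => hp.nM (inf_eq_left.1 e)
      max := fun K hTK hKF => le_inf hKF.le (hp.min K hTK hKF)
      nJ := ?_
      fin := inferInstance
      two := ⟨⟨i₀, hi₀⟩, ⟨j₀, hj₀r⟩, fun e => hne₀ (congrArg Subtype.val e)⟩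
      card := fun i => by rw [(h.fr.blk i).card, h.fr.cardZ]
      zV := fun i => Z_W h _ (hz i)
      z1 := fun i => hz1 i
      VO := fun i => (hWV i).trans hp.VO
      sq := fun i x hx => by
        rw [← pow_two]
        exact SQ1.Bau.elem_sq h.fr.el x (hWV i hx)
      comm := fun f hf i j x hx y hy => comm_of_pair h hp hf (hWV i hx) (hWV j hy)
      ind := ?_
      perm := ?_
      tr := ?_
      act := fun X hX a ha i x hx => hmf.act X (AA_two S hp.syl.2.1 hp.BT hX) a ha i x hx (z i) (hz i) (hz1 i)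
      hat := ?_
      mov := ?_
      zc := ?_
      ti := ?_ }
  · by_contra hcon
    push Not at hcon
    apply hp.nJ
    rw [← LemmaK.Main.jj_eq S hp.syl.2.1 hp.BT, Cfsg.Agent.ZN.ChoiceBase.jj_eq]
    exact sSup_le hcon
  · rintro ⟨i, hi⟩ x hx hx'
    have h1 : (⨆ j : r, ⨆ _ : j ≠ ⟨i, hi⟩, W j) ≤ C i := by
      refine iSup_le fun j => iSup_le fun hj => ?_
      exact h.fr.WjC i j fun e => hj (Subtype.ext e.symm)
    have h2 : x ∈ W i ⊓ C i := mem_inf.2 ⟨hx, h1 hx'⟩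
    rwa [h.fr.dir i, mem_bot] at h2
  · rintro t ht ⟨i, hi⟩
    obtain ⟨j, h1, h2, -⟩ := perm h (hTN ht) i
    exact ⟨⟨j, hrT t ht i j h1 hi⟩, h2, conj_gen h h1 (hz i) (hz1 i) (hz j) (hz1 j)⟩
  · rintro ⟨i, o, ho, e⟩ ⟨j, o', ho', e'⟩
    refine ⟨o' * o⁻¹, mul_mem ho' (inv_mem ho), ?_⟩
    exact W_cj h (hON (mul_mem ho' (inv_mem ho))) (cj_mul_eq (cj_inv_eq e) e')
  · rintro X hX ⟨i, hi⟩ hmv'
    obtain ⟨a, ha, h1, h2⟩ := hmf.hat X (AA_two S hp.syl.2.1 hp.BT hX) i hmv'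
    exact ⟨a, ha, h1, fun j hj x hx => h2 j (fun e => hj (Subtype.ext e)) x hx⟩
  · rintro ⟨i, hi⟩
    have h1 : A i ∈ AA T := by
      rw [mem_AA_iff]
      refine ⟨h.fr.Ael i, (h.fr.AB i).trans hp.BT, ?_⟩
      rw [mm_two S hp.syl.2.1 hp.BT, h.fr.Am i]
    have h2 := h.fr.Ane i
    push Not at h2
    obtain ⟨a, ha, v, hv, hne⟩ := h2
    exact ⟨A i, h1, a, ha, v, hv, hne⟩
  · rintro ⟨i, hi⟩ ⟨j, hj⟩ hij hall f hf
    have hij' : i ≠ j := fun e => hij (Subtype.ext e)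
    have hall' : ∀ k ∈ r, k = i ∨ k = j := by
      intro k hk
      rcases hall ⟨k, hk⟩ with e | e
      · exact Or.inl (congrArg Subtype.val e)
      · exact Or.inr (congrArg Subtype.val e)
    refine hsuppF (z i * z j) (mul_mem (h.fr.Z_le i (hz i)) (h.fr.Z_le j (hz j))) (fun k => ?_) f hf
    by_cases hki : k = i
    · subst hki
      rw [Subgroup.mul_mem_cancel_right _ (Z_C h hij' (hz j))]
      exact ⟨fun h1 => absurd h1 (not_mem_C h (hz k) (hz1 k)), fun h1 => absurd hi h1⟩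
    · by_cases hkj : k = j
      · subst hkj
        rw [Subgroup.mul_mem_cancel_left _ (Z_C h hki (hz i))]
        exact ⟨fun h1 => absurd h1 (not_mem_C h (hz k) (hz1 k)), fun h1 => absurd hj h1⟩
      · refine ⟨fun _ hk => ?_, fun _ => mul_mem (Z_C h hki (hz i)) (Z_C h hkj (hz j))⟩
        rcases hall' k hk with e | e
        · exact hki e
        · exact hkj e
  · rintro ⟨i, hi⟩ x hx hx1 f hf hxf
    rw [hsup] at hxf
    exact mem_inf.2 ⟨hf, hti i hi x hx hx1 f hf hxf⟩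

/-- **THEOREM SW**: every subgroup of characteristic 2 over `B` is contained in every `M ≥ K0, N_G(B)`. -/
theorem le_of_char2' (hs : SitFalse.{u}) (h : LineV S Q V L W Z C A 2) (hmf : MF (S : Subgroup G) L W Z)
    (hFF : FFThm.Stmt.{u}) (hA : FFBr.AStmt.{u}) {M H : Subgroup G}
    (hK : K0 (S : Subgroup G) (FBlk (S : Subgroup G)) ≤ M) (hN : normalizer (bau (S : Subgroup G) : Set G) ≤ M)
    (hB : bau (S : Subgroup G) ≤ H) (hc : H ⊓ centralizer (o2 H : Set G) ≤ o2 H) : H ≤ M := by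
  by_contra hM
  obtain ⟨T, F, F₀, κ, U, z, hS⟩ := exists_sit h hmf hFF hA hK hN hB hc hM
  exact hs G F T F₀ κ U z hS

/-- **THEOREM SW** -/
theorem le_of_char2 (h : LineV S Q V L W Z C A 2) (hmf : MF (S : Subgroup G) L W Z)
    (hFF : FFThm.Stmt.{u}) (hA : FFBr.AStmt.{u}) {M H : Subgroup G}
    (hK : K0 (S : Subgroup G) (FBlk (S : Subgroup G)) ≤ M) (hN : normalizer (bau (S : Subgroup G) : Set G) ≤ M)
    (hB : bau (S : Subgroup G) ≤ H) (hc : H ⊓ centralizer (o2 H : Set G) ≤ o2 H) : H ≤ M :=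
  le_of_char2' Swap.sitFalse h hmf hFF hA hK hN hB hc

/-- **(Om)**: if `K0` normalises a nontrivial 2-group, then `M = N_G(O₂(K0))` is local and contains everything of
characteristic 2 over `B`. -/
theorem nonLoc (h : LineV S Q V L W Z C A 2) (hmf : MF (S : Subgroup G) L W Z)
    (hFF : FFThm.Stmt.{u}) (hA : FFBr.AStmt.{u}) {R : Subgroup G} (hR : IsPGroup 2 R) (hR1 : R ≠ ⊥)
    (hRK : K0 (S : Subgroup G) (FBlk (S : Subgroup G)) ≤ normalizer (R : Set G)) :
    ∃ M : Subgroup G, M = normalizer (o2 (K0 (S : Subgroup G) (FBlk (S : Subgroup G))) : Set G) ∧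
      o2 (K0 (S : Subgroup G) (FBlk (S : Subgroup G))) ≠ ⊥ ∧
      o2 (K0 (S : Subgroup G) (FBlk (S : Subgroup G))) ≤ bau (S : Subgroup G) ∧
      K0 (S : Subgroup G) (FBlk (S : Subgroup G)) ≤ M ∧
      centralizer (zj (S : Subgroup G) : Set G) ≤ M ∧ (∀ L V, FBlk (S : Subgroup G) L V → L ≤ M) ∧
      normalizer (bau (S : Subgroup G) : Set G) ≤ M ∧ (S : Subgroup G) ≤ M ∧
      ∀ H : Subgroup G, bau (S : Subgroup G) ≤ H → H ⊓ centralizer (o2 H : Set G) ≤ o2 H → H ≤ M := by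
  obtain ⟨h1, h2, h3⟩ := h.fam.dich hR hR1 hRK
  have h4 : K0 (S : Subgroup G) (FBlk (S : Subgroup G)) ≤
      normalizer (o2 (K0 (S : Subgroup G) (FBlk (S : Subgroup G))) : Set G) := le_sup_left.trans h3
  have h5 : normalizer (bau (S : Subgroup G) : Set G) ≤
      normalizer (o2 (K0 (S : Subgroup G) (FBlk (S : Subgroup G))) : Set G) := le_sup_right.trans h3
  exact ⟨_, rfl, h1, h2, h4, Dich.cent_le_K0.trans h4, fun L V hL => (Dich.blk_le_K0 hL).trans h4, h5,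
    (Line.S_le S).trans h5, fun H hB hc => le_of_char2 h hmf hFF hA h4 h5 hB hc⟩

/-- **(Om) for local subgroups**: the 2-local subgroups over `B` are contained in `M`. -/
theorem nonLoc_loc (h : LineV S Q V L W Z C A 2) (hmf : MF (S : Subgroup G) L W Z)
    (hFF : FFThm.Stmt.{u}) (hA : FFBr.AStmt.{u}) {R : Subgroup G} (hR : IsPGroup 2 R) (hR1 : R ≠ ⊥)
    (hRK : K0 (S : Subgroup G) (FBlk (S : Subgroup G)) ≤ normalizer (R : Set G)) {H : Subgroup G}
    (hB : bau (S : Subgroup G) ≤ H) (ho : o2 H ≠ ⊥) :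
    H ≤ normalizer (o2 (K0 (S : Subgroup G) (FBlk (S : Subgroup G))) : Set G) := by
  obtain ⟨M, rfl, -, -, -, -, -, -, -, hall⟩ := nonLoc h hmf hFF hA hR hR1 hRK
  have h1 : normalizer (o2 H : Set G) ⊓ centralizer (o2 (normalizer (o2 H : Set G)) : Set G) ≤
      o2 (normalizer (o2 H : Set G)) := self_cent h.ch ⟨o2 H, isPGroup_o2 H, ho, rfl⟩
  exact (le_normalizer_o2 H).trans (hall _ (hB.trans (le_normalizer_o2 H)) h1)

end line

end Cfsg.Agent.Omega.OM.SwapV.NegPlug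

end
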