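import Cfsg.Agent.Mrg.Omega.OM.Swap.Loc
import Cfsg.Agent.Mrg.Omega.OmThm.NoOv
import Cfsg.Agent.Mrg.Omega.OM.Dich
import Cfsg.Agent.ZN.ChoiceNse
import Cfsg.Agent.Mrg.Omega.OM.Swap.Rep
import Cfsg.Agent.Mrg.Omega.SQ1.Choice

section


/-!
# THEOREM SW, STEP 2: two factors, `O` induces `⟨s₊, s₋⟩`: contradiction

`Two.false`.
-/

set_option autoImplicit false

namespace Cfsg.Agent.Omega.OM.Swap

open Subgroup Cfsg Cfsg.Agent.ZN Cfsg.Agent.ZN.ChoiceBase Cfsg.Agent.ZN.ChoiceSit Cfsg.Agent.Omega.NoFF.Basic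
  Cfsg.Agent.MinSimple.VModule Cfsg.Agent.Omega.OmThm
open Cfsg.Agent.MinSimple.MinParabolic (IsMinPar)
open scoped Pointwise commutatorElement

universe u

variable {G : Type u} [Group G] {F T : Subgroup G}

theorem cj_self {g : G} (hg : g ∈ F) : cj g F = F := cj_eq_of_mem_normalizer (le_normalizer hg)

theorem cj_o2_self {g : G} (hg : g ∈ F) : cj g (o2 F) = o2 F :=
  cj_eq_of_mem_normalizer (ChoiceSit.le_normalizer_o2 F hg)

theorem AA_cj {g : G} (hg : g ∈ F) {A : Subgroup G} (hA : A ∈ AA F) : cj g A ∈ AA F := by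
  have := cj_mem_AA g hA
  rwa [cj_self hg] at this

theorem AA_of_syl [Finite G] (hT : Syl T F) {A : Subgroup G} (hA : A ∈ AA T) : A ∈ AA F := by
  refine ⟨hA.1, hA.2.1.trans hT.1, fun B hB hBF => ?_⟩
  obtain ⟨S, hS, hBS⟩ := exists_syl (isPGroup_of_elab hB) hBF
  obtain ⟨x, _, hxT⟩ := syl_conj hS hT
  have h1 := hA.2.2 (cj x B) (isElementaryAbelian_cj x hB) (by rw [← hxT]; exact cj_mono x hBS)
  rwa [card_cj] at h1

theorem AA_of_le [Finite G] {A H : Subgroup G} (hA : A ∈ AA F) (hAH : A ≤ H) (hHF : H ≤ F) : A ∈ AA H :=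
  ⟨hA.1, hAH, fun B hB hBH => hA.2.2 B hB (hBH.trans hHF)⟩

theorem four_le [Finite G] {N X : Subgroup G} (hX : IsPGroup 2 X) {v w : G} (hv : v ∈ X) (hw : w ∈ X)
    (h1 : v ∉ N) (h2 : w ∉ N) (h3 : v * w ∉ N) : 4 ≤ N.relIndex X := by
  have : Fact (Nat.Prime 2) := ⟨Nat.prime_two⟩
  obtain ⟨n, hn⟩ := hX.index (N.subgroupOf X)
  rw [relIndex, hn]
  match n, hn with
  | 0, hn =>
    exfalso
    rw [pow_zero, index_eq_one] at hn
    have : (⟨v, hv⟩ : X) ∈ N.subgroupOf X := by rw [hn]; exact mem_top _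
    exact h1 this
  | 1, hn =>
    exfalso
    rw [pow_one] at hn
    have h4 := (mul_mem_iff_of_index_two hn (a := ⟨v, hv⟩) (b := ⟨w, hw⟩)).2
      ⟨fun h => absurd h h1, fun h => absurd h h2⟩
    exact h3 h4
  | n + 2, _ =>
    calc 4 = 2 ^ 2 := by norm_num
      _ ≤ 2 ^ (n + 2) := Nat.pow_le_pow_right (by norm_num) (by omega)

/-- The situation of STEP 2. -/
structure Two (F T U D : Subgroup G) (z : G) (E : Bool → Subgroup G) : Prop where
  syl : Syl T F
  par : IsMinPar T F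
  nJ : ∃ A ∈ AA T, ¬ A ≤ o2 F
  TU : T ≤ normalizer (U : Set G)
  UO : U ≤ o2 F
  comm : ∀ x ∈ V U F, ∀ y ∈ V U F, x * y = y * x
  sq : ∀ x ∈ V U F, x * x = 1
  nU : ¬ F ≤ normalizer (U : Set G)
  loc : Loc (o2 F) U D z
  zF : ∀ f ∈ F, f * z = z * f
  Ecard : ∀ b, Nat.card (E b) = 4
  Ene : E true ≠ E false
  EU : ∀ b, ∃ f ∈ F, E b = U ⊓ cj f U
  cenA : ∀ A ∈ AA F, A ≤ o2 F → ∀ a ∈ A, ∀ u ∈ U, a * u = u * a
  non : ∃ c ∈ (⁅V U F, o2 F⁆ : Subgroup G), ∃ x ∈ oddGen F, c * x ≠ x * c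

namespace Two

variable {U D : Subgroup G} {z : G} {E : Bool → Subgroup G}

theorem xd [Finite G] (h : Two F T U D z E) : XD T F U where
  S2 := h.syl.2.1
  SX := h.syl.1
  gen := (Dich.oddGen_sup_syl h.syl).ge
  QS := o2_le_syl h.syl
  SU := h.TU
  comm := h.comm
  sq := h.sq
  nU := h.nU

theorem cjU_le {g : G} (hg : g ∈ F) : cj g U ≤ V U F := Z_le_V hg

theorem loc' [Finite G] (h : Two F T U D z E) {g : G} (hg : g ∈ F) : Loc (o2 F) (cj g U) (cj g D) z :=
  h.loc.conj (cj_o2_self hg) (h.zF g hg)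

theorem F_le (_ : Two F T U D z E) : F ≤ normalizer (V U F : Set G) := XD.X_le_normalizer_W

theorem V_le_O (h : Two F T U D z E) : V U F ≤ o2 F := V_le fun p hp => by
  have h1 : cj p U ≤ cj p (o2 F) := cj_mono p h.UO
  rw [cj_o2_self hp] at h1
  exact h1

theorem V_le_F (h : Two F T U D z E) : V U F ≤ F := h.V_le_O.trans (ChoiceSit.o2_le F)

theorem isElab (h : Two F T U D z E) : IsElementaryAbelian 2 (V U F) := elab_of h.comm h.sq

theorem cenA' (h : Two F T U D z E) {A : Subgroup G} (hA : A ∈ AA F) (hAO : A ≤ o2 F) :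
    A ≤ centralizer (V U F : Set G) := by
  rw [le_centralizer_iff]
  refine V_le fun p hp => ?_
  intro x hx
  rw [mem_centralizer_iff]
  intro a ha
  have h1 : cj p⁻¹ A ≤ o2 F := by
    have := cj_mono p⁻¹ hAO
    rwa [cj_o2_self (inv_mem hp)] at this
  have h2 := h.cenA _ (AA_cj (inv_mem hp) hA) h1 (p⁻¹ * a * p)
    (by rw [mem_cj]; have : p⁻¹⁻¹ * (p⁻¹ * a * p) * p⁻¹ = a := by group
        rwa [this]) (p⁻¹ * x * p) (mem_cj.1 hx)
  have h3 := congrArg (fun t => p * t * p⁻¹) h2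
  simpa [mul_assoc] using h3

/-- The subgroup of all `x ∈ Λ` with `[x, c] ∈ ⟨z⟩`. -/
def NN (h : Two F T U D z E) {c : G} (hc : c ∈ o2 F) : Subgroup G where
  carrier := {x | x ∈ V U F ∧ (x * (c * x * c⁻¹) = 1 ∨ x * (c * x * c⁻¹) = z)}
  one_mem' := ⟨one_mem _, Or.inl (by simp)⟩
  mul_mem' := by
    rintro x y ⟨hx, hx'⟩ ⟨hy, hy'⟩
    refine ⟨mul_mem hx hy, ?_⟩
    have hcx : c * x * c⁻¹ ∈ V U F := (mem_normalizer_iff.1 (h.F_le (ChoiceSit.o2_le F hc)) x).1 hx
    have e1 : x * y * (c * (x * y) * c⁻¹) = (x * (c * x * c⁻¹)) * (y * (c * y * c⁻¹)) := by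
      have h1 := h.comm y hy _ hcx
      calc x * y * (c * (x * y) * c⁻¹) = x * (y * (c * x * c⁻¹)) * (c * y * c⁻¹) := by group
        _ = x * ((c * x * c⁻¹) * y) * (c * y * c⁻¹) := by rw [h1]
        _ = _ := by group
    have hzz : z * z = 1 := h.loc.sq z h.loc.zU
    rw [e1]
    rcases hx' with hx' | hx' <;> rcases hy' with hy' | hy' <;> rw [hx', hy'] <;> simp [hzz]
  inv_mem' := by
    rintro x ⟨hx, hx'⟩
    have : x⁻¹ = x := inv_eq_of_mul_eq_one_left (h.sq x hx)
    rw [this]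
    exact ⟨hx, hx'⟩

theorem mem_NN (h : Two F T U D z E) {c : G} (hc : c ∈ o2 F) {x : G} :
    x ∈ h.NN hc ↔ x ∈ V U F ∧ (x * (c * x * c⁻¹) = 1 ∨ x * (c * x * c⁻¹) = z) := Iff.rfl

theorem comm_eq [Finite G] (h : Two F T U D z E) {x o : G} (hx : x ∈ V U F) (ho : o ∈ o2 F) :
    ⁅x, o⁆ = x * (o * x * o⁻¹) := by
  have : x⁻¹ = x := inv_eq_of_mul_eq_one_left (h.sq x hx)
  rw [commutatorElement_def, this]
  group

theorem le_NN [Finite G] (h : Two F T U D z E) {c : G} (hc : c ∈ o2 F) : (⁅V U F, o2 F⁆ : Subgroup G) ≤ h.NN hc := by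
  rw [commutator_le]
  intro x hx o ho
  -- the subgroup of the `x ∈ Λ` with `[x, o] ∈ NN c`
  let L : Subgroup G :=
    { carrier := {x | x ∈ V U F ∧ x * (o * x * o⁻¹) ∈ h.NN hc}
      one_mem' := ⟨one_mem _, by
        have : (1 : G) * (o * 1 * o⁻¹) = 1 := by group
        rw [this]
        exact one_mem _⟩
      mul_mem' := by
        rintro x y ⟨hx, hx'⟩ ⟨hy, hy'⟩
        refine ⟨mul_mem hx hy, ?_⟩
        have hcx : o * x * o⁻¹ ∈ V U F := (mem_normalizer_iff.1 (h.F_le (ChoiceSit.o2_le F ho)) x).1 hx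
        have e1 : x * y * (o * (x * y) * o⁻¹) = (x * (o * x * o⁻¹)) * (y * (o * y * o⁻¹)) := by
          have h1 := h.comm y hy _ hcx
          calc x * y * (o * (x * y) * o⁻¹) = x * (y * (o * x * o⁻¹)) * (o * y * o⁻¹) := by group
            _ = x * ((o * x * o⁻¹) * y) * (o * y * o⁻¹) := by rw [h1]
            _ = _ := by group
        rw [e1]
        exact mul_mem hx' hy'
      inv_mem' := by
        rintro x ⟨hx, hx'⟩
        have : x⁻¹ = x := inv_eq_of_mul_eq_one_left (h.sq x hx)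
        rw [this]
        exact ⟨hx, hx'⟩ }
  have hL : V U F ≤ L := V_le fun g hg y hy => by
    have hy' : y ∈ cj g U := hy
    have h1 := (h.loc' hg).s1 o ho y hy'
    have h2 : y * (o * y * o⁻¹) ∈ h.NN hc :=
      ⟨cjU_le hg ((h.loc' hg).DU h1), (h.loc' hg).s2 c hc _ h1⟩
    exact ⟨cjU_le hg hy', h2⟩
  rw [h.comm_eq hx ho]
  exact (hL hx).2

/-- The step of the chain. `B` centralises all `[x, b]`, `x ∈ Λ`, `b ∈ B`. -/
theorem step [Finite G] (h : Two F T U D z E) {B : Subgroup G} (hB : B ≤ o2 F)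
    (hq : ∀ x ∈ V U F, ∀ b ∈ B, ∀ b' ∈ B, b' * (x * (b * x * b⁻¹)) = x * (b * x * b⁻¹) * b')
    (hn : ¬ B ≤ centralizer (V U F : Set G)) :
    ∃ B' : Subgroup G, B' < B ∧ B ⊓ centralizer (V U F : Set G) ≤ B' ∧ B'.relIndex B ≤ 2 ∧
      4 * (⁅V U F, o2 F⁆ ⊔ (V U F ⊓ centralizer (B' : Set G))).relIndex (V U F) ≤
        (⁅V U F, o2 F⁆ ⊔ (V U F ⊓ centralizer (B : Set G))).relIndex (V U F) := by
  classical
  -- a moved conjugate
  obtain ⟨g, hg, c, hcB, hm⟩ : ∃ g ∈ F, ∃ c ∈ B, ∃ u ∈ cj g U, c * u ≠ u * c := by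
    by_contra hcon
    push Not at hcon
    apply hn
    rw [le_centralizer_iff]
    exact V_le fun g hg x hx => mem_centralizer_iff.2 fun c hc => hcon g hg c hc x hx
  have hc := hB hcB
  have L := h.loc' hg
  set B' : Subgroup G := B ⊓ centralizer ((cj g U : Subgroup G) : Set G) with hB'
  have hVc : centralizer (V U F : Set G) ≤ centralizer ((cj g U : Subgroup G) : Set G) :=
    centralizer_le (cjU_le hg)
  have hcB' : c ∉ B' := by
    intro h1
    obtain ⟨u, hu, hne⟩ := hm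
    exact hne (mem_centralizer_iff.1 h1.2 u hu).symm
  have hlt : B' < B := lt_of_le_of_ne inf_le_left fun h1 => hcB' (h1 ▸ hcB)
  refine ⟨B', hlt, inf_le_inf_left _ hVc, ?_, ?_⟩
  · -- index ≤ 2
    refine Nat.le_of_dvd (by norm_num) (relIndex_dvd_two_iff.2 ⟨c⁻¹, inv_mem hcB, fun b hb => ?_⟩)
    by_cases hbB : b ∈ B'
    · exact Or.inr hbB
    left
    have hbm : ∃ u ∈ cj g U, b * u ≠ u * b := by
      by_contra hcon
      push Not at hcon
      exact hbB ⟨hb, mem_centralizer_iff.2 fun u hu => (hcon u hu).symm⟩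
    have h1 := (L.same hc (hB hb) hm hbm fun u hu => hq u (cjU_le hg hu) c hcB b hb).2
    refine mem_inf.2 ⟨mul_mem hb (inv_mem hcB), mem_centralizer_iff.2 fun u hu => ?_⟩
    -- `b c⁻¹ u c b⁻¹ = u`
    have hu' : c⁻¹ * u * c ∈ cj g U := by
      have := L.nor c⁻¹ (inv_mem hc) u hu
      rwa [inv_inv] at this
    have h2 := h1 _ hu'
    have h3 : c * (c⁻¹ * u * c) * c⁻¹ = u := by group
    rw [h3] at h2
    -- `u = b c⁻¹ u c b⁻¹`
    calc u * (b * c⁻¹) = (b * (c⁻¹ * u * c) * b⁻¹) * (b * c⁻¹) := by rw [← h2]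
      _ = b * c⁻¹ * u := by group
  · -- the two vectors
    obtain ⟨b, hb⟩ : ∃ b, cj g (E b) ≠ ce (cj g U) c := by
      by_contra hcon
      push Not at hcon
      have h1 := (hcon true).trans (hcon false).symm
      have h2 := congrArg (cj g⁻¹) h1
      rw [cj_inv_cj, cj_inv_cj] at h2
      exact h.Ene h2
    obtain ⟨f, hf, hEf⟩ := h.EU b
    set Es : Subgroup G := cj g (E b) with hEs
    have hEs' : Es = cj g U ⊓ cj (g * f) U := by
      rw [hEs, hEf, cj_inf, cj_cj]
    have hEsc : Nat.card Es = 4 := by rw [hEs, card_cj, h.Ecard]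
    have hgf : g * f ∈ F := mul_mem hg hf
    have L' := h.loc' hgf
    -- `c` does not centralise `Es`
    have hcE : ¬ ∀ x ∈ Es, c * x = x * c := by
      intro h1
      apply hb
      apply eq_of_le_of_card_ge
      · intro x hx
        exact mem_ce.2 ⟨by rw [hEs'] at hx; exact hx.1, h1 x hx⟩
      · rw [L.c4 c hc hm, hEsc]
    have hm' : ∃ u ∈ cj (g * f) U, c * u ≠ u * c := by
      by_contra hcon
      push Not at hcon
      exact hcE fun x hx => hcon x (by rw [hEs'] at hx; exact hx.2)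
    -- `B'` centralises the second conjugate
    have hB'c : ∀ d ∈ B', ∀ u ∈ cj (g * f) U, d * u = u * d := by
      intro d hd
      by_contra hcon
      push Not at hcon
      have hd4 := L'.c4 d (hB hd.1) hcon
      have h1 : Es ≤ ce (cj (g * f) U) d := by
        intro x hx
        rw [hEs'] at hx
        exact mem_ce.2 ⟨hx.2, (mem_centralizer_iff.1 hd.2 x hx.1).symm⟩
      have h2 : Es = ce (cj (g * f) U) d := eq_of_le_of_card_ge h1 (by rw [hd4, hEsc])
      have h3 := (L'.same hc (hB hd.1) hm' hcon fun u hu => hq u (cjU_le hgf hu) c hcB d hd.1).1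
      apply hcE
      intro x hx
      rw [h2, ← h3] at hx
      exact (mem_ce.1 hx).2
    obtain ⟨v, hv, hvD⟩ := L.Dne
    obtain ⟨w, hw, hwD⟩ := L'.Dne
    obtain ⟨v1, v2⟩ := L.s3 c hc hm v hv hvD
    obtain ⟨w1, w2⟩ := L'.s3 c hc hm' w hw hwD
    have hvV := cjU_le hg hv
    have hwV := cjU_le hgf hw
    have hcent : ∀ x ∈ V U F, (∀ d ∈ B', d * x = x * d) →
        x ∈ ⁅V U F, o2 F⁆ ⊔ (V U F ⊓ centralizer (B' : Set G)) := fun x hx hd =>
      mem_sup_right ⟨hx, mem_centralizer_iff.2 fun d hd' => hd d hd'⟩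
    set X : Subgroup G := ⁅V U F, o2 F⁆ ⊔ (V U F ⊓ centralizer (B' : Set G)) with hX
    set N : Subgroup G := ⁅V U F, o2 F⁆ ⊔ (V U F ⊓ centralizer (B : Set G)) with hN
    have hNN : N ≤ h.NN hc := by
      refine sup_le (h.le_NN hc) ?_
      rintro x ⟨hx, hx'⟩
      refine ⟨hx, Or.inl ?_⟩
      rw [mem_centralizer_iff.1 hx' c hcB, mul_inv_cancel_right]
      exact h.sq x hx
    have hXV : X ≤ V U F := sup_le (XD.comm_le_W h.xd) inf_le_left
    have hNX : N ≤ X := sup_le_sup_left (inf_le_inf_left _ (centralizer_le hlt.le)) _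
    have hX2 : IsPGroup 2 X := isPGroup_of_elab (elab_mono h.isElab hXV)
    have hvw : v * w ∉ h.NN hc := by
      rintro ⟨-, h1⟩
      have hcv : c * v * c⁻¹ ∈ V U F := cjU_le hg (L.nor c hc v hv)
      have e1 : v * w * (c * (v * w) * c⁻¹) = (v * (c * v * c⁻¹)) * (w * (c * w * c⁻¹)) := by
        have h2 := h.comm w hwV _ hcv
        calc v * w * (c * (v * w) * c⁻¹) = v * (w * (c * v * c⁻¹)) * (c * w * c⁻¹) := by group
          _ = v * ((c * v * c⁻¹) * w) * (c * w * c⁻¹) := by rw [h2]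
          _ = _ := by group
      rw [e1] at h1
      set p := v * (c * v * c⁻¹) with hp
      set q := w * (c * w * c⁻¹) with hq'
      have hpU : p ∈ cj g U := mul_mem hv (L.nor c hc v hv)
      have hqU : q ∈ cj (g * f) U := mul_mem hw (L'.nor c hc w hw)
      have hpU' : p ∈ cj (g * f) U := by
        have hqi : q * q = 1 := L'.sq q hqU
        rcases h1 with h1 | h1
        · have : p = q := by
            calc p = p * q * q := by rw [mul_assoc, hqi, mul_one]
              _ = q := by rw [h1, one_mul]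
          rw [this]
          exact hqU
        · have : p = z * q := by
            calc p = p * q * q := by rw [mul_assoc, hqi, mul_one]
              _ = z * q := by rw [h1]
          rw [this]
          exact mul_mem L'.zU hqU
      have hpE : p ∈ Es ⊓ centralizer ({c} : Set G) := by
        refine ⟨by rw [hEs']; exact ⟨hpU, hpU'⟩, ?_⟩
        have h2 := L.c5 c hc v hv
        rw [← hp, mul_inv_eq_iff_eq_mul] at h2
        exact mem_centralizer_singleton_iff.2 h2.symm
      have hzE : z ∈ Es ⊓ centralizer ({c} : Set G) := by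
        refine ⟨by rw [hEs']; exact ⟨L.zU, L'.zU⟩, ?_⟩
        exact mem_centralizer_singleton_iff.2 (h.zF c (ChoiceSit.o2_le F hc)).symm
      -- order at least 3, hence 4
      have h4 : Es ⊓ centralizer ({c} : Set G) = Es := by
        apply eq_of_le_of_card_ge inf_le_left
        rw [hEsc]
        have hdvd : Nat.card ↥(Es ⊓ centralizer ({c} : Set G)) ∣ 4 := by
          rw [← hEsc]
          exact card_dvd_of_le inf_le_left
        have h3 : 2 < Nat.card ↥(Es ⊓ centralizer ({c} : Set G)) := by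
          change 2 < Nat.card ((Es ⊓ centralizer ({c} : Set G) : Subgroup G) : Set G)
          rw [Nat.card_coe_set_eq, Set.two_lt_ncard_iff]
          exact ⟨1, p, z, one_mem _, hpE, hzE, fun h => v1 h.symm, fun h => L.z1 h.symm, v2⟩
        have h5 : Nat.card ↥(Es ⊓ centralizer ({c} : Set G)) ≤ 4 := Nat.le_of_dvd (by norm_num) hdvd
        by_contra h6
        have h7 : Nat.card ↥(Es ⊓ centralizer ({c} : Set G)) = 3 := by omega
        rw [h7] at hdvd
        norm_num at hdvd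
      apply hcE
      intro x hx
      rw [← h4] at hx
      exact (mem_centralizer_singleton_iff.1 hx.2).symm
    have h4 : 4 ≤ N.relIndex X := by
      refine four_le hX2 (hcent v hvV fun d hd => (mem_centralizer_iff.1 hd.2 v hv).symm)
        (hcent w hwV fun d hd => hB'c d hd w hw) (fun h1 => ?_) (fun h1 => ?_) (fun h1 => hvw (hNN h1))
      · rcases (hNN h1).2 with h2 | h2
        · exact v1 h2
        · exact v2 h2
      · rcases (hNN h1).2 with h2 | h2
        · exact w1 h2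
        · exact w2 h2
    rw [← relIndex_mul_relIndex N X (V U F) hNX hXV]
    exact Nat.mul_le_mul_right _ h4

theorem pos_relIndex [Finite G] (A B : Subgroup G) : 0 < A.relIndex B :=
  Nat.pos_of_ne_zero (relIndex_ne _ _)

/-- The chain. -/
theorem chain [Finite G] (h : Two F T U D z E) (B : Subgroup G) (hB : B ≤ o2 F)
    (hq : ∀ x ∈ V U F, ∀ b ∈ B, ∀ b' ∈ B, b' * (x * (b * x * b⁻¹)) = x * (b * x * b⁻¹) * b') :
    (centralizer (V U F : Set G)).relIndex B * (centralizer (V U F : Set G)).relIndex B ≤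
      (⁅V U F, o2 F⁆ ⊔ (V U F ⊓ centralizer (B : Set G))).relIndex (V U F) := by
  induction hn : Nat.card B using Nat.strong_induction_on generalizing B with
  | _ n IH =>
    by_cases h1 : B ≤ centralizer (V U F : Set G)
    · rw [relIndex_eq_one.2 h1]
      exact pos_relIndex _ _
    obtain ⟨B', hlt, h2, h3, h4⟩ := h.step hB hq h1
    have hcard : Nat.card B' < n := by
      rw [← hn]
      refine lt_of_le_of_ne (Subgroup.card_le_of_le hlt.le) fun h5 => ?_
      exact hlt.ne (eq_of_le_of_card_ge hlt.le h5.ge)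
    have h5 := IH _ hcard B' (hlt.le.trans hB) (fun x hx b hb b' hb' => hq x hx b (hlt.le hb) b' (hlt.le hb')) rfl
    have h6 : (centralizer (V U F : Set G)).relIndex B ≤ 2 * (centralizer (V U F : Set G)).relIndex B' := by
      have h7 : (centralizer (V U F : Set G)).relIndex B =
          (centralizer (V U F : Set G)).relIndex B' * B'.relIndex B := by
        rw [← inf_relIndex_right (centralizer (V U F : Set G)) B, ← relIndex_mul_relIndex _ B' B (by
          rw [inf_comm]; exact h2) hlt.le]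
        congr 1
        rw [← inf_relIndex_right (centralizer (V U F : Set G)) B']
        rw [← inf_relIndex_right (centralizer (V U F : Set G) ⊓ B) B', inf_assoc, inf_eq_right.2 hlt.le]
      rw [h7, mul_comm]
      exact Nat.mul_le_mul_right _ h3
    calc _ ≤ (2 * (centralizer (V U F : Set G)).relIndex B') * (2 * (centralizer (V U F : Set G)).relIndex B') :=
          Nat.mul_le_mul h6 h6
      _ = 4 * ((centralizer (V U F : Set G)).relIndex B' * (centralizer (V U F : Set G)).relIndex B') := by ring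
      _ ≤ 4 * _ := Nat.mul_le_mul_left _ h5
      _ ≤ _ := h4

/-- A quadratic member outside `O`. -/
theorem exists_quad [Finite G] (h : Two F T U D z E) : ∃ A ∈ AA F, ¬ A ≤ o2 F ∧
    ⁅V U F, A⁆ ≤ centralizer (A : Set G) := by
  classical
  obtain ⟨A₀, hA₀, hA₀'⟩ := h.nJ
  obtain ⟨A, ⟨hA, hAO⟩, hmax⟩ := Set.exists_max_image {A : Subgroup G | A ∈ AA F ∧ ¬ A ≤ o2 F}
    (fun A => Nat.card ↥(A ⊓ V U F)) (Set.toFinite _) ⟨A₀, AA_of_syl h.syl hA₀, hA₀'⟩
  refine ⟨A, hA, hAO, ?_⟩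
  by_contra hcon
  have h1 := rep hA h.isElab h.V_le_F h.F_le (U := V U F) le_rfl
  have h2 := rep_lt hA h.isElab h.V_le_F h.F_le (U := V U F) le_rfl hcon
  set B : Subgroup G := A ⊓ centralizer ((⁅V U F, A⁆ : Subgroup G) : Set G) with hB
  set Ap : Subgroup G := B ⊔ (V U F ⊓ centralizer (B : Set G)) with hAp
  have h3 : Ap ≤ o2 F := by
    by_contra h4
    exact absurd (hmax Ap ⟨h1.2, h4⟩) (not_le.2 h2)
  have h4 := h.cenA' h1.2 h3
  have h5 : V U F ≤ centralizer (A : Set G) := rep_cent hA h.isElab h.V_le_F h.F_le le_rfl fun b hb u hu =>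
    (mem_centralizer_iff.1 (h4 (le_sup_left (a := B) hb)) u hu).symm
  apply hcon
  have h6 : ⁅V U F, A⁆ = ⊥ := by
    rw [commutator_eq_bot_iff_le_centralizer]
    exact h5
  rw [h6]
  exact bot_le

/-- **STEP 2.** -/
theorem false [Finite G] (h : Two F T U D z E) : False := by
  obtain ⟨A, hA, hAO, hquad⟩ := h.exists_quad
  have hno : NoOv F (V U F) := noOv h.syl h.par h.comm h.sq
  have hA2 := elab_sq hA.1
  have hAF : A ≤ F := hA.2.1
  set Λ := V U F with hΛ
  set a := (o2 F).relIndex A with ha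
  set b := (centralizer (Λ : Set G)).relIndex (o2 F ⊓ A : Subgroup G) with hb
  -- upper bound
  have up : (centralizer (A : Set G)).relIndex Λ ≤ b * a := by
    refine (relIndex_le hA h.isElab h.V_le_F).trans ?_
    have h1 : (centralizer (Λ : Set G)).relIndex A ≤ (centralizer (Λ : Set G) ⊓ (o2 F ⊓ A)).relIndex A :=
      relIndex_le_of_le_left inf_le_left (relIndex_ne _ _)
    refine h1.trans ?_
    rw [← relIndex_mul_relIndex _ (o2 F ⊓ A) A inf_le_right inf_le_right, inf_relIndex_right, inf_relIndex_right]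
  -- the square
  have lo1 : a * a ≤ (centralizer (A : Set G)).relIndex Λ := h.xd.sq_le hno h.non hAF hA2
  -- the chain
  have hq : ∀ x ∈ Λ, ∀ b ∈ o2 F ⊓ A, ∀ b' ∈ o2 F ⊓ A, b' * (x * (b * x * b⁻¹)) = x * (b * x * b⁻¹) * b' := by
    intro x hx b hb b' hb'
    have h1 : ⁅x, b⁆ ∈ centralizer (A : Set G) := hquad (commutator_mem_commutator hx hb.2)
    rw [h.comm_eq hx hb.1] at h1
    exact mem_centralizer_iff.1 h1 b' hb'.2
  have ch := h.chain (o2 F ⊓ A) inf_le_left hq
  set N : Subgroup G := ⁅Λ, o2 F⁆ with hN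
  have hNΛ : N ≤ Λ := XD.comm_le_W h.xd
  set C : Subgroup G := centralizer (A : Set G) ⊓ Λ with hC
  have hCΛ : C ≤ Λ := inf_le_right
  have e2 : a ≤ C.relIndex N := by
    have h3 : C.relIndex N = (C ⊓ N).relIndex N := (inf_relIndex_right ..).symm
    rw [h3]
    refine hno ⊥ N (C ⊓ N) A bot_le inf_le_right hNΛ (fun x _ => by
        rw [mem_normalizer_iff]; intro y; simp [mem_bot]) XD.X_le_normalizer_comm ?_ hAF hA2 ?_
    · obtain ⟨c, hc, x, hx, hne⟩ := h.non
      refine ⟨c, hc, x, hx, fun h4 => hne ?_⟩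
      rw [mem_bot, mul_inv_eq_one, mul_inv_eq_iff_eq_mul] at h4
      exact h4
    · intro b hb e he
      rw [mem_bot]
      have := mem_centralizer_iff.1 hb.1.1 e he
      rw [← this]; group
  have e3 : C.relIndex Λ = C.relIndex (C ⊔ N) * (C ⊔ N).relIndex Λ :=
    (relIndex_mul_relIndex C (C ⊔ N) Λ le_sup_left (sup_le hCΛ hNΛ)).symm
  have e4 : C.relIndex N ≤ C.relIndex (C ⊔ N) := relIndex_le_of_le_right le_sup_right (relIndex_ne _ _)
  have e5 : (centralizer (A : Set G)).relIndex Λ = C.relIndex Λ := (inf_relIndex_right ..).symm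
  have e6 : (N ⊔ (Λ ⊓ centralizer ((o2 F ⊓ A : Subgroup G) : Set G))).relIndex Λ ≤ (C ⊔ N).relIndex Λ := by
    refine relIndex_le_of_le_left (sup_le ?_ le_sup_left) (relIndex_ne _ _)
    refine le_sup_of_le_right (le_inf hCΛ (inf_le_left.trans (centralizer_le inf_le_right)))
  have lo2 : a * (b * b) ≤ (centralizer (A : Set G)).relIndex Λ := by
    rw [e5, e3]
    exact Nat.mul_le_mul (e2.trans e4) (ch.trans e6)
  have ap : 0 < a := pos_relIndex _ _
  have bp : 0 < b := pos_relIndex _ _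
  have hb1 : b = 1 := by
    by_contra hb1
    have : 2 ≤ b := by omega
    have h1 := lo2.trans up
    have h2 : a * b * 2 ≤ a * b * 1 := by
      calc a * b * 2 ≤ a * b * b := Nat.mul_le_mul_left _ this
        _ = a * (b * b) := by ring
        _ ≤ b * a := h1
        _ = a * b * 1 := by ring
    have h3 := Nat.le_of_mul_le_mul_left h2 (Nat.mul_pos ap bp)
    omega
  have ha1 : a = 1 := by
    have h1 := lo1.trans up
    rw [hb1, one_mul] at h1
    have h2 : a ≤ 1 := Nat.le_of_mul_le_mul_left (h1.trans (by omega)) ap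
    omega
  exact hAO (relIndex_eq_one.1 ha1)

end Two

end Cfsg.Agent.Omega.OM.Swap

end

section


/-!
# THEOREM SW: first consequences of `Sit`

`U0 V = ⟨V i⟩`, `Λ = ⟨(V i)^F⟩`; the points are the cosets `g F₀`, `g ∈ F`.
-/

set_option autoImplicit false

namespace Cfsg.Agent.Omega.OM.Swap

open Subgroup Cfsg Cfsg.Agent.ZN Cfsg.Agent.ZN.ChoiceBase Cfsg.Agent.ZN.ChoiceSit
  Cfsg.Agent.MinSimple.VModule Cfsg.Agent.Omega.OmThm
open Cfsg.Agent.MinSimple.MinParabolic (IsMinPar)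
open scoped Pointwise commutatorElement

universe u

variable {G : Type u} [Group G] {ι : Type*} {F T F₀ : Subgroup G} {V : ι → Subgroup G} {z : ι → G}

/-- `⟨V i⟩`. -/
abbrev U0 (V : ι → Subgroup G) : Subgroup G := ⨆ j, V j

/-- `Λ = ⟨(V i)^F⟩`. -/
abbrev Lam (V : ι → Subgroup G) (F : Subgroup G) : Subgroup G := NoFF.Basic.V (U0 V) F

/-- Conjugation of elements. -/
theorem conj_mem_cj {g x : G} {H : Subgroup G} (hx : x ∈ H) : g * x * g⁻¹ ∈ cj g H := by
  rw [mem_cj]
  have : g⁻¹ * (g * x * g⁻¹) * g = x := by group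
  rwa [this]

theorem cj_iSup {κ : Sort*} (g : G) (W : κ → Subgroup G) : cj g (⨆ k, W k) = ⨆ k, cj g (W k) :=
  Subgroup.map_iSup _ _

/-- An iSup of subgroups which commute elementwise is elementary abelian if all are. -/
theorem elab_iSup {κ : Sort*} {W : κ → Subgroup G} (hc : ∀ k l, ∀ x ∈ W k, ∀ y ∈ W l, x * y = y * x)
    (h2 : ∀ k, ∀ x ∈ W k, x * x = 1) :
    (∀ x ∈ ⨆ k, W k, ∀ y ∈ ⨆ k, W k, x * y = y * x) ∧ ∀ x ∈ ⨆ k, W k, x * x = 1 := by
  have h1 : (⨆ k, W k) ≤ centralizer ((⨆ k, W k : Subgroup G) : Set G) := by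
    refine iSup_le fun k => ?_
    rw [le_centralizer_iff]
    refine iSup_le fun l y hy => mem_centralizer_iff.2 fun x hx => hc k l x hx y hy
  have hcomm : ∀ x ∈ ⨆ k, W k, ∀ y ∈ ⨆ k, W k, x * y = y * x := fun x hx y hy =>
    (mem_centralizer_iff.1 (h1 hx) y hy).symm
  refine ⟨hcomm, ?_⟩
  let L : Subgroup G :=
    { carrier := {x | x ∈ ⨆ k, W k ∧ x * x = 1}
      one_mem' := ⟨one_mem _, one_mul 1⟩
      mul_mem' := by
        rintro x y ⟨hx, hx'⟩ ⟨hy, hy'⟩
        refine ⟨mul_mem hx hy, ?_⟩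
        calc x * y * (x * y) = x * (y * x) * y := by group
          _ = x * (x * y) * y := by rw [hcomm y hy x hx]
          _ = (x * x) * (y * y) := by group
          _ = 1 := by rw [hx', hy', one_mul]
      inv_mem' := by
        rintro x ⟨hx, hx'⟩
        refine ⟨inv_mem hx, ?_⟩
        rw [← mul_inv_rev, hx', inv_one] }
  have hL : (⨆ k, W k) ≤ L := iSup_le fun k x hx => ⟨le_iSup W k hx, h2 k x hx⟩
  exact fun x hx => (hL hx).2

namespace Sit

theorem V_le_U0 (i : ι) : V i ≤ U0 V := le_iSup V i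

variable (h : Sit F T F₀ V z)
include h

theorem T2 : IsPGroup 2 T := h.syl.2.1

theorem TF : T ≤ F := h.syl.1

theorem OT [Finite G] : o2 F ≤ T := o2_le_syl h.syl

theorem U0_le : U0 V ≤ o2 F := iSup_le h.VO

theorem cj_T {t : G} (ht : t ∈ T) : cj t (U0 V) = U0 V := by
  have key : ∀ t ∈ T, cj t (U0 V) ≤ U0 V := by
    intro t ht
    rw [cj_iSup]
    refine iSup_le fun i => ?_
    obtain ⟨j, hj, -⟩ := h.perm t ht i
    rw [hj]
    exact V_le_U0 j
  refine le_antisymm (key t ht) ?_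
  have h1 := cj_mono t (key t⁻¹ (inv_mem ht))
  rwa [cj_cj_inv] at h1

theorem T_nor : T ≤ normalizer (U0 V : Set G) := fun _ ht => mem_normalizer_iff_cj.2 (h.cj_T ht)

omit h in
theorem Lam_eq : Lam V F = ⨆ f : F, ⨆ i, cj (f : G) (V i) := by
  change (⨆ f : F, cj (f : G) (U0 V)) = _
  refine iSup_congr fun f => ?_
  rw [cj_iSup]

theorem comm' {f g : G} (hf : f ∈ F) (hg : g ∈ F) {i j : ι} {x y : G} (hx : x ∈ cj f (V i)) (hy : y ∈ cj g (V j)) :
    x * y = y * x := by
  have h1 := h.comm (f⁻¹ * g) (mul_mem (inv_mem hf) hg) i j _ (mem_cj.1 hx) _ (mem_cj.1 hy)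
  have e1 : f⁻¹ * g * (g⁻¹ * y * g) * (f⁻¹ * g)⁻¹ = f⁻¹ * y * f := by group
  rw [e1] at h1
  have e2 : f⁻¹ * x * f * (f⁻¹ * y * f) = f⁻¹ * (x * y) * f := by group
  have e3 : f⁻¹ * y * f * (f⁻¹ * x * f) = f⁻¹ * (y * x) * f := by group
  rw [e2, e3] at h1
  exact mul_left_cancel (mul_right_cancel h1)

theorem sq' {f : G} {i : ι} {x : G} (hx : x ∈ cj f (V i)) : x * x = 1 := by
  have h1 := h.sq i _ (mem_cj.1 hx)
  have e2 : f⁻¹ * x * f * (f⁻¹ * x * f) = f⁻¹ * (x * x) * f := by group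
  rw [e2] at h1
  have : x * x = f * (f⁻¹ * (x * x) * f) * f⁻¹ := by group
  rw [this, h1]
  group

theorem Lam_ab : (∀ x ∈ Lam V F, ∀ y ∈ Lam V F, x * y = y * x) ∧ ∀ x ∈ Lam V F, x * x = 1 := by
  have e : Lam V F = ⨆ k : F × ι, cj (k.1 : G) (V k.2) := by
    rw [Lam_eq, iSup_prod]
  rw [e]
  exact elab_iSup (fun k l x hx y hy => h.comm' k.1.2 l.1.2 hx hy) fun k x hx => h.sq' hx

theorem Lam_comm : ∀ x ∈ Lam V F, ∀ y ∈ Lam V F, x * y = y * x := h.Lam_ab.1

theorem Lam_sq : ∀ x ∈ Lam V F, x * x = 1 := h.Lam_ab.2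

theorem Lam_elab : IsElementaryAbelian 2 (Lam V F) := elab_of h.Lam_comm h.Lam_sq

omit h in
theorem cjU_le_Lam {g : G} (hg : g ∈ F) : cj g (U0 V) ≤ Lam V F := NoFF.Basic.Z_le_V hg

omit h in
theorem cjV_le_Lam {g : G} (hg : g ∈ F) (i : ι) : cj g (V i) ≤ Lam V F :=
  (cj_mono g (V_le_U0 i)).trans (cjU_le_Lam hg)

theorem Lam_le_O : Lam V F ≤ o2 F := NoFF.Basic.V_le fun p hp => by
  have h1 : cj p (U0 V) ≤ cj p (o2 F) := cj_mono p h.U0_le
  rw [cj_o2_self hp] at h1
  exact h1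

theorem Lam_le_F : Lam V F ≤ F := h.Lam_le_O.trans (ChoiceSit.o2_le F)

omit h in
theorem F_nor : F ≤ normalizer (Lam V F : Set G) := XD.X_le_normalizer_W

omit h in
theorem conj_Lam {f x : G} (hf : f ∈ F) (hx : x ∈ Lam V F) : f * x * f⁻¹ ∈ Lam V F :=
  (mem_normalizer_iff.1 (F_nor hf) x).1 hx

/-- (TI) -/
theorem ti' {g g' : G} (hg : g ∈ F) (hg' : g' ∈ F) {i : ι} {x : G} (hx : x ∈ cj g (V i)) (hx1 : x ≠ 1)
    (hx' : x ∈ cj g' (U0 V)) : g⁻¹ * g' ∈ F₀ := by
  refine h.ti i (g⁻¹ * x * g) (mem_cj.1 hx) ?_ _ (mul_mem (inv_mem hg) hg') ?_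
  · intro h1
    apply hx1
    have : x = g * (g⁻¹ * x * g) * g⁻¹ := by group
    rw [this, h1]
    group
  · rw [mem_cj]
    have : (g⁻¹ * g')⁻¹ * (g⁻¹ * x * g) * (g⁻¹ * g') = g'⁻¹ * x * g' := by group
    rw [this]
    exact mem_cj.1 hx'

/-- An element of `F` which centralises `1 ≠ x ∈ (V i)^g` fixes the point of `g`. -/
theorem ti_cent {g a : G} (hg : g ∈ F) (ha : a ∈ F) {i : ι} {x : G} (hx : x ∈ cj g (V i)) (hx1 : x ≠ 1)
    (hax : a * x = x * a) : a ∈ cj g F₀ := by
  rw [mem_cj]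
  have h1 : x ∈ cj (a * g) (U0 V) := by
    rw [← cj_cj, mem_cj]
    have : a⁻¹ * x * a = x := by rw [mul_assoc, ← hax, inv_mul_cancel_left]
    rw [this]
    exact cj_mono g (V_le_U0 i) hx
  have h2 := h.ti' hg (mul_mem ha hg) hx hx1 h1
  rwa [← mul_assoc] at h2

theorem F₀_le : F₀ ≤ F := h.F₀F.le

theorem nJ' [Finite G] : ∃ A ∈ AA F, A ≤ T ∧ ¬ A ≤ o2 F := by
  obtain ⟨A, hA, hA'⟩ := h.nJ
  exact ⟨A, AA_of_syl h.syl hA, hA.2.1, hA'⟩

theorem T_not_normal [Finite G] : ¬ F ≤ normalizer (T : Set G) := by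
  intro h1
  obtain ⟨A, hA, hAT, hAO⟩ := h.nJ'
  exact hAO (hAT.trans (ChoiceSit.le_o2 h.T2 h.TF h1))

theorem NT [Finite G] : F ⊓ normalizer (T : Set G) ≤ F₀ :=
  h.max _ (le_inf h.TF le_normalizer) (lt_of_le_of_ne inf_le_left fun h1 =>
    h.T_not_normal (inf_eq_left.1 h1))

theorem par [Finite G] : IsMinPar T F := ⟨h.TF, h.T_not_normal, F₀, h.F₀F, h.max⟩

theorem syl_F₀ : Syl T F₀ := ⟨h.TF₀, h.T2, fun Q hQ hQ2 hTQ => h.syl.2.2 Q (hQ.trans h.F₀_le) hQ2 hTQ⟩

/-- equal Sylow groups have equal points -/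
theorem pt_of_eq [Finite G] {g g' : G} (hg : g ∈ F) (hg' : g' ∈ F) (he : cj g T = cj g' T) : g⁻¹ * g' ∈ F₀ := by
  refine h.NT (mem_inf.2 ⟨mul_mem (inv_mem hg) hg', ?_⟩)
  rw [mem_normalizer_iff_cj, ← cj_cj, ← he, cj_inv_cj]

/-- A 2-subgroup of `F` lies in a Sylow group. -/
theorem exists_cj [Finite G] {Q : Subgroup G} (hQ : IsPGroup 2 Q) (hQF : Q ≤ F) : ∃ g ∈ F, Q ≤ cj g T := by
  obtain ⟨S, hS, hQS⟩ := exists_syl hQ hQF
  obtain ⟨x, hx, hxS⟩ := syl_conj h.syl hS
  exact ⟨x, hx, hxS ▸ hQS⟩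

/-- A 2-subgroup of `F` which fixes the point of `g` lies in a Sylow group with this point. -/
theorem exists_cj_pt [Finite G] {Q : Subgroup G} (hQ : IsPGroup 2 Q) {g : G} (hg : g ∈ F) (hQF : Q ≤ cj g F₀) :
    ∃ g' ∈ F, g⁻¹ * g' ∈ F₀ ∧ Q ≤ cj g' T := by
  have h1 : cj g⁻¹ Q ≤ F₀ := by rw [cj_le_iff, inv_inv]; exact hQF
  obtain ⟨S, hS, hQS⟩ := exists_syl (isPGroup_cj g⁻¹ hQ) h1
  obtain ⟨x, hx, hxS⟩ := syl_conj h.syl_F₀ hS
  refine ⟨g * x, mul_mem hg (h.F₀_le hx), by rwa [inv_mul_cancel_left], ?_⟩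
  rw [← cj_cj, hxS]
  have := cj_mono g hQS
  rwa [cj_cj_inv] at this

/-- A proper subgroup of `F` which contains the Sylow group `T^g` fixes the point of `g`. -/
theorem le_cj_of {K : Subgroup G} {g : G} (hg : g ∈ F) (hT : cj g T ≤ K) (hK : K < F) : K ≤ cj g F₀ := by
  have h1 : cj g⁻¹ K ≤ F₀ := by
    refine h.max _ ?_ ?_
    · rw [← cj_inv_cj g T]
      exact cj_mono g⁻¹ hT
    · have h2 : cj g⁻¹ K ≤ F := by
        have := cj_mono g⁻¹ hK.le
        rwa [cj_self (inv_mem hg)] at this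
      refine lt_of_le_of_ne h2 fun h3 => hK.ne ?_
      have := congrArg (cj g) h3
      rwa [cj_cj_inv, cj_self hg] at this
  rw [← cj_cj_inv g K]
  exact cj_mono g h1

theorem cj_T_le {g : G} : cj g T ≤ cj g F₀ := cj_mono g h.TF₀

/-- `O₂(F)` lies in all Sylow groups. -/
theorem O_le_cj [Finite G] {g : G} (hg : g ∈ F) : o2 F ≤ cj g T := by
  have := cj_mono g h.OT
  rwa [cj_o2_self hg] at this

/-- If the Sylow group `T^{g'}` fixes the point of `g`, the points are equal. -/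
theorem pt_of_le [Finite G] {g g' : G} (hg : g ∈ F) (hg' : g' ∈ F) (hle : cj g' T ≤ cj g F₀) : g⁻¹ * g' ∈ F₀ := by
  obtain ⟨k, hk, hk1, hk2⟩ := h.exists_cj_pt (isPGroup_cj g' h.T2) hg hle
  have h1 : cj g' T = cj k T := eq_of_le_of_card_ge hk2 (by rw [card_cj, card_cj])
  have h2 := h.pt_of_eq hk hg' h1.symm
  have h3 := mul_mem hk1 h2
  have e : g⁻¹ * k * (k⁻¹ * g') = g⁻¹ * g' := by group
  rwa [e] at h3

end Sit

end Cfsg.Agent.Omega.OM.Swap

end

section


/-!
# THEOREM SW, STEP 1: the choice of `R`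

`JF F X` = the group generated by the members of `𝒜(F)` in `X`. `Mx F T F₀ R`: `R = JF(T₁ ∩ T₂)` of maximal order for
two Sylow groups with different points.
-/

set_option autoImplicit false

namespace Cfsg.Agent.Omega.OM.Swap

open Subgroup Cfsg Cfsg.Agent.ZN Cfsg.Agent.ZN.ChoiceBase Cfsg.Agent.ZN.ChoiceSit
  Cfsg.Agent.MinSimple.VModule Cfsg.Agent.Omega.OmThm
open Cfsg.Agent.MinSimple.MinParabolic (IsMinPar)
open scoped Pointwise commutatorElement

universe u

variable {G : Type u} [Group G] {ι : Type*} {F T F₀ : Subgroup G} {V : ι → Subgroup G} {z : ι → G}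

/-- The group generated by the members of `𝒜(F)` in `X`. -/
def JF (F X : Subgroup G) : Subgroup G := sSup {A | A ∈ AA F ∧ A ≤ X}

theorem JF_le (X : Subgroup G) : JF F X ≤ X := sSup_le fun _ hA => hA.2

theorem le_JF {X A : Subgroup G} (hA : A ∈ AA F) (h : A ≤ X) : A ≤ JF F X := le_sSup ⟨hA, h⟩

theorem JF_mono {X Y : Subgroup G} (h : X ≤ Y) : JF F X ≤ JF F Y :=
  sSup_le fun _ hA => le_JF hA.1 (hA.2.trans h)

theorem JF_le_F (X : Subgroup G) : JF F X ≤ F := sSup_le fun _ hA => hA.1.2.1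

theorem cj_JF {g : G} (hg : g ∈ F) (X : Subgroup G) : cj g (JF F X) = JF F (cj g X) := by
  have key : ∀ g ∈ F, ∀ X : Subgroup G, cj g (JF F X) ≤ JF F (cj g X) := by
    intro g hg X
    rw [cj_le_iff]
    refine sSup_le fun A hA => ?_
    rw [← cj_cj_inv g⁻¹ A, inv_inv]
    exact cj_mono g⁻¹ (le_JF (AA_cj hg hA.1) (cj_mono g hA.2))
  refine le_antisymm (key g hg X) ?_
  have h1 := cj_mono g (key g⁻¹ (inv_mem hg) (cj g X))
  rwa [cj_cj_inv, cj_inv_cj] at h1

theorem JF_JF (X : Subgroup G) : JF F (JF F X) = JF F X :=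
  le_antisymm (JF_le _) (sSup_le fun _ hA => le_JF hA.1 (le_JF hA.1 hA.2))

/-- `R` is a maximal intersection. -/
structure Mx (F T F₀ R : Subgroup G) : Prop where
  RF : R ≤ F
  R2 : IsPGroup 2 R
  On : o2 F ≤ normalizer (R : Set G)
  gen : JF F R = R
  one : ∀ A ∈ AA F, A ≤ normalizer (R : Set G) → ¬ A ≤ R → ∀ g ∈ F, ∀ g' ∈ F, R ⊔ A ≤ cj g T → R ⊔ A ≤ cj g' T →
    g⁻¹ * g' ∈ F₀
  ex : ∃ A ∈ AA F, ∃ A' ∈ AA F, A ≤ normalizer (R : Set G) ∧ ¬ A ≤ R ∧ A' ≤ normalizer (R : Set G) ∧ ¬ A' ≤ R ∧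
    ∃ g ∈ F, ∃ g' ∈ F, R ⊔ A ≤ cj g T ∧ R ⊔ A' ≤ cj g' T ∧ g⁻¹ * g' ∉ F₀

namespace Sit

variable (h : Sit F T F₀ V z)
include h

theorem grow [Finite G] {R : Subgroup G} (hR : JF F R = R) {g : G} (hg : g ∈ F) (hRg : R ≤ cj g T)
    (hno : ∀ A ∈ AA F, A ≤ cj g T → A ≤ normalizer (R : Set G) → A ≤ R) : JF F (cj g T) = R := by
  set P := cj g T with hP
  have hPF : P ≤ F := by
    have := cj_mono g h.TF
    rwa [cj_self hg] at this
  set K := P ⊓ normalizer (R : Set G) with hK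
  have hRK : R ≤ K := le_inf hRg le_normalizer
  have hJK : JF F K = R :=
    le_antisymm (sSup_le fun A hA => hno A hA.1 (hA.2.trans inf_le_left) (hA.2.trans inf_le_right))
      (hR.symm.le.trans (JF_mono hRK))
  have h1 : K = P := by
    apply ZN.ChoiceNse.eq_of_normalizer_inf_le (isPGroup_cj g h.T2) inf_le_left
    rintro x ⟨hx1, hx2⟩
    refine mem_inf.2 ⟨hx2, ?_⟩
    rw [mem_normalizer_iff_cj, ← hJK, cj_JF (hPF hx2), cj_eq_of_mem_normalizer hx1]
  rw [← h1, hJK]

theorem exists_mx [Finite G] : ∃ R, Mx F T F₀ R := by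
  classical
  obtain ⟨g₀, hg₀, hg₀'⟩ := SetLike.exists_of_lt h.F₀F
  obtain ⟨⟨g₁, g₂⟩, ⟨hg₁, hg₂, hne⟩, hmax⟩ := Set.exists_max_image
    {p : G × G | p.1 ∈ F ∧ p.2 ∈ F ∧ p.1⁻¹ * p.2 ∉ F₀} (fun p => Nat.card (JF F (cj p.1 T ⊓ cj p.2 T)))
    (Set.toFinite _) ⟨(1, g₀), one_mem _, hg₀, by simpa using hg₀'⟩
  simp only at hg₁ hg₂ hne hmax
  set R := JF F (cj g₁ T ⊓ cj g₂ T) with hRdef
  have hR1 : R ≤ cj g₁ T := (JF_le _).trans inf_le_left
  have hR2 : R ≤ cj g₂ T := (JF_le _).trans inf_le_right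
  have hgen : JF F R = R := JF_JF _
  have hRF : R ≤ F := JF_le_F _
  have hO : o2 F ≤ normalizer (R : Set G) := by
    intro o ho
    have hoF := ChoiceSit.o2_le F ho
    rw [mem_normalizer_iff_cj, hRdef, cj_JF hoF, cj_inf, cj_self (h.O_le_cj hg₁ ho), cj_self (h.O_le_cj hg₂ ho)]
  -- the members of `𝒜(F)` outside `R` for one of the two Sylow groups
  have hex : ∀ g g' : G, g ∈ F → g' ∈ F → R ≤ cj g T → R ≤ cj g' T → g⁻¹ * g' ∉ F₀ →
      ∃ A ∈ AA F, A ≤ cj g T ∧ A ≤ normalizer (R : Set G) ∧ ¬ A ≤ R := by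
    intro g g' hg hg' hRg hRg' hgg'
    by_contra hcon
    push Not at hcon
    have h1 := h.grow hgen hg hRg fun A hA hA1 hA2 => hcon A hA hA1 hA2
    -- `R = JF(T^g')`
    have h2 : JF F (cj g' T) = R := by
      have h3 : R ≤ JF F (cj g' T) := hgen.symm.le.trans (JF_mono hRg')
      refine (eq_of_le_of_card_ge h3 ?_).symm
      have h4 : cj (g' * g⁻¹) (JF F (cj g T)) = JF F (cj g' T) := by
        rw [cj_JF (mul_mem hg' (inv_mem hg)), cj_cj, inv_mul_cancel_right]
      rw [← h4, card_cj, h1]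
    have hn : ∀ g ∈ F, JF F (cj g T) = R → cj g T ≤ normalizer (R : Set G) := by
      intro g hg he x hx
      have hxF : x ∈ F := by
        have := cj_mono g h.TF hx
        rwa [cj_self hg] at this
      rw [mem_normalizer_iff_cj, ← he, cj_JF hxF, cj_self hx]
    have hFn : ∀ g ∈ F, cj g T ≤ F := by
      intro g hg
      have := cj_mono g h.TF
      rwa [cj_self hg] at this
    have n1 := hn g hg h1
    have n2 := hn g' hg' h2
    by_cases hF : F ≤ normalizer (R : Set G)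
    · have h3 : R ≤ o2 F := ChoiceSit.le_o2 ((isPGroup_cj g h.T2).to_le hRg) hRF hF
      obtain ⟨A, hA, hAT, hAO⟩ := h.nJ'
      apply hAO
      have h4 : cj g A ≤ o2 F := (le_JF (AA_cj hg hA) (cj_mono g hAT)).trans (h1.le.trans h3)
      rw [cj_le_iff, cj_o2_self (inv_mem hg)] at h4
      exact h4
    · have hlt : F ⊓ normalizer (R : Set G) < F := lt_of_le_of_ne inf_le_left fun h4 => hF (inf_eq_left.1 h4)
      have h3 := h.le_cj_of hg (le_inf (hFn g hg) n1) hlt
      exact hgg' (h.pt_of_le hg hg' ((le_inf (hFn g' hg') n2).trans h3))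
  refine ⟨R, hRF, (isPGroup_cj g₁ h.T2).to_le hR1, hO, hgen, ?_, ?_⟩
  · intro A hA hAN hAR g hg g' hg' h1 h2
    by_contra hcon
    have h3 := hmax (g, g') ⟨hg, hg', hcon⟩
    simp only at h3
    have h4 : R ≤ JF F (cj g T ⊓ cj g' T) := hgen.symm.le.trans (JF_mono (le_inf (le_sup_left.trans h1) (le_sup_left.trans h2)))
    have h5 : R = JF F (cj g T ⊓ cj g' T) := eq_of_le_of_card_ge h4 h3
    apply hAR
    rw [h5]
    exact le_JF hA (le_inf (le_sup_right.trans h1) (le_sup_right.trans h2))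
  · obtain ⟨A, hA, hA1, hA2, hA3⟩ := hex g₁ g₂ hg₁ hg₂ hR1 hR2 hne
    obtain ⟨A', hA', hA1', hA2', hA3'⟩ := hex g₂ g₁ hg₂ hg₁ hR2 hR1 fun h1 => hne (by
      have := inv_mem h1
      rwa [mul_inv_rev, inv_inv] at this)
    exact ⟨A, hA, A', hA', hA2, hA3, hA2', hA3', g₁, hg₁, g₂, hg₂, sup_le hR1 hA1, sup_le hR2 hA1', hne⟩

end Sit

end Cfsg.Agent.Omega.OM.Swap

end

section


/-!
# THEOREM SW, STEP 1: the group `Y`

`Pan`: `A ∈ 𝒜(F)` normalises `R`, `A ≰ R`, `|A ∩ Λ|` maximal; `Y = ⟨O, R, A, A'⟩` minimal; `Rs` a Sylow group of `Y` over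
`O R A`, `Rs ≤ T^g`. All proper subgroups of `Y` over `O R A` fix the point of `g`.
-/

set_option autoImplicit false

namespace Cfsg.Agent.Omega.OM.Swap

open Subgroup Cfsg Cfsg.Agent.ZN Cfsg.Agent.ZN.ChoiceBase Cfsg.Agent.ZN.ChoiceSit
  Cfsg.Agent.MinSimple.VModule Cfsg.Agent.Omega.OmThm
open Cfsg.Agent.MinSimple.MinParabolic (IsMinPar)
open scoped Pointwise commutatorElement

universe u

variable {G : Type u} [Group G] {ι : Type*} {F T F₀ : Subgroup G} {V : ι → Subgroup G} {z : ι → G}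

/-- The panel. -/
structure Pan (F T F₀ : Subgroup G) (V : ι → Subgroup G) (R A Y Rs : Subgroup G) (g : G) : Prop where
  mx : Mx F T F₀ R
  hA : A ∈ AA F
  AN : A ≤ normalizer (R : Set G)
  AR : ¬ A ≤ R
  Amax : ∀ B ∈ AA F, B ≤ normalizer (R : Set G) → ¬ B ≤ R → Nat.card ↥(B ⊓ Lam V F) ≤ Nat.card ↥(A ⊓ Lam V F)
  gF : g ∈ F
  YF : Y ≤ F
  YN : Y ≤ normalizer (R : Set G)
  syl : Syl Rs Y
  ORs : o2 F ≤ Rs
  RRs : R ≤ Rs
  ARs : A ≤ Rs
  RsT : Rs ≤ cj g T
  max : ∀ K : Subgroup G, o2 F ⊔ R ⊔ A ≤ K → K < Y → K ≤ cj g F₀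
  nY : ¬ Y ≤ cj g F₀

namespace Sit

variable (h : Sit F T F₀ V z)
include h

theorem exists_pan [Finite G] : ∃ R A Y Rs g, Pan F T F₀ V R A Y Rs g := by
  classical
  obtain ⟨R, hR⟩ := h.exists_mx
  obtain ⟨A₁, hA₁, A₂, hA₂, hN₁, hR₁, hN₂, hR₂, g₁, hg₁, g₂, hg₂, hT₁, hT₂, hne⟩ := hR.ex
  obtain ⟨A, ⟨hA, hAN, hAR⟩, hmax⟩ := Set.exists_max_image
    {A : Subgroup G | A ∈ AA F ∧ A ≤ normalizer (R : Set G) ∧ ¬ A ≤ R} (fun A => Nat.card ↥(A ⊓ Lam V F))
    (Set.toFinite _) ⟨A₁, hA₁, hN₁, hR₁⟩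
  -- the 2-groups `R B`, `O R B`
  have two : ∀ B ∈ AA F, B ≤ normalizer (R : Set G) → IsPGroup 2 (o2 F ⊔ R ⊔ B : Subgroup G) := by
    intro B hB hBN
    have : Fact (Nat.Prime 2) := ⟨Nat.prime_two⟩
    have h1 : IsPGroup 2 (o2 F ⊔ R : Subgroup G) :=
      IsPGroup.to_sup_of_normal_right' (ChoiceSit.isPGroup_o2 F) hR.R2 hR.On
    refine IsPGroup.to_sup_of_normal_left' h1 (isPGroup_of_elab hB.1) ?_
    intro b hb
    rw [mem_normalizer_iff_cj]
    have e : cj b (o2 F ⊔ R) = cj b (o2 F) ⊔ cj b R := Subgroup.map_sup _ _ _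
    rw [e, cj_o2_self (hB.2.1 hb), cj_eq_of_mem_normalizer (hBN hb)]
  have leF : ∀ B ∈ AA F, o2 F ⊔ R ⊔ B ≤ F := fun B hB => sup_le (sup_le (ChoiceSit.o2_le F) hR.RF) hB.2.1
  obtain ⟨gA, hgA, hTA⟩ := h.exists_cj (two A hA hAN) (leF A hA)
  have hRA : R ⊔ A ≤ cj gA T := (sup_le_sup_right le_sup_right A).trans hTA
  -- a member with another point
  have ex : ∃ B ∈ AA F, B ≤ normalizer (R : Set G) ∧ ¬ B ≤ R ∧ ∃ g ∈ F, R ⊔ B ≤ cj g T ∧ gA⁻¹ * g ∉ F₀ := by
    by_cases h1 : gA⁻¹ * g₁ ∈ F₀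
    · refine ⟨A₂, hA₂, hN₂, hR₂, g₂, hg₂, hT₂, fun h2 => hne ?_⟩
      have h3 := mul_mem (inv_mem h1) h2
      have e : (gA⁻¹ * g₁)⁻¹ * (gA⁻¹ * g₂) = g₁⁻¹ * g₂ := by group
      rwa [e] at h3
    · exact ⟨A₁, hA₁, hN₁, hR₁, g₁, hg₁, hT₁, h1⟩
  obtain ⟨A', ⟨hA', hAN', hAR', g', hg', hT', hne'⟩, hmin⟩ := Set.exists_min_image
    {B : Subgroup G | B ∈ AA F ∧ B ≤ normalizer (R : Set G) ∧ ¬ B ≤ R ∧ ∃ g ∈ F, R ⊔ B ≤ cj g T ∧ gA⁻¹ * g ∉ F₀}
    (fun B => Nat.card ↥(o2 F ⊔ R ⊔ A ⊔ B)) (Set.toFinite _) ex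
  set Y := o2 F ⊔ R ⊔ A ⊔ A' with hY
  have hYF : Y ≤ F := sup_le (leF A hA) hA'.2.1
  have hYN : Y ≤ normalizer (R : Set G) := sup_le (sup_le (sup_le hR.On le_normalizer) hAN) hAN'
  have hQY : o2 F ⊔ R ⊔ A ≤ Y := le_sup_left
  -- `Y` moves the point
  have hYn : ¬ Y ≤ cj gA F₀ := by
    intro h1
    have h2 : R ⊔ A' ≤ cj gA F₀ := (sup_le (le_sup_right.trans (le_sup_left.trans le_sup_left)) le_sup_right).trans h1
    have h3 : IsPGroup 2 (R ⊔ A' : Subgroup G) := (two A' hA' hAN').to_le (sup_le_sup_right le_sup_right A')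
    obtain ⟨k, hk, hk1, hk2⟩ := h.exists_cj_pt h3 hgA h2
    have h4 := hR.one A' hA' hAN' hAR' k hk g' hg' hk2 hT'
    have h5 := mul_mem hk1 h4
    have e : gA⁻¹ * k * (k⁻¹ * g') = gA⁻¹ * g' := by group
    rw [e] at h5
    exact hne' h5
  -- the maximal subgroups
  have hKmax : ∀ K : Subgroup G, o2 F ⊔ R ⊔ A ≤ K → K < Y → K ≤ cj gA F₀ := by
    intro K hQK hKY
    by_contra hcon
    obtain ⟨k, hkK, hk⟩ := SetLike.not_le_iff_exists.1 hcon
    have hkY : k ∈ Y := hKY.le hkK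
    have hkF : k ∈ F := hYF hkY
    have hkR : cj k R = R := cj_eq_of_mem_normalizer (hYN hkY)
    have h1 : cj k A ∈ AA F := AA_cj hkF hA
    have h2 : cj k A ≤ K := by
      have := cj_mono k (le_sup_right.trans hQK : A ≤ K)
      rwa [cj_self hkK] at this
    have h3 : ¬ cj k A ≤ R := by
      intro h4
      apply hAR
      rw [← hkR] at h4
      have := cj_mono k⁻¹ h4
      rwa [cj_inv_cj, cj_inv_cj] at this
    have h4 : R ⊔ cj k A ≤ cj (k * gA) T := by
      rw [← hkR, ← cj_cj]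
      refine sup_le ?_ ?_
      · rw [hkR, ← hkR]
        exact cj_mono k (le_sup_left.trans hRA)
      · exact cj_mono k (le_sup_right.trans hRA)
    have h5 : gA⁻¹ * (k * gA) ∉ F₀ := by
      intro h6
      apply hk
      rw [mem_cj]
      rwa [← mul_assoc] at h6
    have h6 := hmin (cj k A) ⟨h1, h2.trans (hKY.le.trans hYN), h3, k * gA, mul_mem hkF hgA, h4, h5⟩
    have h7 : o2 F ⊔ R ⊔ A ⊔ cj k A ≤ K := sup_le hQK h2
    have h8 : Nat.card Y ≤ Nat.card K := h6.trans (Subgroup.card_le_of_le h7)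
    exact hKY.ne (eq_of_le_of_card_ge hKY.le h8)
  -- the Sylow group
  obtain ⟨Rs, hRs, hQRs⟩ := exists_syl (two A hA hAN) hQY
  obtain ⟨g, hg, hRsg⟩ := h.exists_cj hRs.2.1 (hRs.1.trans hYF)
  have hpt : gA⁻¹ * g ∈ F₀ := hR.one A hA hAN hAR gA hgA g hg hRA
    (((sup_le_sup_right le_sup_right A).trans hQRs).trans hRsg)
  have hFe : cj g F₀ = cj gA F₀ := by
    have : g = gA * (gA⁻¹ * g) := by group
    rw [this, ← cj_cj, cj_self hpt]
  refine ⟨R, A, Y, Rs, g, hR, hA, hAN, hAR, fun B hB h1 h2 => hmax B ⟨hB, h1, h2⟩, hg, hYF, hYN, hRs,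
    (le_sup_left.trans le_sup_left).trans hQRs, (le_sup_right.trans le_sup_left).trans hQRs,
    le_sup_right.trans hQRs, hRsg, ?_, ?_⟩
  · rw [hFe]
    exact hKmax
  · rw [hFe]
    exact hYn

end Sit

namespace Pan

variable {R A Y Rs : Subgroup G} {g : G} (p : Pan F T F₀ V R A Y Rs g)
include p

theorem RsY : Rs ≤ Y := p.syl.1

theorem Rs2 : IsPGroup 2 Rs := p.syl.2.1

theorem AY : A ≤ Y := p.ARs.trans p.RsY

theorem RY : R ≤ Y := p.RRs.trans p.RsY

theorem OY : o2 F ≤ Y := p.ORs.trans p.RsY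

theorem R_le_o2 [Finite G] : R ≤ o2 Y := ChoiceSit.le_o2 p.mx.R2 p.RY p.YN

theorem O_le_o2 [Finite G] : o2 F ≤ o2 Y :=
  ChoiceSit.le_o2 (ChoiceSit.isPGroup_o2 F) p.OY (p.YF.trans (ChoiceSit.le_normalizer_o2 F))

theorem o2_le_Rs [Finite G] : o2 Y ≤ Rs := o2_le_syl p.syl

/-- `O₂(Y) ≤ T^{yg}` for all `y ∈ Y`. -/
theorem o2_le_cj [Finite G] {y : G} (hy : y ∈ Y) : o2 Y ≤ cj (y * g) T := by
  have h1 := cj_mono y (p.o2_le_Rs.trans p.RsT)
  rwa [cj_o2_self hy, cj_cj] at h1

theorem yF {y : G} (hy : y ∈ Y) : y * g ∈ F := mul_mem (p.YF hy) p.gF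

theorem RsF₀ (h : Sit F T F₀ V z) : Rs ≤ cj g F₀ := p.RsT.trans h.cj_T_le

theorem not_normal [Finite G] : ¬ Y ≤ normalizer (Rs : Set G) := by
  intro h1
  have h2 : Y ⊓ normalizer (Rs : Set G) = Y := inf_eq_left.2 h1
  -- `Rs = O₂(Y)` lies in all `T^{yg}`, and `R A ≤ Rs` has only one point
  have h3 : Rs ≤ o2 Y := ChoiceSit.le_o2 p.Rs2 p.RsY h1
  obtain ⟨y, hy, hyn⟩ := SetLike.not_le_iff_exists.1 p.nY
  have h4 : R ⊔ A ≤ cj (y * g) T := (sup_le p.RRs p.ARs).trans (h3.trans (p.o2_le_cj hy))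
  have h5 := p.mx.one A p.hA p.AN p.AR g p.gF _ (p.yF hy) ((sup_le p.RRs p.ARs).trans p.RsT) h4
  apply hyn
  rw [mem_cj]
  rwa [← mul_assoc] at h5

theorem max' {K : Subgroup G} (hK : Rs ≤ K) (hKY : K < Y) : K ≤ cj g F₀ :=
  p.max K (sup_le (sup_le (p.ORs.trans hK) (p.RRs.trans hK)) (p.ARs.trans hK)) hKY

theorem lt : Y ⊓ cj g F₀ < Y :=
  lt_of_le_of_ne inf_le_left fun h1 => p.nY (inf_eq_left.1 h1)

theorem par [Finite G] : IsMinPar Rs Y :=
  ⟨p.RsY, p.not_normal, Y ⊓ cj g F₀, p.lt, fun _ hK hKY => le_inf hKY.le (p.max' hK hKY)⟩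

/-- `A` fixes no further point. -/
theorem not_fix [Finite G] (h : Sit F T F₀ V z) {y : G} (hy : y ∈ Y) (hyn : y ∉ cj g F₀) :
    ¬ A ≤ cj (y * g) F₀ := by
  intro h1
  have h2 : R ⊔ A ≤ cj (y * g) F₀ := sup_le ((p.R_le_o2.trans (p.o2_le_cj hy)).trans h.cj_T_le) h1
  have h3 : IsPGroup 2 (R ⊔ A : Subgroup G) := p.Rs2.to_le (sup_le p.RRs p.ARs)
  obtain ⟨k, hk, hk1, hk2⟩ := h.exists_cj_pt h3 (p.yF hy) h2
  have h4 := p.mx.one A p.hA p.AN p.AR g p.gF k hk ((sup_le p.RRs p.ARs).trans p.RsT) hk2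
  apply hyn
  have h5 := mul_mem h4 (inv_mem hk1)
  have e : g⁻¹ * k * ((y * g)⁻¹ * k)⁻¹ = g⁻¹ * y * g := by group
  rw [e] at h5
  rwa [mem_cj]

/-- The kernel of `A` on the points. -/
theorem ker [Finite G] (h : Sit F T F₀ V z) {a : G} (ha : a ∈ A) (hfix : ∀ y ∈ Y, a ∈ cj (y * g) F₀) : a ∈ o2 Y := by
  have : Fact (Nat.Prime 2) := ⟨Nat.prime_two⟩
  set N : Subgroup G := Y ⊓ ⨅ y : Y, cj ((y : G) * g) F₀ with hN
  have hmemN : ∀ x, x ∈ N ↔ x ∈ Y ∧ ∀ y ∈ Y, x ∈ cj (y * g) F₀ := by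
    intro x
    rw [hN, mem_inf, mem_iInf]
    exact ⟨fun h => ⟨h.1, fun y hy => h.2 ⟨y, hy⟩⟩, fun h => ⟨h.1, fun y => h.2 y y.2⟩⟩
  have hYn : Y ≤ normalizer (N : Set G) := by
    intro x hx
    refine mem_normalizer_of_cj_le fun w hw => ?_
    rw [mem_cj, hmemN] at hw
    rw [hmemN]
    constructor
    · have := mul_mem (mul_mem hx hw.1) (inv_mem hx)
      have e : x * (x⁻¹ * w * x) * x⁻¹ = w := by group
      rwa [e] at this
    · intro y hy
      have h1 := hw.2 (x⁻¹ * y) (mul_mem (inv_mem hx) hy)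
      rw [mem_cj] at h1 ⊢
      have e : (x⁻¹ * y * g)⁻¹ * (x⁻¹ * w * x) * (x⁻¹ * y * g) = (y * g)⁻¹ * w * (y * g) := by group
      rwa [e] at h1
  rcases p.par.sup_eq_or_inf_le p.Rs2 (syl_not_dvd p.syl) inf_le_left hYn with h1 | h1
  · exfalso
    apply p.nY
    rw [← h1]
    refine sup_le (fun x hx => ?_) (p.RsF₀ h)
    have := ((hmemN x).1 hx).2 1 (one_mem _)
    rwa [one_mul] at this
  · exact h1 ⟨p.ARs ha, (hmemN a).2 ⟨p.AY ha, hfix⟩⟩

theorem A_not_le [Finite G] (h : Sit F T F₀ V z) : ¬ A ≤ o2 Y := by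
  intro h1
  obtain ⟨y, hy, hyn⟩ := SetLike.not_le_iff_exists.1 p.nY
  exact p.not_fix h hy hyn (h1.trans ((p.o2_le_cj hy).trans h.cj_T_le))

end Pan

end Cfsg.Agent.Omega.OM.Swap

end

section


/-!
# THEOREM SW, STEP 1: (a), (b), (c)

* `Pan.quad` : (a) `A` is quadratic on `(V i)^{yg}` for `y ∈ Y` which moves the point of `g`;
* `Pan.exists_move` : (b) `A ∩ O₂(Y)` moves one of these;
* `Pan.main` : (c) the star configuration.
-/

set_option autoImplicit false

namespace Cfsg.Agent.Omega.OM.Swap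

open Subgroup Cfsg Cfsg.Agent.ZN Cfsg.Agent.ZN.ChoiceBase Cfsg.Agent.ZN.ChoiceSit
  Cfsg.Agent.MinSimple.VModule Cfsg.Agent.Omega.OmThm
open Cfsg.Agent.MinSimple.MinParabolic (IsMinPar)
open scoped Pointwise commutatorElement

universe u

variable {G : Type u} [Group G] {ι : Type*} {F T F₀ : Subgroup G} {V : ι → Subgroup G} {z : ι → G}

namespace Sit

variable (h : Sit F T F₀ V z)
include h

/-- (H4) `z i ∈ [⟨V j⟩, O]`. -/
theorem z_mem_comm [Finite G] (i : ι) : z i ∈ (⁅U0 V, o2 F⁆ : Subgroup G) := by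
  obtain ⟨k, hk⟩ : ∃ k, k ≠ i := by
    obtain ⟨k, l, hkl⟩ := h.two
    by_cases h1 : k = i
    · exact ⟨l, fun h2 => hkl (h1.trans h2.symm)⟩
    · exact ⟨k, h1⟩
  obtain ⟨s, hs, hsV⟩ := h.tr i k
  obtain ⟨A₁, hA₁, hm⟩ := h.mov i
  obtain ⟨t, ht, ⟨x, hx, htx⟩, htriv⟩ := h.hat A₁ hA₁ i hm
  have h1 : t * x * t⁻¹ = x * z i := by
    rcases h.act A₁ hA₁ t ht i x hx with h2 | h2
    · exact absurd (mul_inv_eq_iff_eq_mul.1 h2) htx
    · exact h2
  have htF : t ∈ F := h.TF (hA₁.2.1 ht)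
  set o := t * (s⁻¹ * t⁻¹ * s) with ho
  have hoO : o ∈ o2 F := by
    have h2 : t * s⁻¹ * t⁻¹ ∈ o2 F := (mem_normalizer_iff.1 (ChoiceSit.le_normalizer_o2 F htF) _).1 (inv_mem hs)
    have h3 := mul_mem h2 hs
    have e : t * s⁻¹ * t⁻¹ * s = o := by rw [ho]; group
    rwa [e] at h3
  have hsx : s * x * s⁻¹ ∈ V k := by rw [← hsV]; exact conj_mem_cj hx
  have h4 : t * (s * x * s⁻¹) = s * x * s⁻¹ * t := htriv k hk _ hsx
  have h5 : o * x * o⁻¹ = x * z i := by
    calc o * x * o⁻¹ = t * (s⁻¹ * (t⁻¹ * (s * x * s⁻¹ * t)) * s) * t⁻¹ := by rw [ho]; group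
      _ = t * (s⁻¹ * (t⁻¹ * (t * (s * x * s⁻¹))) * s) * t⁻¹ := by rw [h4]
      _ = t * x * t⁻¹ := by group
      _ = x * z i := h1
  have h6 : ⁅x, o⁆ = z i := by
    have hz : (z i)⁻¹ = z i := inv_eq_of_mul_eq_one_left (h.sq i _ (h.zV i))
    have hx' : x⁻¹ = x := inv_eq_of_mul_eq_one_left (h.sq i _ hx)
    have hzx : x * z i = z i * x := by
      have := h.comm' (one_mem F) (one_mem F) (i := i) (j := i) (x := x) (y := z i) (by rwa [cj_one]) (by rw [cj_one]; exact h.zV i)
      exact this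
    calc ⁅x, o⁆ = x * (o * x * o⁻¹)⁻¹ := by rw [commutatorElement_def]; group
      _ = x * (x * z i)⁻¹ := by rw [h5]
      _ = x * ((z i)⁻¹ * x⁻¹) := by rw [mul_inv_rev]
      _ = x * (z i * x) := by rw [hz, hx']
      _ = x * (x * z i) := by rw [hzx]
      _ = z i := by rw [← mul_assoc, h.sq i x hx, one_mul]
  rw [← h6]
  exact commutator_mem_commutator (V_le_U0 i hx) hoO

/-- The members of `𝒜(F)` in `T^k` act on `(V i)^k` by transvections with centre `z i ^ k`. -/
theorem JF_act [Finite G] {k : G} (hk : k ∈ F) {b : G} (hb : b ∈ JF F (cj k T)) {i : ι} {x : G}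
    (hx : x ∈ cj k (V i)) : b * x * b⁻¹ = x ∨ b * x * b⁻¹ = x * (k * z i * k⁻¹) := by
  set ζ := k * z i * k⁻¹ with hζ
  have hζV : ζ ∈ cj k (V i) := conj_mem_cj (h.zV i)
  have hζ1 : ζ ≠ 1 := by
    intro h1
    apply h.z1 i
    have : z i = k⁻¹ * (k * z i * k⁻¹) * k := by group
    rw [this, ← hζ, h1]
    group
  have hζζ : ζ * ζ = 1 := h.sq' hζV
  have hfixζ : ∀ b : G, (∀ x ∈ cj k (V i), b * x * b⁻¹ = x ∨ b * x * b⁻¹ = x * ζ) → b * ζ * b⁻¹ = ζ := by
    intro b hb
    rcases hb ζ hζV with h1 | h1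
    · exact h1
    · exfalso
      rw [hζζ] at h1
      apply hζ1
      have : ζ = b⁻¹ * (b * ζ * b⁻¹) * b := by group
      rw [this, h1]
      group
  let L : Subgroup G :=
    { carrier := {b | ∀ x ∈ cj k (V i), b * x * b⁻¹ = x ∨ b * x * b⁻¹ = x * ζ}
      one_mem' := fun x _ => Or.inl (by group)
      mul_mem' := by
        intro b c hb hc x hx
        have hbζ := hfixζ b hb
        have e : b * c * x * (b * c)⁻¹ = b * (c * x * c⁻¹) * b⁻¹ := by group
        rw [e]
        rcases hc x hx with h1 | h1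
        · rw [h1]
          exact hb x hx
        · rw [h1]
          have e2 : b * (x * ζ) * b⁻¹ = (b * x * b⁻¹) * (b * ζ * b⁻¹) := by group
          rw [e2, hbζ]
          rcases hb x hx with h2 | h2
          · right; rw [h2]
          · left; rw [h2, mul_assoc, hζζ, mul_one]
      inv_mem' := by
        intro b hb x hx
        have hn : b ∈ normalizer ((cj k (V i) : Subgroup G) : Set G) := by
          refine mem_normalizer_of_cj_le fun w hw => ?_
          rw [mem_cj] at hw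
          have e : w = b * (b⁻¹ * w * b) * b⁻¹ := by group
          rw [e]
          rcases hb _ hw with h1 | h1
          · rw [h1]; exact hw
          · rw [h1]; exact mul_mem hw hζV
        have hy : b⁻¹ * x * b ∈ cj k (V i) := by
          have := (mem_normalizer_iff.1 (inv_mem hn) x).1 hx
          rwa [inv_inv] at this
        rw [inv_inv]
        have e : b * (b⁻¹ * x * b) * b⁻¹ = x := by group
        rcases hb _ hy with h1 | h1
        · rw [e] at h1
          exact Or.inl h1.symm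
        · rw [e] at h1
          right
          calc b⁻¹ * x * b = b⁻¹ * x * b * (ζ * ζ) := by rw [hζζ, mul_one]
            _ = (b⁻¹ * x * b * ζ) * ζ := by group
            _ = x * ζ := by rw [← h1] }
  have hL : JF F (cj k T) ≤ L := by
    refine sSup_le fun A₁ hA₁ b hb x hx => ?_
    have h1 : cj k⁻¹ A₁ ∈ AA T := by
      have h2 : cj k⁻¹ A₁ ≤ T := by
        rw [cj_le_iff, inv_inv]
        exact hA₁.2
      exact AA_of_le (AA_cj (inv_mem hk) hA₁.1) h2 h.TF
    have h2 : k⁻¹ * b * k ∈ cj k⁻¹ A₁ := by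
      have := conj_mem_cj (g := k⁻¹) hb
      rwa [inv_inv] at this
    have h3 := h.act _ h1 _ h2 i (k⁻¹ * x * k) (mem_cj.1 hx)
    have e1 : k⁻¹ * b * k * (k⁻¹ * x * k) * (k⁻¹ * b * k)⁻¹ = k⁻¹ * (b * x * b⁻¹) * k := by group
    rw [e1] at h3
    rcases h3 with h3 | h3
    · left
      exact mul_left_cancel (mul_right_cancel h3)
    · right
      have e2 : k⁻¹ * x * k * z i = k⁻¹ * (x * ζ) * k := by rw [hζ]; group
      rw [e2] at h3
      exact mul_left_cancel (mul_right_cancel h3)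
  exact hL hb x hx

end Sit

namespace Pan

variable {R A Y Rs : Subgroup G} {g : G} (p : Pan F T F₀ V R A Y Rs g)
include p

/-- **(a)** -/
theorem quad [Finite G] (h : Sit F T F₀ V z) {y : G} (hy : y ∈ Y) (hyn : y ∉ cj g F₀) {i : ι} {x : G}
    (hx : x ∈ cj (y * g) (V i)) {a b : G} (ha : a ∈ A) (hb : b ∈ A) :
    b * (x * (a * x * a⁻¹)) = x * (a * x * a⁻¹) * b := by
  classical
  set k := y * g with hk
  have hkF : k ∈ F := p.yF hy
  set l := cj k (V i) with hl
  have hlΛ : l ≤ Lam V F := Sit.cjV_le_Lam hkF i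
  have hmain : ⁅l, A⁆ ≤ centralizer (A : Set G) := by
    by_contra hcon
    have h1 := rep p.hA h.Lam_elab h.Lam_le_F Sit.F_nor hlΛ
    have h2 := rep_lt p.hA h.Lam_elab h.Lam_le_F Sit.F_nor hlΛ hcon
    have h3 := rep_cent p.hA h.Lam_elab h.Lam_le_F Sit.F_nor hlΛ
    set B : Subgroup G := A ⊓ centralizer ((⁅l, A⁆ : Subgroup G) : Set G) with hB
    set Ap : Subgroup G := B ⊔ (Lam V F ⊓ centralizer (B : Set G)) with hAp
    have hApN : Ap ≤ normalizer (R : Set G) :=
      sup_le (inf_le_left.trans p.AN) (inf_le_left.trans (h.Lam_le_O.trans p.mx.On))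
    have hApR : Ap ≤ R := by
      by_contra h4
      exact absurd (p.Amax Ap h1.2 hApN h4) (not_le.2 h2)
    have hRk : R ≤ JF F (cj k T) := p.mx.gen.symm.le.trans (JF_mono (p.R_le_o2.trans (p.o2_le_cj hy)))
    -- some `b ∈ B` moves `t ∈ l`
    obtain ⟨b, hb, t, ht, hbt⟩ : ∃ b ∈ B, ∃ t ∈ l, b * t ≠ t * b := by
      by_contra h4
      push Not at h4
      apply hcon
      have h5 : ⁅l, A⁆ = ⊥ := commutator_eq_bot_iff_le_centralizer.2 (h3 h4)
      rw [h5]
      exact bot_le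
    set ζ := k * z i * k⁻¹ with hζ
    have hbt' : b * t * b⁻¹ = t * ζ := by
      rcases h.JF_act hkF (hRk (hApR (le_sup_left (a := B) hb))) ht with h4 | h4
      · exact absurd (mul_inv_eq_iff_eq_mul.1 h4) hbt
      · exact h4
    have hζl : ζ ∈ l := conj_mem_cj (h.zV i)
    have hζ1 : ζ ≠ 1 := by
      intro h4
      rw [h4, mul_one] at hbt'
      exact hbt (mul_inv_eq_iff_eq_mul.1 hbt')
    -- `A` centralises `ζ`
    refine p.not_fix h hy hyn fun a ha => ?_
    refine h.ti_cent hkF (p.hA.2.1 ha) hζl hζ1 ?_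
    have hcm : b * ⁅t, a⁆ = ⁅t, a⁆ * b :=
      (mem_centralizer_iff.1 hb.2 _ (commutator_mem_commutator ht ha)).symm
    have hab : b * a = a * b := elab_comm p.hA.1 b hb.1 a ha
    have e1 : b * (a * t * a⁻¹) * b⁻¹ = a * t * a⁻¹ * (a * ζ * a⁻¹) := by
      have hab' : a⁻¹ * b⁻¹ = b⁻¹ * a⁻¹ := by rw [← mul_inv_rev, ← mul_inv_rev, hab]
      calc b * (a * t * a⁻¹) * b⁻¹ = (b * a) * t * (a⁻¹ * b⁻¹) := by group
        _ = (a * b) * t * (b⁻¹ * a⁻¹) := by rw [hab, hab']
        _ = a * (b * t * b⁻¹) * a⁻¹ := by group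
        _ = a * (t * ζ) * a⁻¹ := by rw [hbt']
        _ = _ := by group
    have e2 : b * (a * t * a⁻¹) * b⁻¹ = a * t * a⁻¹ * ζ := by
      have e3 : a * t * a⁻¹ = ⁅t, a⁆⁻¹ * t := by rw [commutatorElement_def]; group
      have hcm' : b * ⁅t, a⁆⁻¹ = ⁅t, a⁆⁻¹ * b := by
        have h5 : b⁻¹ * ⁅t, a⁆ = ⁅t, a⁆ * b⁻¹ := by
          rw [inv_mul_eq_iff_eq_mul, ← mul_assoc, hcm, mul_inv_cancel_right]
        calc b * ⁅t, a⁆⁻¹ = (⁅t, a⁆ * b⁻¹)⁻¹ := by group
          _ = (b⁻¹ * ⁅t, a⁆)⁻¹ := by rw [h5]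
          _ = _ := by group
      rw [e3]
      calc b * (⁅t, a⁆⁻¹ * t) * b⁻¹ = (b * ⁅t, a⁆⁻¹) * t * b⁻¹ := by group
        _ = (⁅t, a⁆⁻¹ * b) * t * b⁻¹ := by rw [hcm']
        _ = ⁅t, a⁆⁻¹ * (b * t * b⁻¹) := by group
        _ = ⁅t, a⁆⁻¹ * (t * ζ) := by rw [hbt']
        _ = _ := by group
    rw [e1] at e2
    have e4 := mul_left_cancel e2
    rw [mul_inv_eq_iff_eq_mul] at e4
    exact e4
  have hxi : x⁻¹ = x := inv_eq_of_mul_eq_one_left (h.sq' hx)
  have h1 : ⁅x, a⁆ = x * (a * x * a⁻¹) := by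
    rw [commutatorElement_def, hxi]; group
  rw [← h1]
  exact mem_centralizer_iff.1 (hmain (commutator_mem_commutator hx ha)) b hb

/-- The group `K' = ⟨(V i)^{yg} : y ∈ Y moves the point⟩`. -/
def KK (V : ι → Subgroup G) (F₀ Y : Subgroup G) (g : G) : Subgroup G :=
  ⨆ y : {y : G // y ∈ Y ∧ y ∉ cj g F₀}, cj ((y : G) * g) (U0 V)

omit p in
theorem le_KK {y : G} (hy : y ∈ Y) (hyn : y ∉ cj g F₀) : cj (y * g) (U0 V) ≤ KK V F₀ Y g :=
  le_iSup (fun y : {y : G // y ∈ Y ∧ y ∉ cj g F₀} => cj ((y : G) * g) (U0 V)) ⟨y, hy, hyn⟩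

theorem KK_le : KK V F₀ Y g ≤ Lam V F := iSup_le fun y => Sit.cjU_le_Lam (p.yF y.2.1)

/-- quadratic on `Λ_y` -/
theorem quad' [Finite G] (h : Sit F T F₀ V z) {y : G} (hy : y ∈ Y) (hyn : y ∉ cj g F₀) {x : G}
    (hx : x ∈ cj (y * g) (U0 V)) {a b : G} (ha : a ∈ A) (hb : b ∈ A) :
    b * (x * (a * x * a⁻¹)) = x * (a * x * a⁻¹) * b := by
  have haF := p.hA.2.1 ha
  let L : Subgroup G :=
    { carrier := {x | x ∈ Lam V F ∧ b * (x * (a * x * a⁻¹)) = x * (a * x * a⁻¹) * b}
      one_mem' := ⟨one_mem _, by simp⟩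
      mul_mem' := by
        rintro x w ⟨hx, hx'⟩ ⟨hw, hw'⟩
        refine ⟨mul_mem hx hw, ?_⟩
        have h1 := h.Lam_comm w hw _ (Sit.conj_Lam haF hx)
        have e : x * w * (a * (x * w) * a⁻¹) = (x * (a * x * a⁻¹)) * (w * (a * w * a⁻¹)) := by
          calc x * w * (a * (x * w) * a⁻¹) = x * (w * (a * x * a⁻¹)) * (a * w * a⁻¹) := by group
            _ = x * ((a * x * a⁻¹) * w) * (a * w * a⁻¹) := by rw [h1]
            _ = _ := by group
        rw [e]
        calc b * ((x * (a * x * a⁻¹)) * (w * (a * w * a⁻¹))) = (b * (x * (a * x * a⁻¹))) * (w * (a * w * a⁻¹)) := by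
              group
          _ = (x * (a * x * a⁻¹)) * (b * (w * (a * w * a⁻¹))) := by rw [hx']; group
          _ = _ := by rw [hw']; group
      inv_mem' := by
        rintro x ⟨hx, hx'⟩
        have : x⁻¹ = x := inv_eq_of_mul_eq_one_left (h.Lam_sq x hx)
        rw [this]
        exact ⟨hx, hx'⟩ }
  have hL : cj (y * g) (U0 V) ≤ L := by
    rw [cj_iSup]
    exact iSup_le fun i w hw => ⟨Sit.cjV_le_Lam (p.yF hy) i hw, p.quad h hy hyn hw ha hb⟩
  exact (hL hx).2

/-- **(b), first case.** -/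
theorem not_case_one [Finite G] (h : Sit F T F₀ V z) (hc : A ⊓ o2 Y ≤ centralizer (KK V F₀ Y g : Set G)) :
    ¬ cj g (U0 V) ≤ KK V F₀ Y g := by
  intro hle
  set VA := cj g (U0 V) with hVA
  set ΛY := NoFF.Basic.V VA Y with hΛY
  have hΛK : ΛY ≤ KK V F₀ Y g := by
    refine NoFF.Basic.V_le fun y hy => ?_
    change cj y (cj g (U0 V)) ≤ _
    rw [cj_cj]
    by_cases hyn : y ∈ cj g F₀
    · have h1 : cj y (KK V F₀ Y g) ≤ KK V F₀ Y g := by
        rw [KK, cj_iSup]
        refine iSup_le fun w => ?_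
        rw [cj_cj, ← mul_assoc]
        refine le_KK (mul_mem hy w.2.1) fun h2 => w.2.2 ?_
        have := mul_mem (inv_mem hyn) h2
        rwa [inv_mul_cancel_left] at this
      rw [← cj_cj]
      exact (cj_mono y hle).trans h1
    · exact le_KK hy hyn
  have hΛL : ΛY ≤ Lam V F := hΛK.trans p.KK_le
  have hel : IsElementaryAbelian 2 ΛY := elab_mono h.Lam_elab hΛL
  have hζ : ∀ i, g * z i * g⁻¹ ∈ cj g (V i) := fun i => conj_mem_cj (h.zV i)
  have hζ1 : ∀ i, g * z i * g⁻¹ ≠ 1 := by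
    intro i h1
    apply h.z1 i
    have : z i = g⁻¹ * (g * z i * g⁻¹) * g := by group
    rw [this, h1]
    group
  obtain ⟨i, -, -⟩ := h.two
  have hYgen : Y ≤ oddGen Y ⊔ Rs := (Dich.oddGen_sup_syl p.syl).ge
  have xd : XD Rs Y VA := by
    refine ⟨p.Rs2, p.RsY, hYgen, p.o2_le_Rs, ?_, elab_comm hel, elab_sq hel, ?_⟩
    · refine p.RsT.trans ?_
      rw [← cj_normalizer]
      exact cj_mono g h.T_nor
    · intro h1
      obtain ⟨y, hy, hyn⟩ := SetLike.not_le_iff_exists.1 p.nY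
      apply hyn
      have h2 : cj (y * g) (U0 V) = cj g (U0 V) := by
        rw [← cj_cj]
        exact cj_eq_of_mem_normalizer (h1 hy)
      have h3 := h.ti' p.gF (p.yF hy) (hζ i) (hζ1 i) (by rw [h2]; exact cj_mono g (Sit.V_le_U0 i) (hζ i))
      rw [mem_cj]
      rwa [← mul_assoc] at h3
  have hno : NoOv Y ΛY := noOv p.syl p.par (elab_comm hel) (elab_sq hel)
  have h2 : ∃ c ∈ (⁅ΛY, o2 Y⁆ : Subgroup G), ∃ x ∈ oddGen Y, c * x ≠ x * c := by
    refine ⟨g * z i * g⁻¹, ?_, ?_⟩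
    · have h3 : g * z i * g⁻¹ ∈ cj g (⁅U0 V, o2 F⁆ : Subgroup G) := conj_mem_cj (h.z_mem_comm i)
      have h4 : cj g (⁅U0 V, o2 F⁆ : Subgroup G) = ⁅cj g (U0 V), cj g (o2 F)⁆ := map_commutator _ _ _
      rw [h4, cj_o2_self p.gF] at h3
      refine commutator_mono ?_ p.O_le_o2 h3
      have := NoFF.Basic.Z_le_V (Z := VA) (P := Y) (one_mem Y)
      rwa [map_one, one_smul] at this
    · by_contra hcon
      push Not at hcon
      apply p.nY
      refine hYgen.trans (sup_le (fun x hx => ?_) (p.RsF₀ h))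
      exact h.ti_cent p.gF (p.YF (oddGen_le Y hx)) (hζ i) (hζ1 i) (hcon x hx).symm
  have h3 := xd.sq_le hno h2 p.AY (elab_sq p.hA.1)
  have h4 := relIndex_le p.hA hel (hΛL.trans h.Lam_le_F)
  have h5 : (centralizer (ΛY : Set G)).relIndex A ≤ (o2 Y).relIndex A := by
    rw [← inf_relIndex_right (o2 Y) A]
    refine relIndex_le_of_le_left ?_ (relIndex_ne _ _)
    rw [inf_comm]
    exact hc.trans (centralizer_le hΛK)
  have h6 := h3.trans (h4.trans h5)
  have h7 : 0 < (o2 Y).relIndex A := Nat.pos_of_ne_zero (relIndex_ne _ _)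
  have h8 : (o2 Y).relIndex A ≤ 1 := Nat.le_of_mul_le_mul_left (h6.trans (by omega)) h7
  exact p.A_not_le h (relIndex_eq_one.1 (by omega))

end Pan

end Cfsg.Agent.Omega.OM.Swap

end

section


/-!
# THEOREM SW (#18741), STEP 1 (b), second case: counting

`A` acts on a set `P` of points without fixed points, `W p ≤ Λ` (`p : P`) are permuted by `A`, `[W p, A]` is centralised by
`A`, no `W p` is contained in the product of the others and every `W p` contains a subgroup of order at least 4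
meeting `C(A)` trivially. Then `|W : C_W(A)| ≥ 2 |A : A₀|`, `W = ⟨W p⟩`, `A₀` the kernel of `A` on `P`.
-/

set_option autoImplicit false
set_option linter.unusedVariables false

namespace Cfsg.Agent.Omega.OM.Swap

open Subgroup Cfsg.Agent.ZN Cfsg.Agent.ZN.ChoiceBase Cfsg.Agent.ZN.ChoiceSit
open Cfsg.Agent.Omega.SQ1.Bau (mem_sup_comm)

universe u

namespace Count

variable {G : Type u} [Group G] {A Λ : Subgroup G} {P : Type*} [MulAction A P] {W : P → Subgroup G}

/-- the product of the `W p`, `p` fixed by `K` -/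
def WW (A : Subgroup G) {P : Type*} [MulAction A P] (W : P → Subgroup G) (K : Subgroup A) : Subgroup G :=
  ⨆ p, ⨆ _ : K ≤ MulAction.stabilizer A p, W p

theorem le_WW {K : Subgroup A} {p : P} (h : K ≤ MulAction.stabilizer A p) : W p ≤ WW A W K :=
  le_iSup₂ (f := fun p (_ : K ≤ MulAction.stabilizer A p) => W p) p h

theorem WW_mono {K K' : Subgroup A} (h : K' ≤ K) : WW A W K ≤ WW A W K' :=
  iSup_le fun _ => iSup_le fun hp => le_WW (h.trans hp)

theorem mem_W (hWa : ∀ (a : A) (p : P), cj (a : G) (W p) = W (a • p)) (a : A) {p : P} {x : G} (hx : x ∈ W p) :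
    (a : G) * x * (a : G)⁻¹ ∈ W (a • p) := by
  rw [← hWa]
  exact ⟨x, hx, rfl⟩

theorem W_le_of_ne {p p' : P} (h : p' ≠ p) : W p' ≤ ⨆ p', ⨆ _ : p' ≠ p, W p' :=
  le_iSup₂ (f := fun p' (_ : p' ≠ p) => W p') p' h

/-- the stabiliser has index 2 -/
theorem index_stab (hWa : ∀ (a : A) (p : P), cj (a : G) (W p) = W (a • p))
    (hq : ∀ p, ∀ x ∈ W p, ∀ a ∈ A, ∀ b ∈ A, b * (x * (a * x * a⁻¹)) = x * (a * x * a⁻¹) * b)
    (hind : ∀ p, ¬ W p ≤ ⨆ p', ⨆ _ : p' ≠ p, W p')
    (hmv : ∀ p : P, ∃ a : A, a • p ≠ p) (p : P) : (MulAction.stabilizer A p).index = 2 := by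
  have key : ∀ a b : A, a • p ≠ p → b • p ≠ p → (b * a) • p = p := by
    intro a b ha hb
    by_contra hab
    apply hind p
    intro x hx
    have h1 := W_le_of_ne (W := W) ha (mem_W hWa a hx)
    have h2 := W_le_of_ne (W := W) hb (mem_W hWa b hx)
    have h3 := W_le_of_ne (W := W) hab (mem_W hWa (b * a) hx)
    have h4 := hq p x hx a a.2 b b.2
    have e : x = ((b : G) * x * (b : G)⁻¹) * (((b * a : A) : G) * x * ((b * a : A) : G)⁻¹) *
        ((a : G) * x * (a : G)⁻¹)⁻¹ := by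
      have e1 : ((b : G) * x * (b : G)⁻¹) * (((b * a : A) : G) * x * ((b * a : A) : G)⁻¹) =
          (b : G) * (x * ((a : G) * x * (a : G)⁻¹)) * (b : G)⁻¹ := by
        rw [Subgroup.coe_mul]; group
      rw [e1, h4]; group
    rw [e]
    exact mul_mem (mul_mem h2 h3) (inv_mem h1)
  obtain ⟨a, ha⟩ := hmv p
  rw [Subgroup.index_eq_two_iff]
  refine ⟨a, fun b => ?_⟩
  rw [MulAction.mem_stabilizer_iff, MulAction.mem_stabilizer_iff]
  by_cases hb : b • p = p
  · refine Or.inr ⟨hb, fun h => ha ?_⟩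
    rw [mul_smul] at h
    have h2 := congrArg (fun t => b⁻¹ • t) (h.trans hb.symm)
    simpa using h2
  · exact Or.inl ⟨key a b ha hb, hb⟩

end Count

open Cfsg.Agent.Omega.OM.Swap.Count in
/-- **STEP 1 (b), second case**, with `|W p : C(A)| ≥ 4` (form of helper87). -/
theorem count_points_idx {G : Type u} [Group G] [Finite G] {A Λ A₀ : Subgroup G} {P : Type*} [Finite P] [Nonempty P]
    [MulAction A P] (hΛ : ∀ x ∈ Λ, ∀ y ∈ Λ, x * y = y * x)
    (W : P → Subgroup G) (hW : ∀ p, W p ≤ Λ)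
    (hWa : ∀ (a : A) (p : P), cj (a : G) (W p) = W (a • p))
    (hq : ∀ p, ∀ x ∈ W p, ∀ a ∈ A, ∀ b ∈ A, b * (x * (a * x * a⁻¹)) = x * (a * x * a⁻¹) * b)
    (hind : ∀ p, ¬ W p ≤ ⨆ p', ⨆ _ : p' ≠ p, W p')
    (hmv : ∀ p : P, ∃ a : A, a • p ≠ p)
    (hl : ∀ p, 4 ≤ (centralizer (A : Set G)).relIndex (W p))
    (h0 : ∀ a : A, (∀ p : P, a • p = p) → (a : G) ∈ A₀) :
    2 * A₀.relIndex A ≤ (centralizer (A : Set G)).relIndex (⨆ p, W p) := by
  classical
  have : Fintype P := Fintype.ofFinite P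
  set C := centralizer (A : Set G) with hC
  have hri : ∀ X Y : Subgroup G, X.relIndex Y ≠ 0 := fun X Y => Subgroup.index_ne_zero_of_finite
  -- a bigger group has bigger index
  have hmono : ∀ {X Y : Subgroup G}, X ≤ Y → C.relIndex X ≤ C.relIndex Y := fun h =>
    Subgroup.relIndex_le_of_le_right h (hri _ _)
  have hWWΛ : ∀ K : Subgroup A, WW A W K ≤ Λ := fun K => iSup_le fun p => iSup_le fun _ => hW p
  have key : ∀ s : Finset P, s.Nonempty →
      2 * (⨅ p ∈ s, MulAction.stabilizer A p : Subgroup A).index ≤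
        C.relIndex (WW A W (⨅ p ∈ s, MulAction.stabilizer A p)) := by
    intro s hs
    induction hs using Finset.Nonempty.cons_induction with
    | singleton p =>
      have e : (⨅ p' ∈ ({p} : Finset P), MulAction.stabilizer A p' : Subgroup A) = MulAction.stabilizer A p := by
        simp
      rw [e, index_stab hWa hq hind hmv p]
      calc 2 * 2 = 4 := rfl
        _ ≤ C.relIndex (W p) := hl p
        _ ≤ _ := hmono (le_WW le_rfl)
    | cons p s hp hs ih =>
      set K : Subgroup A := ⨅ p ∈ s, MulAction.stabilizer A p with hK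
      have e : (⨅ p' ∈ Finset.cons p s hp, MulAction.stabilizer A p' : Subgroup A) =
          MulAction.stabilizer A p ⊓ K := by
        rw [Finset.cons_eq_insert, Finset.iInf_insert]
      rw [e]
      by_cases hle : K ≤ MulAction.stabilizer A p
      · rw [inf_eq_right.2 hle]
        exact ih
      · set K' : Subgroup A := MulAction.stabilizer A p ⊓ K with hK'
        have h1 : K'.index ≤ 2 * K.index := by
          have := Subgroup.index_inf_le (H := MulAction.stabilizer A p) (K := K)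
          rwa [index_stab hWa hq hind hmv p] at this
        have h2 : 2 * C.relIndex (WW A W K) ≤ C.relIndex (WW A W K') := by
          set W' := WW A W K' with hW'
          set X : Subgroup G := WW A W K ⊔ (C ⊓ W') with hX
          have hKW : WW A W K ≤ W' := WW_mono inf_le_right
          have hXW : X ≤ W' := sup_le hKW inf_le_right
          obtain ⟨b, hbK, hb⟩ := SetLike.not_le_iff_exists.1 hle
          rw [MulAction.mem_stabilizer_iff] at hb
          obtain ⟨v, hv, hvn⟩ := SetLike.not_le_iff_exists.1 (hind p)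
          have hvW : v ∈ W' := le_WW inf_le_left hv
          have hKle : WW A W K ≤ ⨆ p', ⨆ _ : p' ≠ p, W p' := by
            refine iSup_le fun p' => iSup_le fun hp' => W_le_of_ne ?_
            rintro rfl
            exact hle hp'
          have hbW : ∀ w ∈ WW A W K, (b : G) * w * (b : G)⁻¹ ∈ WW A W K := by
            have h3 : cj (b : G) (WW A W K) ≤ WW A W K := by
              rw [WW, cj, Subgroup.map_iSup]
              refine iSup_le fun p' => ?_
              rw [Subgroup.map_iSup]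
              refine iSup_le fun hp' => ?_
              change cj (b : G) (W p') ≤ _
              rw [hWa, MulAction.mem_stabilizer_iff.1 (hp' hbK)]
              exact le_WW hp'
            exact fun w hw => h3 ⟨w, hw, rfl⟩
          have hvX : v ∉ X := by
            intro hvX
            obtain ⟨w, hw, c, hc, e1⟩ := mem_sup_comm (A := WW A W K) (B := C ⊓ W')
              (fun a ha b hb => hΛ a (hWWΛ _ ha) b (hWWΛ _ hb.2)) hvX
            apply hvn
            have h3 := mem_centralizer_iff.1 hc.1 (b : G) b.2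
            have e2 : v = w * ((b : G) * w * (b : G)⁻¹)⁻¹ * ((b : G) * v * (b : G)⁻¹) := by
              have e3 : (b : G) * v * (b : G)⁻¹ = ((b : G) * w * (b : G)⁻¹) * c := by
                calc (b : G) * v * (b : G)⁻¹ = ((b : G) * w * (b : G)⁻¹) * ((b : G) * c * (b : G)⁻¹) := by
                      rw [e1]; group
                  _ = ((b : G) * w * (b : G)⁻¹) * c := by rw [h3]; group
              rw [e3, e1]; group
            rw [e2]
            refine mul_mem (mul_mem (hKle hw) (inv_mem (hKle (hbW w hw)))) ?_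
            exact W_le_of_ne hb (mem_W hWa b hv)
          have h4 : 2 ≤ X.relIndex W' := by
            have h5 : X.relIndex W' ≠ 1 := by
              intro h5
              exact hvX (Subgroup.relIndex_eq_one.1 h5 hvW)
            have h6 := hri X W'
            omega
          have h5 : C.relIndex W' = (C ⊓ W').relIndex X * X.relIndex W' := by
            rw [Subgroup.relIndex_mul_relIndex _ _ _ le_sup_right hXW, Subgroup.inf_relIndex_right]
          have h6 : C.relIndex (WW A W K) ≤ (C ⊓ W').relIndex X := by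
            have h7 : (C ⊓ W').relIndex (WW A W K) = C.relIndex (WW A W K) := by
              rw [← Subgroup.inf_relIndex_right (C ⊓ W'), inf_assoc, inf_eq_right.2 hKW,
                Subgroup.inf_relIndex_right]
            rw [← h7]
            exact Subgroup.relIndex_le_of_le_right le_sup_left (hri _ _)
          rw [h5, mul_comm]
          exact Nat.mul_le_mul h6 h4
        calc 2 * K'.index ≤ 2 * (2 * K.index) := Nat.mul_le_mul_left _ h1
          _ ≤ 2 * C.relIndex (WW A W K) := Nat.mul_le_mul_left _ ih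
          _ ≤ _ := h2
  have h1 := key Finset.univ Finset.univ_nonempty
  have h2 : WW A W (⨅ p ∈ (Finset.univ : Finset P), MulAction.stabilizer A p) ≤ ⨆ p, W p :=
    iSup_le fun p => iSup_le fun _ => le_iSup W p
  have h3 : A₀.relIndex A ≤ (⨅ p ∈ (Finset.univ : Finset P), MulAction.stabilizer A p : Subgroup A).index := by
    refine Nat.le_of_dvd (Nat.pos_of_ne_zero Subgroup.index_ne_zero_of_finite) (Subgroup.index_dvd_of_le ?_)
    intro a ha
    rw [mem_subgroupOf]
    refine h0 a fun p => ?_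
    have h4 := Subgroup.mem_iInf.1 (Subgroup.mem_iInf.1 ha p) (Finset.mem_univ p)
    exact MulAction.mem_stabilizer_iff.1 h4
  calc 2 * A₀.relIndex A ≤ _ := Nat.mul_le_mul_left _ h3
    _ ≤ _ := h1
    _ ≤ _ := hmono h2

/-- **STEP 1 (b), second case.** -/
theorem count_points {G : Type u} [Group G] [Finite G] {A Λ A₀ : Subgroup G} {P : Type*} [Finite P] [Nonempty P]
    [MulAction A P] (hA : ∀ a ∈ A, ∀ b ∈ A, a * b = b * a) (hΛ : ∀ x ∈ Λ, ∀ y ∈ Λ, x * y = y * x)
    (hsq : ∀ x ∈ Λ, x * x = 1) (W : P → Subgroup G) (hW : ∀ p, W p ≤ Λ)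
    (hWa : ∀ (a : A) (p : P), cj (a : G) (W p) = W (a • p))
    (hq : ∀ p, ∀ x ∈ W p, ∀ a ∈ A, ∀ b ∈ A, b * (x * (a * x * a⁻¹)) = x * (a * x * a⁻¹) * b)
    (hind : ∀ p, ¬ W p ≤ ⨆ p', ⨆ _ : p' ≠ p, W p')
    (hmv : ∀ p : P, ∃ a : A, a • p ≠ p)
    (hl : ∀ p, ∃ L ≤ W p, 4 ≤ Nat.card L ∧ ∀ x ∈ L, (∀ a ∈ A, a * x = x * a) → x = 1)
    (h0 : ∀ a : A, (∀ p : P, a • p = p) → (a : G) ∈ A₀) :
    2 * A₀.relIndex A ≤ (centralizer (A : Set G)).relIndex (⨆ p, W p) := by
  refine count_points_idx hΛ W hW hWa hq hind hmv (fun p => ?_) h0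
  obtain ⟨L, hL, hL4, hLc⟩ := hl p
  have h1 : (centralizer (A : Set G)).relIndex L = Nat.card L := by
    rw [← Subgroup.inf_relIndex_right]
    have h2 : centralizer (A : Set G) ⊓ L = ⊥ := by
      rw [eq_bot_iff]
      rintro x ⟨hx, hxL⟩
      rw [mem_bot]
      exact hLc x hxL fun a ha => mem_centralizer_iff.1 hx a ha
    rw [h2, Subgroup.relIndex_bot_left]
  calc 4 ≤ Nat.card L := hL4
    _ = (centralizer (A : Set G)).relIndex L := h1.symm
    _ ≤ _ := Subgroup.relIndex_le_of_le_right hL Subgroup.index_ne_zero_of_finite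

end Cfsg.Agent.Omega.OM.Swap

end

section


/-!
# THEOREM SW, STEP 1: (b) second case, (c)

* `Pan.not_cent` : (b) `A ∩ O₂(Y)` does not centralise `K' = ⟨(V i)^{yg}⟩`;
* `Pan.star` : (c) the star configuration.
-/

set_option autoImplicit false

namespace Cfsg.Agent.Omega.OM.Swap

open Subgroup Cfsg Cfsg.Agent.ZN Cfsg.Agent.ZN.ChoiceBase Cfsg.Agent.ZN.ChoiceSit
  Cfsg.Agent.MinSimple.VModule Cfsg.Agent.Omega.OmThm
open Cfsg.Agent.MinSimple.MinParabolic (IsMinPar)
open scoped Pointwise commutatorElement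

universe u

variable {G : Type u} [Group G] {ι : Type*} {F T F₀ : Subgroup G} {V : ι → Subgroup G} {z : ι → G}

namespace Sit

variable (h : Sit F T F₀ V z)
include h

/-- Points and their stabilisers correspond. -/
theorem mem_of_cj_eq [Finite G] {a k : G} (ha : a ∈ F) (hk : k ∈ F) (he : cj a (cj k F₀) = cj k F₀) :
    a ∈ cj k F₀ := by
  rw [mem_cj]
  have hx : k⁻¹ * a * k ∈ F := mul_mem (mul_mem (inv_mem hk) ha) hk
  have h1 : cj (k⁻¹ * a * k) F₀ = F₀ := by
    rw [← cj_cj, ← cj_cj, he, cj_inv_cj]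
  have h2 := h.pt_of_le (one_mem F) hx (by rw [cj_one, ← h1]; exact cj_mono _ h.TF₀)
  rwa [inv_one, one_mul] at h2

end Sit

namespace Pan

variable {R A Y Rs : Subgroup G} {g : G} (p : Pan F T F₀ V R A Y Rs g)
include p

/-- **(b)** -/
theorem not_cent [Finite G] (h : Sit F T F₀ V z) : ¬ A ⊓ o2 Y ≤ centralizer (KK V F₀ Y g : Set G) := by
  classical
  intro hc
  have hno := p.not_case_one h hc
  have hAg : A ≤ cj g F₀ := p.ARs.trans (p.RsF₀ h)
  -- the points
  let P : Type u := {K : Subgroup G // ∃ y ∈ Y, y ∉ cj g F₀ ∧ K = cj (y * g) F₀}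
  have hmemA : ∀ (a : A) (K : P), ∃ y ∈ Y, y ∉ cj g F₀ ∧ cj (a : G) K.1 = cj (y * g) F₀ := by
    rintro a ⟨K, y, hy, hyn, rfl⟩
    refine ⟨a * y, mul_mem (p.AY a.2) hy, fun h1 => hyn ?_, by rw [cj_cj, mul_assoc]⟩
    have := mul_mem (inv_mem (hAg a.2)) h1
    rwa [inv_mul_cancel_left] at this
  let act : MulAction A P :=
    { smul := fun a K => ⟨cj (a : G) K.1, hmemA a K⟩
      one_smul := fun K => Subtype.ext (cj_one K.1)
      mul_smul := fun a b K => Subtype.ext (cj_cj (a : G) (b : G) K.1).symm }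
  have hsm : ∀ (a : A) (K : P), (a • K).1 = cj (a : G) K.1 := fun a K => rfl
  let W : P → Subgroup G := fun K => ⨆ y : {y : G // y ∈ Y ∧ cj (y * g) F₀ = K.1}, cj ((y : G) * g) (U0 V)
  have hWdef : ∀ K : P, W K = ⨆ y : {y : G // y ∈ Y ∧ cj (y * g) F₀ = K.1}, cj ((y : G) * g) (U0 V) := fun _ => rfl
  have leW : ∀ (K : P) (y : G), y ∈ Y → cj (y * g) F₀ = K.1 → cj (y * g) (U0 V) ≤ W K := fun K y hy hK =>
    le_iSup (fun y : {y : G // y ∈ Y ∧ cj (y * g) F₀ = K.1} => cj ((y : G) * g) (U0 V)) ⟨y, hy, hK⟩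
  -- representatives move the point
  have hrep : ∀ (K : P) (y : G), y ∈ Y → cj (y * g) F₀ = K.1 → y ∉ cj g F₀ := by
    rintro ⟨K, y₀, hy₀, hyn₀, rfl⟩ y hy hK hyg
    apply hyn₀
    have h1 : cj y (cj g F₀) = cj g F₀ := cj_self hyg
    have h2 : cj y (cj g F₀) = cj y₀ (cj g F₀) := by
      rw [cj_cj, cj_cj]
      exact hK
    exact h.mem_of_cj_eq (p.YF hy₀) p.gF (h2.symm.trans h1)
  have hKK : (⨆ K, W K) = KK V F₀ Y g := by
    apply le_antisymm
    · refine iSup_le fun K => iSup_le fun y => ?_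
      exact le_KK y.2.1 (hrep K y y.2.1 y.2.2)
    · refine iSup_le fun y => ?_
      exact (leW ⟨cj ((y : G) * g) F₀, y, y.2.1, y.2.2, rfl⟩ y y.2.1 rfl).trans (le_iSup W _)
  have hWa' : ∀ (a : A) (K : P), cj (a : G) (W K) ≤ W (a • K) := by
    intro a K
    rw [hWdef K, cj_iSup]
    refine iSup_le fun y => ?_
    rw [cj_cj, ← mul_assoc]
    refine leW (a • K) ((a : G) * y) (mul_mem (p.AY a.2) y.2.1) ?_
    have h1 := y.2.2
    rw [hsm, mul_assoc, ← cj_cj, h1]
  have hWa : ∀ (a : A) (K : P), cj (a : G) (W K) = W (a • K) := by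
    intro a K
    refine le_antisymm (hWa' a K) ?_
    have h1 := cj_mono (a : G) (hWa' a⁻¹ (a • K))
    rw [inv_smul_smul] at h1
    have h2 : ((a⁻¹ : A) : G) = (a : G)⁻¹ := rfl
    rwa [h2, cj_cj_inv] at h1
  have hne : Nonempty P := by
    obtain ⟨y, hy, hyn⟩ := SetLike.not_le_iff_exists.1 p.nY
    exact ⟨⟨_, y, hy, hyn, rfl⟩⟩
  have hfin : Finite P := Subtype.finite
  have hWL : ∀ K, W K ≤ Lam V F := fun K => iSup_le fun y => Sit.cjU_le_Lam (p.yF y.2.1)
  have hq : ∀ K, ∀ x ∈ W K, ∀ a ∈ A, ∀ b ∈ A, b * (x * (a * x * a⁻¹)) = x * (a * x * a⁻¹) * b := by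
    intro K x hx a ha b hb
    have haF := p.hA.2.1 ha
    let L : Subgroup G :=
      { carrier := {x | x ∈ Lam V F ∧ b * (x * (a * x * a⁻¹)) = x * (a * x * a⁻¹) * b}
        one_mem' := ⟨one_mem _, by simp⟩
        mul_mem' := by
          rintro x w ⟨hx, hx'⟩ ⟨hw, hw'⟩
          refine ⟨mul_mem hx hw, ?_⟩
          have h1 := h.Lam_comm w hw _ (Sit.conj_Lam haF hx)
          have e : x * w * (a * (x * w) * a⁻¹) = (x * (a * x * a⁻¹)) * (w * (a * w * a⁻¹)) := by
            calc x * w * (a * (x * w) * a⁻¹) = x * (w * (a * x * a⁻¹)) * (a * w * a⁻¹) := by group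
              _ = x * ((a * x * a⁻¹) * w) * (a * w * a⁻¹) := by rw [h1]
              _ = _ := by group
          rw [e]
          calc b * ((x * (a * x * a⁻¹)) * (w * (a * w * a⁻¹))) = (b * (x * (a * x * a⁻¹))) * (w * (a * w * a⁻¹)) := by
                group
            _ = (x * (a * x * a⁻¹)) * (b * (w * (a * w * a⁻¹))) := by rw [hx']; group
            _ = _ := by rw [hw']; group
        inv_mem' := by
          rintro x ⟨hx, hx'⟩
          have : x⁻¹ = x := inv_eq_of_mul_eq_one_left (h.Lam_sq x hx)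
          rw [this]
          exact ⟨hx, hx'⟩ }
    have hL : W K ≤ L := iSup_le fun y w hw =>
      ⟨Sit.cjU_le_Lam (p.yF y.2.1) hw, p.quad' h y.2.1 (hrep K y y.2.1 y.2.2) hw ha hb⟩
    exact (hL hx).2
  have hind : ∀ K, ¬ W K ≤ ⨆ K', ⨆ _ : K' ≠ K, W K' := by
    intro K hle
    obtain ⟨y, hy, hyn, hK⟩ := K.2
    apply hno
    have h1 := cj_mono y⁻¹ ((leW K y hy hK.symm).trans hle)
    rw [← cj_cj, cj_inv_cj] at h1
    refine h1.trans ?_
    rw [cj_iSup]
    refine iSup_le fun K' => ?_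
    rw [cj_iSup]
    refine iSup_le fun hK' => ?_
    rw [hWdef, cj_iSup]
    refine iSup_le fun y' => ?_
    rw [cj_cj, ← mul_assoc]
    refine le_KK (mul_mem (inv_mem hy) y'.2.1) fun h2 => hK' (Subtype.ext ?_)
    rw [← y'.2.2, hK]
    have e : (y' : G) * g = y * ((y⁻¹ * y') * g) := by group
    rw [e, ← cj_cj y, ← cj_cj (y⁻¹ * y') g, cj_self h2, cj_cj]
  have hmv : ∀ K : P, ∃ a : A, a • K ≠ K := by
    intro K
    obtain ⟨y, hy, hyn, hK⟩ := K.2
    obtain ⟨a, ha, han⟩ := SetLike.not_le_iff_exists.1 (p.not_fix h hy hyn)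
    refine ⟨⟨a, ha⟩, fun h1 => han ?_⟩
    have h2 := congrArg Subtype.val h1
    rw [hsm, hK] at h2
    exact h.mem_of_cj_eq (p.hA.2.1 ha) (p.yF hy) h2
  have hl : ∀ K, ∃ L ≤ W K, 4 ≤ Nat.card L ∧ ∀ x ∈ L, (∀ a ∈ A, a * x = x * a) → x = 1 := by
    intro K
    obtain ⟨y, hy, hyn, hK⟩ := K.2
    obtain ⟨i, -, -⟩ := h.two
    refine ⟨cj (y * g) (V i), (cj_mono _ (Sit.V_le_U0 i)).trans (leW K y hy hK.symm), ?_, ?_⟩
    · rw [card_cj, h.card]
    · intro x hx hax
      by_contra hx1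
      exact p.not_fix h hy hyn fun a ha => h.ti_cent (p.yF hy) (p.hA.2.1 ha) hx hx1 (hax a ha)
  have h0 : ∀ a : A, (∀ K : P, a • K = K) → (a : G) ∈ A ⊓ o2 Y := by
    intro a ha
    refine ⟨a.2, p.ker h a.2 fun y hy => ?_⟩
    by_cases hyn : y ∈ cj g F₀
    · rw [← cj_cj, cj_self hyn]
      exact hAg a.2
    · have h1 := congrArg Subtype.val (ha ⟨cj (y * g) F₀, y, hy, hyn, rfl⟩)
      rw [hsm] at h1
      exact h.mem_of_cj_eq (p.hA.2.1 a.2) (p.yF hy) h1
  have main := count_points (elab_comm p.hA.1) h.Lam_comm h.Lam_sq W hWL hWa hq hind hmv hl h0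
  rw [hKK] at main
  have h4 := relIndex_le p.hA (elab_mono h.Lam_elab p.KK_le) (p.KK_le.trans h.Lam_le_F)
  have h5 : (centralizer (KK V F₀ Y g : Set G)).relIndex A ≤ (A ⊓ o2 Y).relIndex A :=
    relIndex_le_of_le_left hc (relIndex_ne _ _)
  have h7 : 0 < (A ⊓ o2 Y).relIndex A := Nat.pos_of_ne_zero (relIndex_ne _ _)
  omega

/-- **(c)** -/
theorem star [Finite G] (h : Sit F T F₀ V z) : ∃ i j : ι, i ≠ j ∧ ∃ c ∈ T, c * c = 1 ∧ cj c (V i) = V j ∧
    ∃ a ∈ F, a ∉ F₀ ∧ ∀ x ∈ V i, a * (x * (c * x * c⁻¹)) = x * (c * x * c⁻¹) * a := by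
  classical
  have hnc := p.not_cent h
  obtain ⟨y, hy, hyn, i, c, hc, x₀, hx₀, hcx⟩ : ∃ y ∈ Y, y ∉ cj g F₀ ∧ ∃ i, ∃ c ∈ A ⊓ o2 Y,
      ∃ x ∈ cj (y * g) (V i), c * x ≠ x * c := by
    by_contra hcon
    push Not at hcon
    apply hnc
    rw [le_centralizer_iff]
    refine iSup_le fun y => ?_
    rw [cj_iSup]
    exact iSup_le fun i x hx => mem_centralizer_iff.2 fun c hc => hcon y y.2.1 y.2.2 i c hc x hx
  set k := y * g with hk
  have hkF : k ∈ F := p.yF hy
  have hcT : k⁻¹ * c * k ∈ T := by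
    rw [← mem_cj]
    exact p.o2_le_cj hy hc.2
  obtain ⟨j, hj, -⟩ := h.perm _ hcT i
  obtain ⟨a, ha, han⟩ := SetLike.not_le_iff_exists.1 (p.not_fix h hy hyn)
  have hconj : ∀ x : G, k⁻¹ * c * k * x * (k⁻¹ * c * k)⁻¹ = k⁻¹ * (c * (k * x * k⁻¹) * c⁻¹) * k := by
    intro x; group
  refine ⟨i, j, ?_, k⁻¹ * c * k, hcT, ?_, hj, k⁻¹ * a * k, mul_mem (mul_mem (inv_mem hkF) (p.hA.2.1 ha)) hkF,
    fun h1 => han (mem_cj.2 h1), ?_⟩
  · rintro rfl
    -- `c` normalises the factor
    have h1 : c * x₀ * c⁻¹ ∈ cj k (V i) := by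
      rw [mem_cj]
      have h2 : k⁻¹ * c * k * (k⁻¹ * x₀ * k) * (k⁻¹ * c * k)⁻¹ ∈ V i := by
        rw [← hj]
        exact conj_mem_cj (mem_cj.1 hx₀)
      have e : k⁻¹ * c * k * (k⁻¹ * x₀ * k) * (k⁻¹ * c * k)⁻¹ = k⁻¹ * (c * x₀ * c⁻¹) * k := by group
      rwa [e] at h2
    have h2 : x₀ * (c * x₀ * c⁻¹) ∈ cj k (V i) := mul_mem hx₀ h1
    have h3 : x₀ * (c * x₀ * c⁻¹) ≠ 1 := by
      intro h4
      have h5 : x₀⁻¹ = x₀ := inv_eq_of_mul_eq_one_left (h.sq' hx₀)
      have h6 : c * x₀ * c⁻¹ = x₀ := by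
        rw [mul_eq_one_iff_inv_eq, h5] at h4
        exact h4.symm
      exact hcx (mul_inv_eq_iff_eq_mul.1 h6)
    refine p.not_fix h hy hyn fun b hb => ?_
    exact h.ti_cent hkF (p.hA.2.1 hb) h2 h3 (p.quad h hy hyn hx₀ hc.1 hb)
  · have h1 := elab_sq p.hA.1 c hc.1
    calc k⁻¹ * c * k * (k⁻¹ * c * k) = k⁻¹ * (c * c) * k := by group
      _ = 1 := by rw [h1]; group
  · intro x hx
    have h1 := p.quad h hy hyn (conj_mem_cj (g := k) hx) hc.1 ha
    rw [hconj]
    have h2 := congrArg (fun t => k⁻¹ * t * k) h1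
    have e1 : k⁻¹ * (a * (k * x * k⁻¹ * (c * (k * x * k⁻¹) * c⁻¹))) * k =
        k⁻¹ * a * k * (x * (k⁻¹ * (c * (k * x * k⁻¹) * c⁻¹) * k)) := by group
    have e2 : k⁻¹ * (k * x * k⁻¹ * (c * (k * x * k⁻¹) * c⁻¹) * a) * k =
        x * (k⁻¹ * (c * (k * x * k⁻¹) * c⁻¹) * k) * (k⁻¹ * a * k) := by group
    rw [e1, e2] at h2
    exact h2

end Pan

/-- **STEP 1.** -/
theorem Sit.exists_star [Finite G] (h : Sit F T F₀ V z) : ∃ i j : ι, i ≠ j ∧ ∃ c ∈ T, c * c = 1 ∧ cj c (V i) = V j ∧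
    ∃ a ∈ F, a ∉ F₀ ∧ ∀ x ∈ V i, a * (x * (c * x * c⁻¹)) = x * (c * x * c⁻¹) * a := by
  obtain ⟨R, A, Y, Rs, g, p⟩ := h.exists_pan
  exact p.star h

end Cfsg.Agent.Omega.OM.Swap

end

section


/-!
# THEOREM SW, STEP 1 (b), second case: the count with the weaker input `|W p : C(A)| ≥ 4`

The proof is helper590's (`Swap.Count`).
-/

set_option autoImplicit false
set_option linter.unusedVariables false

namespace Cfsg.Agent.Omega.OM.Swap

open Subgroup Cfsg.Agent.ZN Cfsg.Agent.ZN.ChoiceBase Cfsg.Agent.ZN.ChoiceSit Cfsg.Agent.Omega.OM.Swap.Count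
open Cfsg.Agent.Omega.SQ1.Bau (mem_sup_comm)

universe u

theorem count_points' {G : Type u} [Group G] [Finite G] {A Λ A₀ : Subgroup G} {P : Type*} [Finite P] [Nonempty P]
    [MulAction A P] (hΛ : ∀ x ∈ Λ, ∀ y ∈ Λ, x * y = y * x) (W : P → Subgroup G) (hW : ∀ p, W p ≤ Λ)
    (hWa : ∀ (a : A) (p : P), cj (a : G) (W p) = W (a • p))
    (hq : ∀ p, ∀ x ∈ W p, ∀ a ∈ A, ∀ b ∈ A, b * (x * (a * x * a⁻¹)) = x * (a * x * a⁻¹) * b)
    (hind : ∀ p, ¬ W p ≤ ⨆ p', ⨆ _ : p' ≠ p, W p')
    (hmv : ∀ p : P, ∃ a : A, a • p ≠ p)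
    (hl : ∀ p, 4 ≤ (centralizer (A : Set G)).relIndex (W p))
    (h0 : ∀ a : A, (∀ p : P, a • p = p) → (a : G) ∈ A₀) :
    2 * A₀.relIndex A ≤ (centralizer (A : Set G)).relIndex (⨆ p, W p) := by
  classical
  have : Fintype P := Fintype.ofFinite P
  set C := centralizer (A : Set G) with hC
  have hri : ∀ X Y : Subgroup G, X.relIndex Y ≠ 0 := fun X Y => Subgroup.index_ne_zero_of_finite
  -- a bigger group has bigger index
  have hmono : ∀ {X Y : Subgroup G}, X ≤ Y → C.relIndex X ≤ C.relIndex Y := fun h =>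
    Subgroup.relIndex_le_of_le_right h (hri _ _)
  have hWWΛ : ∀ K : Subgroup A, WW A W K ≤ Λ := fun K => iSup_le fun p => iSup_le fun _ => hW p
  have key : ∀ s : Finset P, s.Nonempty →
      2 * (⨅ p ∈ s, MulAction.stabilizer A p : Subgroup A).index ≤
        C.relIndex (WW A W (⨅ p ∈ s, MulAction.stabilizer A p)) := by
    intro s hs
    induction hs using Finset.Nonempty.cons_induction with
    | singleton p =>
      have e : (⨅ p' ∈ ({p} : Finset P), MulAction.stabilizer A p' : Subgroup A) = MulAction.stabilizer A p := by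
        simp
      rw [e, index_stab hWa hq hind hmv p]
      calc 2 * 2 = 4 := rfl
        _ ≤ C.relIndex (W p) := hl p
        _ ≤ _ := hmono (le_WW le_rfl)
    | cons p s hp hs ih =>
      set K : Subgroup A := ⨅ p ∈ s, MulAction.stabilizer A p with hK
      have e : (⨅ p' ∈ Finset.cons p s hp, MulAction.stabilizer A p' : Subgroup A) =
          MulAction.stabilizer A p ⊓ K := by
        rw [Finset.cons_eq_insert, Finset.iInf_insert]
      rw [e]
      by_cases hle : K ≤ MulAction.stabilizer A p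
      · rw [inf_eq_right.2 hle]
        exact ih
      · set K' : Subgroup A := MulAction.stabilizer A p ⊓ K with hK'
        have h1 : K'.index ≤ 2 * K.index := by
          have := Subgroup.index_inf_le (H := MulAction.stabilizer A p) (K := K)
          rwa [index_stab hWa hq hind hmv p] at this
        have h2 : 2 * C.relIndex (WW A W K) ≤ C.relIndex (WW A W K') := by
          set W' := WW A W K' with hW'
          set X : Subgroup G := WW A W K ⊔ (C ⊓ W') with hX
          have hKW : WW A W K ≤ W' := WW_mono inf_le_right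
          have hXW : X ≤ W' := sup_le hKW inf_le_right
          obtain ⟨b, hbK, hb⟩ := SetLike.not_le_iff_exists.1 hle
          rw [MulAction.mem_stabilizer_iff] at hb
          obtain ⟨v, hv, hvn⟩ := SetLike.not_le_iff_exists.1 (hind p)
          have hvW : v ∈ W' := le_WW inf_le_left hv
          have hKle : WW A W K ≤ ⨆ p', ⨆ _ : p' ≠ p, W p' := by
            refine iSup_le fun p' => iSup_le fun hp' => W_le_of_ne ?_
            rintro rfl
            exact hle hp'
          have hbW : ∀ w ∈ WW A W K, (b : G) * w * (b : G)⁻¹ ∈ WW A W K := by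
            have h3 : cj (b : G) (WW A W K) ≤ WW A W K := by
              rw [WW, cj, Subgroup.map_iSup]
              refine iSup_le fun p' => ?_
              rw [Subgroup.map_iSup]
              refine iSup_le fun hp' => ?_
              change cj (b : G) (W p') ≤ _
              rw [hWa, MulAction.mem_stabilizer_iff.1 (hp' hbK)]
              exact le_WW hp'
            exact fun w hw => h3 ⟨w, hw, rfl⟩
          have hvX : v ∉ X := by
            intro hvX
            obtain ⟨w, hw, c, hc, e1⟩ := mem_sup_comm (A := WW A W K) (B := C ⊓ W')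
              (fun a ha b hb => hΛ a (hWWΛ _ ha) b (hWWΛ _ hb.2)) hvX
            apply hvn
            have h3 := mem_centralizer_iff.1 hc.1 (b : G) b.2
            have e2 : v = w * ((b : G) * w * (b : G)⁻¹)⁻¹ * ((b : G) * v * (b : G)⁻¹) := by
              have e3 : (b : G) * v * (b : G)⁻¹ = ((b : G) * w * (b : G)⁻¹) * c := by
                calc (b : G) * v * (b : G)⁻¹ = ((b : G) * w * (b : G)⁻¹) * ((b : G) * c * (b : G)⁻¹) := by
                      rw [e1]; group
                  _ = ((b : G) * w * (b : G)⁻¹) * c := by rw [h3]; group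
              rw [e3, e1]; group
            rw [e2]
            refine mul_mem (mul_mem (hKle hw) (inv_mem (hKle (hbW w hw)))) ?_
            exact W_le_of_ne hb (mem_W hWa b hv)
          have h4 : 2 ≤ X.relIndex W' := by
            have h5 : X.relIndex W' ≠ 1 := by
              intro h5
              exact hvX (Subgroup.relIndex_eq_one.1 h5 hvW)
            have h6 := hri X W'
            omega
          have h5 : C.relIndex W' = (C ⊓ W').relIndex X * X.relIndex W' := by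
            rw [Subgroup.relIndex_mul_relIndex _ _ _ le_sup_right hXW, Subgroup.inf_relIndex_right]
          have h6 : C.relIndex (WW A W K) ≤ (C ⊓ W').relIndex X := by
            have h7 : (C ⊓ W').relIndex (WW A W K) = C.relIndex (WW A W K) := by
              rw [← Subgroup.inf_relIndex_right (C ⊓ W'), inf_assoc, inf_eq_right.2 hKW,
                Subgroup.inf_relIndex_right]
            rw [← h7]
            exact Subgroup.relIndex_le_of_le_right le_sup_left (hri _ _)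
          rw [h5, mul_comm]
          exact Nat.mul_le_mul h6 h4
        calc 2 * K'.index ≤ 2 * (2 * K.index) := Nat.mul_le_mul_left _ h1
          _ ≤ 2 * C.relIndex (WW A W K) := Nat.mul_le_mul_left _ ih
          _ ≤ _ := h2
  have h1 := key Finset.univ Finset.univ_nonempty
  have h2 : WW A W (⨅ p ∈ (Finset.univ : Finset P), MulAction.stabilizer A p) ≤ ⨆ p, W p :=
    iSup_le fun p => iSup_le fun _ => le_iSup W p
  have h3 : A₀.relIndex A ≤ (⨅ p ∈ (Finset.univ : Finset P), MulAction.stabilizer A p : Subgroup A).index := by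
    refine Nat.le_of_dvd (Nat.pos_of_ne_zero Subgroup.index_ne_zero_of_finite) (Subgroup.index_dvd_of_le ?_)
    intro a ha
    rw [mem_subgroupOf]
    refine h0 a fun p => ?_
    have h4 := Subgroup.mem_iInf.1 (Subgroup.mem_iInf.1 ha p) (Finset.mem_univ p)
    exact MulAction.mem_stabilizer_iff.1 h4
  calc 2 * A₀.relIndex A ≤ _ := Nat.mul_le_mul_left _ h3
    _ ≤ _ := h1
    _ ≤ _ := hmono h2

end Cfsg.Agent.Omega.OM.Swap

end

section


/-!
# THEOREM COUNT (helper987, #21705), pure part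

* `count_hyp` : `A` permutes the `W p ≤ Λ` without fixed points, quadratically, no `W p` in the product of the others.
  Then there is an `A`-invariant `X` with `|W p : W p ∩ X| ≤ 2` and `|⟨W p⟩ : C(A)| ≥ |A : kernel| |X : C(A)|`;
* `chain` : if `2 |D : C_D(U y)|³ ≤ |U y : C(D)|` for all `D ≤ A₀` moving `U y` and `|U y : U y ∩ X| ≤ 2`, then
  `|D : C_D(⟨U y⟩)|³ ≤ |X : C_X(D)|`.
-/

set_option autoImplicit false
set_option linter.unusedVariables false
set_option linter.unusedSectionVars false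

namespace Cfsg.Agent.Omega.OM.Swap.Fam.CountExt

open Subgroup Cfsg.Agent.ZN Cfsg.Agent.ZN.ChoiceBase Cfsg.Agent.ZN.ChoiceSit Cfsg.Agent.Omega.OM.Swap
  Cfsg.Agent.Omega.OM.Swap.Count
open Cfsg.Agent.Omega.SQ1.Bau (mem_sup_comm)

universe u

/-- a hyperplane of `K` over `N` which does not contain `v` -/
theorem exists_hyp {G : Type u} [Group G] [Finite G] {K N : Subgroup G} (hK : ∀ x ∈ K, ∀ y ∈ K, x * y = y * x)
    (hsq : ∀ x ∈ K, x * x = 1) (hN : N ≤ K) {v : G} (hv : v ∈ K) (hvN : v ∉ N) :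
    ∃ H : Subgroup G, N ≤ H ∧ H ≤ K ∧ v ∉ H ∧ ∀ x ∈ K, x ∈ H ∨ x * v ∈ H := by
  classical
  obtain ⟨H, ⟨hNH, hHK, hvH⟩, hmax⟩ := Set.exists_max_image {H : Subgroup G | N ≤ H ∧ H ≤ K ∧ v ∉ H}
    (fun H => Nat.card H) (Set.toFinite _) ⟨N, le_rfl, hN, hvN⟩
  refine ⟨H, hNH, hHK, hvH, fun x hx => ?_⟩
  by_contra hcon
  push Not at hcon
  obtain ⟨hx1, hx2⟩ := hcon
  set H' : Subgroup G := H ⊔ zpowers x with hH'
  have hzK : zpowers x ≤ K := by rw [zpowers_le]; exact hx
  have hle : H ≤ H' := le_sup_left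
  have hv' : v ∉ H' := by
    intro hv'
    obtain ⟨h, hh, c, hc, e⟩ := mem_sup_comm (A := H) (B := zpowers x)
      (fun a ha b hb => hK a (hHK ha) b (hzK hb)) hv'
    obtain ⟨n, rfl⟩ := mem_zpowers_iff.1 hc
    rcases Int.even_or_odd n with ⟨m, rfl⟩ | ⟨m, rfl⟩
    · apply hvH
      have : x ^ (m + m) = 1 := by
        rw [← two_mul, zpow_mul]
        have : x ^ (2 : ℤ) = 1 := by
          rw [zpow_two]; exact hsq x hx
        rw [this, one_zpow]
      rw [e, this, mul_one]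
      exact hh
    · apply hx2
      have h1 : x ^ (2 * m + 1) = x := by
        rw [zpow_add, zpow_mul]
        have : x ^ (2 : ℤ) = 1 := by
          rw [zpow_two]; exact hsq x hx
        rw [this, one_zpow, one_mul, zpow_one]
      rw [h1] at e
      have h2 : x * v = h := by
        rw [e, hK h (hHK hh) x hx, ← mul_assoc, hsq x hx, one_mul]
      rw [h2]
      exact hh
  have h1 := hmax H' ⟨hNH.trans hle, sup_le hHK hzK, hv'⟩
  have h2 : H = H' := eq_of_le_of_card_ge hle h1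
  apply hx1
  rw [h2]
  exact mem_sup_right (mem_zpowers x)

/-- the hyperplane has relative index `≤ 2` -/
theorem relIndex_hyp {G : Type u} [Group G] [Finite G] {K H X : Subgroup G} {v : G} (hXK : X ≤ K)
    (h : ∀ x ∈ K, x ∈ H ∨ x * v ∈ H) : H.relIndex X ≤ 2 := by
  classical
  by_cases h1 : X ≤ H
  · rw [relIndex_eq_one.2 h1]; norm_num
  · obtain ⟨w, hw, hwH⟩ := SetLike.not_le_iff_exists.1 h1
    have h2 : (H.subgroupOf X).index = 2 := by
      rw [Subgroup.index_eq_two_iff]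
      refine ⟨⟨w, hw⟩, fun x => ?_⟩
      rw [mem_subgroupOf, mem_subgroupOf]
      have hwv : w * v ∈ H := (h w (hXK hw)).resolve_left hwH
      change Xor ((x : G) * w ∈ H) ((x : G) ∈ H)
      by_cases hx : (x : G) ∈ H
      · exact Or.inr ⟨hx, fun h3 => hwH (by
          have := mul_mem (inv_mem hx) h3
          rwa [inv_mul_cancel_left] at this)⟩
      · refine Or.inl ⟨?_, hx⟩
        rcases h _ (mul_mem (hXK x.2) (hXK hw)) with h3 | h3
        · exact h3
        · exfalso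
          apply hx
          have := mul_mem h3 (inv_mem hwv)
          have e : (x : G) * w * v * (w * v)⁻¹ = x := by group
          rwa [e] at this
    exact h2.le

variable {G : Type u} [Group G] [Finite G] {A Λ : Subgroup G} {P : Type*} [MulAction A P] {W : P → Subgroup G}

/-- `K p`, the product of the other `W p'` -/
def Kp (W : P → Subgroup G) (p : P) : Subgroup G := ⨆ p', ⨆ _ : p' ≠ p, W p'

theorem le_Kp {p p' : P} (h : p' ≠ p) : W p' ≤ Kp W p := W_le_of_ne h

theorem cj_Kp (hWa : ∀ (a : A) (p : P), cj (a : G) (W p) = W (a • p)) (a : A) (p : P) :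
    cj (a : G) (Kp W p) ≤ Kp W (a • p) := by
  rw [Kp, cj, Subgroup.map_iSup]
  refine iSup_le fun p' => ?_
  rw [Subgroup.map_iSup]
  refine iSup_le fun hp' => ?_
  change cj (a : G) (W p') ≤ _
  rw [hWa]
  exact le_Kp fun e => hp' (MulAction.injective a e)

theorem count_hyp [Finite P] (hΛ : ∀ x ∈ Λ, ∀ y ∈ Λ, x * y = y * x) (hsq : ∀ x ∈ Λ, x * x = 1)
    (hW : ∀ p, W p ≤ Λ) (hWa : ∀ (a : A) (p : P), cj (a : G) (W p) = W (a • p))
    (hq : ∀ p, ∀ x ∈ W p, ∀ a ∈ A, ∀ b ∈ A, b * (x * (a * x * a⁻¹)) = x * (a * x * a⁻¹) * b)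
    (hind : ∀ p, ¬ W p ≤ ⨆ p', ⨆ _ : p' ≠ p, W p')
    (hmv : ∀ p : P, ∃ a : A, a • p ≠ p) :
    ∃ X : Subgroup G, X ≤ (⨆ p, W p) ∧ (∀ p, X.relIndex (W p) ≤ 2) ∧
      ∀ A₀ : Subgroup G, (∀ a : A, (∀ p : P, a • p = p) → (a : G) ∈ A₀) →
        A₀.relIndex A * (centralizer (A : Set G)).relIndex X ≤ (centralizer (A : Set G)).relIndex (⨆ p, W p) := by
  classical
  have : Fintype P := Fintype.ofFinite P
  set C := centralizer (A : Set G) with hC
  set K' : Subgroup G := ⨆ p, W p with hK'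
  have hKΛ : K' ≤ Λ := iSup_le hW
  have hri : ∀ X Y : Subgroup G, X.relIndex Y ≠ 0 := fun X Y => Subgroup.index_ne_zero_of_finite
  have hst := index_stab hWa hq hind hmv
  have hstn : ∀ p : P, (MulAction.stabilizer A p).Normal := fun p => Subgroup.normal_of_index_eq_two (hst p)
  have key : ∀ s : Finset P, ∃ X : Subgroup G, X ≤ K' ∧ (∀ a : A, cj (a : G) X = X) ∧
      (∀ p, (∀ p' ∈ s, ∀ a : A, a • p' ≠ p) → W p ≤ X) ∧ (∀ p ∈ s, X.relIndex (W p) ≤ 2) ∧
      (⨅ p ∈ s, MulAction.stabilizer A p : Subgroup A).index * C.relIndex X ≤ C.relIndex K' := by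
    intro s
    induction s using Finset.induction_on with
    | empty =>
      refine ⟨K', le_rfl, fun a => ?_, fun p _ => le_iSup W p, by simp, by simp⟩
      rw [hK', cj, Subgroup.map_iSup]
      apply le_antisymm
      · refine iSup_le fun p => ?_
        change cj (a : G) (W p) ≤ _
        rw [hWa]
        exact le_iSup W _
      · refine iSup_le fun p => ?_
        have h1 := hWa a (a⁻¹ • p)
        rw [smul_inv_smul] at h1
        rw [← h1]
        exact le_iSup (fun p => Subgroup.map _ (W p)) (a⁻¹ • p)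
    | insert p s hp ih =>
      obtain ⟨X, hXK, hXa, hX2, hX3, hX1⟩ := ih
      set L : Subgroup A := ⨅ p ∈ s, MulAction.stabilizer A p with hL
      have e : (⨅ p' ∈ insert p s, MulAction.stabilizer A p' : Subgroup A) = MulAction.stabilizer A p ⊓ L := by
        rw [Finset.iInf_insert]
      by_cases horb : ∃ p' ∈ s, ∃ a : A, a • p' = p
      · obtain ⟨p₁, hp₁, a, rfl⟩ := horb
        refine ⟨X, hXK, hXa, fun p'' h1 => hX2 p'' fun p' hp' b => h1 p' (Finset.mem_insert_of_mem hp') b, ?_, ?_⟩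
        · intro p'' hp''
          rcases Finset.mem_insert.1 hp'' with rfl | h1
          · have h2 := hX3 p₁ hp₁
            have h3 : X.relIndex (W (a • p₁)) = X.relIndex (W p₁) := by
              conv_lhs => rw [← hWa, ← hXa a]
              exact Subgroup.relIndex_map_map_of_injective _ _ (MulAut.conj (a : G)).injective
            rw [h3]
            exact h2
          · exact hX3 p'' h1
        · rw [e]
          have h1 : L ≤ MulAction.stabilizer A (a • p₁) := by
            have h2 : L ≤ MulAction.stabilizer A p₁ := iInf₂_le p₁ hp₁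
            refine h2.trans fun b hb => ?_
            have h3 := (hstn p₁).conj_mem b hb a⁻¹
            rw [inv_inv] at h3
            rw [MulAction.mem_stabilizer_iff] at h3 ⊢
            rw [mul_smul, mul_smul, inv_smul_eq_iff] at h3
            exact h3
          rw [inf_eq_right.2 h1]
          exact hX1
      · push Not at horb
        obtain ⟨a, ha⟩ := hmv p
        obtain ⟨v, hv, hvn⟩ := SetLike.not_le_iff_exists.1 (hind p)
        have hvK : v ∈ K' := le_iSup W p hv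
        have hKpK : Kp W p ≤ K' := iSup_le fun p' => iSup_le fun _ => le_iSup W p'
        obtain ⟨H, hKH, hHK, hvH, hH2⟩ := exists_hyp (fun x hx y hy => hΛ x (hKΛ hx) y (hKΛ hy))
          (fun x hx => hsq x (hKΛ hx)) hKpK hvK hvn
        have hK'a : ∀ b : A, ∀ x ∈ K', (b : G) * x * (b : G)⁻¹ ∈ K' := by
          intro b x hx
          have h1 : cj (b : G) K' ≤ K' := by
            rw [hK', cj, Subgroup.map_iSup]
            refine iSup_le fun p => ?_
            change cj (b : G) (W p) ≤ _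
            rw [hWa]
            exact le_iSup W _
          exact h1 ⟨x, hx, rfl⟩
        -- the stabiliser of `p` normalises `H`
        have hstH : ∀ b : A, b • p = p → cj (b : G) H ≤ H := by
          intro b hb
          rintro _ ⟨x, hx, rfl⟩
          change (b : G) * x * (b : G)⁻¹ ∈ H
          have h1 : K' ≤ W p ⊔ Kp W p := by
            refine iSup_le fun p' => ?_
            by_cases h2 : p' = p
            · rw [h2]; exact le_sup_left
            · exact (le_Kp h2).trans le_sup_right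
          obtain ⟨w, hw, c, hc, e1⟩ := mem_sup_comm (A := W p) (B := Kp W p)
            (fun a ha b hb => hΛ a (hW p ha) b (hKΛ (hKpK hb))) (h1 (hHK hx))
          have hbw := mem_W hWa b hw
          rw [hb] at hbw
          -- `[w, b] ∈ Kp`
          have h2 : w * ((b : G) * w * (b : G)⁻¹) ∈ Kp W p := by
            have h3 : w * ((b : G) * w * (b : G)⁻¹) ∈ W p := mul_mem hw hbw
            have h4 := hq p w hw b b.2 a a.2
            have h5 : (a : G) * (w * ((b : G) * w * (b : G)⁻¹)) * (a : G)⁻¹ = w * ((b : G) * w * (b : G)⁻¹) := by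
              rw [h4]; group
            rw [← h5]
            exact le_Kp ha (mem_W hWa a h3)
          have h6 : (b : G) * c * (b : G)⁻¹ ∈ Kp W p := by
            have := cj_Kp hWa b p ⟨c, hc, rfl⟩
            rwa [hb] at this
          have h7 : (b : G) * x * (b : G)⁻¹ =
              x * (w * ((b : G) * w * (b : G)⁻¹)) * (c⁻¹ * ((b : G) * c * (b : G)⁻¹)) := by
            have hxΛ := hKΛ (hHK hx)
            have hwΛ := hW p hw
            have hcΛ := hKΛ (hKpK hc)
            have hbwΛ := hW p hbw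
            have hww := hsq w hwΛ
            rw [e1]
            have c1 := hΛ w hwΛ c hcΛ
            have c2 := hΛ _ hbwΛ c hcΛ
            calc (b : G) * (w * c) * (b : G)⁻¹ = ((b : G) * w * (b : G)⁻¹) * ((b : G) * c * (b : G)⁻¹) := by group
              _ = (w * w) * ((b : G) * w * (b : G)⁻¹) * ((b : G) * c * (b : G)⁻¹) := by rw [hww, one_mul]
              _ = w * (w * ((b : G) * w * (b : G)⁻¹)) * (c * c⁻¹) * ((b : G) * c * (b : G)⁻¹) := by
                  rw [mul_inv_cancel]; group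
              _ = w * (w * ((b : G) * w * (b : G)⁻¹) * c) * (c⁻¹ * ((b : G) * c * (b : G)⁻¹)) := by group
              _ = w * (c * (w * ((b : G) * w * (b : G)⁻¹))) * (c⁻¹ * ((b : G) * c * (b : G)⁻¹)) := by
                  have : w * ((b : G) * w * (b : G)⁻¹) * c = c * (w * ((b : G) * w * (b : G)⁻¹)) :=
                    hΛ _ (mul_mem hwΛ hbwΛ) c hcΛ
                  rw [this]
              _ = _ := by group
          rw [h7]
          exact mul_mem (mul_mem hx (hKH h2)) (hKH (mul_mem (inv_mem hc) h6))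
        have hstH' : ∀ b : A, b • p = p → cj (b : G) H = H := fun b hb =>
          eq_of_le_of_card_ge (hstH b hb) (by rw [card_cj])
        have hstab : ∀ b : A, b • p ≠ p → (a⁻¹ * b) • p = p ∧ (b * a) • p = p := by
          intro b hb
          have h1 : ∀ x : A, x ∈ MulAction.stabilizer A p ↔ x • p = p := fun x => MulAction.mem_stabilizer_iff
          have h2 : ∀ x y : A, (x * y ∈ MulAction.stabilizer A p) ↔
              (x ∈ MulAction.stabilizer A p ↔ y ∈ MulAction.stabilizer A p) := fun x y =>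
            Subgroup.mul_mem_iff_of_index_two (hst p)
          constructor
          · rw [← h1, h2, h1, h1]
            constructor
            · intro h3
              exact absurd (by
                rw [inv_smul_eq_iff] at h3
                exact h3.symm) ha
            · intro h3; exact absurd h3 hb
          · rw [← h1, h2, h1, h1]
            exact ⟨fun h3 => absurd h3 hb, fun h3 => absurd h3 ha⟩
        set H' : Subgroup G := cj (a : G) H with hH'
        have hbH : ∀ b : A, cj (b : G) (H ⊓ H') = H ⊓ H' := by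
          intro b
          rw [cj_inf]
          by_cases hb : b • p = p
          · have h1 : cj (b : G) H' = H' := by
              have h2 : (a⁻¹ * b * a) • p = p := by
                have h3 := (hstn p).conj_mem b (MulAction.mem_stabilizer_iff.2 hb) a⁻¹
                rw [inv_inv] at h3
                exact MulAction.mem_stabilizer_iff.1 h3
              have h3 := hstH' _ h2
              rw [hH', cj_cj]
              have e2 : (b : G) * a = a * ((a⁻¹ * b * a : A) : G) := by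
                push_cast; group
              rw [e2, ← cj_cj, h3]
            rw [h1, hstH' b hb]
          · obtain ⟨h1, h2⟩ := hstab b hb
            have h3 : cj (b : G) H = H' := by
              have e2 : (b : G) = a * ((a⁻¹ * b : A) : G) := by push_cast; group
              rw [e2, ← cj_cj, hstH' _ h1]
            have h4 : cj (b : G) H' = H := by
              rw [hH', cj_cj]
              have e2 : (b : G) * a = ((b * a : A) : G) := by push_cast; rfl
              rw [e2, hstH' _ h2]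
            rw [h3, h4, inf_comm]
        have hH'K : H' ≤ K' := by
          rintro _ ⟨x, hx, rfl⟩
          exact hK'a a x (hHK hx)
        have hKpH' : Kp W (a • p) ≤ H' := by
          have h1 := cj_Kp hWa a⁻¹ (a • p)
          rw [inv_smul_smul] at h1
          have h2 := cj_mono (a : G) (h1.trans hKH)
          have e2 : ((a⁻¹ : A) : G) = (a : G)⁻¹ := rfl
          rwa [e2, cj_cj_inv] at h2
        have hWpX : W p ≤ X := hX2 p fun p' hp' b => horb p' hp' b
        have hWpH' : W p ≤ H' := (le_Kp ha.symm).trans hKpH'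
        have hWH : ∀ p', p' ≠ p → W p' ≤ H := fun p' h1 => (le_Kp h1).trans hKH
        have hWH' : ∀ p', p' ≠ a • p → W p' ≤ H' := fun p' h1 => (le_Kp h1).trans hKpH'
        refine ⟨X ⊓ (H ⊓ H'), inf_le_left.trans hXK, fun b => by rw [cj_inf, hXa, hbH], ?_, ?_, ?_⟩
        · intro p'' h1
          refine le_inf (hX2 p'' fun p' hp' b => h1 p' (Finset.mem_insert_of_mem hp') b) (le_inf (hWH _ ?_) (hWH' _ ?_))
          · rintro rfl
            exact h1 p'' (Finset.mem_insert_self _ _) 1 (one_smul _ _)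
          · rintro rfl
            exact h1 p (Finset.mem_insert_self _ _) a rfl
        · intro p'' hp''
          rcases Finset.mem_insert.1 hp'' with rfl | h1
          · have h2 : (X ⊓ (H ⊓ H')).relIndex (W p'') = H.relIndex (W p'') := by
              rw [← inf_relIndex_right, ← inf_relIndex_right H]
              congr 1
              apply le_antisymm
              · exact le_inf (inf_le_left.trans (inf_le_right.trans inf_le_left)) inf_le_right
              · exact le_inf (le_inf (inf_le_right.trans hWpX) (le_inf inf_le_left (inf_le_right.trans hWpH')))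
                  inf_le_right
            rw [h2]
            exact relIndex_hyp (le_iSup W _) hH2
          · have hne1 : p'' ≠ p := fun e2 => hp (e2 ▸ h1)
            have hne2 : p'' ≠ a • p := fun e2 => horb p'' h1 a⁻¹ (by rw [e2, inv_smul_smul])
            have h2 : (X ⊓ (H ⊓ H')).relIndex (W p'') = X.relIndex (W p'') := by
              rw [← inf_relIndex_right, ← inf_relIndex_right X]
              congr 1
              apply le_antisymm
              · exact le_inf (inf_le_left.trans inf_le_left) inf_le_right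
              · exact le_inf (le_inf inf_le_left (le_inf (inf_le_right.trans (hWH _ hne1))
                  (inf_le_right.trans (hWH' _ hne2)))) inf_le_right
            rw [h2]
            exact hX3 p'' h1
        · rw [e]
          set X' : Subgroup G := X ⊓ (H ⊓ H') with hX'
          have h1 : (MulAction.stabilizer A p ⊓ L).index ≤ 2 * L.index := by
            have := Subgroup.index_inf_le (H := MulAction.stabilizer A p) (K := L)
            rwa [hst p] at this
          have h2 : 2 * C.relIndex X' ≤ C.relIndex X := by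
            set Y : Subgroup G := X' ⊔ (C ⊓ X) with hY
            have hX'X : X' ≤ X := inf_le_left
            have hYX : Y ≤ X := sup_le hX'X inf_le_right
            have hvY : v ∉ Y := by
              intro hvY
              obtain ⟨x, hx, c, hc, e1⟩ := mem_sup_comm (A := X') (B := C ⊓ X)
                (fun a ha b hb => hΛ a (hKΛ (hXK (hX'X ha))) b (hKΛ (hXK hb.2))) hvY
              have hcH : c ∉ H := by
                intro hcH
                apply hvH
                rw [e1]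
                exact mul_mem hx.2.1 hcH
              have hcH' : c ∉ H' := by
                intro h3
                apply hcH
                obtain ⟨y, hy, e2⟩ := h3
                have h4 := mem_centralizer_iff.1 hc.1 (a : G) a.2
                change (a : G) * y * (a : G)⁻¹ = c at e2
                have h5 : y = c := by
                  have h6 : y = (a : G)⁻¹ * c * (a : G) := by rw [← e2]; group
                  rw [h6, mul_assoc, ← h4]; group
                rw [← h5]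
                exact hy
              apply hcH'
              have hxH' : x ∈ H' := hx.2.2
              have h5 := mul_mem (inv_mem hxH') (hWpH' hv)
              rw [e1, inv_mul_cancel_left] at h5
              exact h5
            have h4 : 2 ≤ Y.relIndex X := by
              have h5 : Y.relIndex X ≠ 1 := by
                intro h5
                exact hvY (Subgroup.relIndex_eq_one.1 h5 (hWpX hv))
              have h6 := hri Y X
              omega
            have h5 : C.relIndex X = (C ⊓ X).relIndex Y * Y.relIndex X := by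
              rw [Subgroup.relIndex_mul_relIndex _ _ _ le_sup_right hYX, Subgroup.inf_relIndex_right]
            have h6 : C.relIndex X' ≤ (C ⊓ X).relIndex Y := by
              have h7 : (C ⊓ X).relIndex X' = C.relIndex X' := by
                rw [← Subgroup.inf_relIndex_right (C ⊓ X), inf_assoc, inf_eq_right.2 hX'X,
                  Subgroup.inf_relIndex_right]
              rw [← h7]
              exact Subgroup.relIndex_le_of_le_right le_sup_left (hri _ _)
            rw [h5, mul_comm]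
            exact Nat.mul_le_mul h6 h4
          calc (MulAction.stabilizer A p ⊓ L).index * C.relIndex X' ≤ 2 * L.index * C.relIndex X' :=
                Nat.mul_le_mul_right _ h1
            _ = L.index * (2 * C.relIndex X') := by ring
            _ ≤ L.index * C.relIndex X := Nat.mul_le_mul_left _ h2
            _ ≤ _ := hX1
  obtain ⟨X, hXK, -, -, hX3, hX1⟩ := key Finset.univ
  refine ⟨X, hXK, fun p => hX3 p (Finset.mem_univ p), fun A₀ h0 => ?_⟩
  have h3 : A₀.relIndex A ≤ (⨅ p ∈ (Finset.univ : Finset P), MulAction.stabilizer A p : Subgroup A).index := by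
    refine Nat.le_of_dvd (Nat.pos_of_ne_zero Subgroup.index_ne_zero_of_finite) (Subgroup.index_dvd_of_le ?_)
    intro a ha
    rw [mem_subgroupOf]
    refine h0 a fun p => ?_
    have h4 := Subgroup.mem_iInf.1 (Subgroup.mem_iInf.1 ha p) (Finset.mem_univ p)
    exact MulAction.mem_stabilizer_iff.1 h4
  exact (Nat.mul_le_mul_right _ h3).trans hX1

omit [Finite G] in
theorem relIndex_split [Finite G] {X Y D : Subgroup G} (h : X ⊓ D ≤ Y) :
    X.relIndex D = X.relIndex (Y ⊓ D) * Y.relIndex D := by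
  have h1 : X.relIndex D = (X ⊓ D).relIndex D := (inf_relIndex_right X D).symm
  have h2 : Y.relIndex D = (Y ⊓ D).relIndex D := (inf_relIndex_right Y D).symm
  have h3 : X.relIndex (Y ⊓ D) = (X ⊓ D).relIndex (Y ⊓ D) := by
    rw [← inf_relIndex_right X (Y ⊓ D), ← inf_relIndex_right (X ⊓ D) (Y ⊓ D)]
    congr 1
    apply le_antisymm
    · exact le_inf (le_inf inf_le_left (inf_le_right.trans inf_le_right)) inf_le_right
    · exact le_inf (inf_le_left.trans inf_le_left) inf_le_right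
  rw [h1, h2, h3, relIndex_mul_relIndex _ _ _ (le_inf h inf_le_right) inf_le_right]

/-- The chain: cubes. -/
theorem chain {κ : Sort*} {U : κ → Subgroup G} {X A₀ : Subgroup G}
    (h5 : ∀ D ≤ A₀, ∀ y, D ≤ centralizer (U y : Set G) ∨
      2 * ((centralizer (U y : Set G)).relIndex D) ^ 3 ≤ (centralizer (D : Set G)).relIndex (U y))
    (hX : ∀ y, X.relIndex (U y) ≤ 2) :
    ∀ n : ℕ, ∀ D ≤ A₀, Nat.card D ≤ n →
      ((centralizer ((⨆ y, U y : Subgroup G) : Set G)).relIndex D) ^ 3 ≤ (centralizer (D : Set G)).relIndex X := by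
  have hri : ∀ X Y : Subgroup G, X.relIndex Y ≠ 0 := fun X Y => Subgroup.index_ne_zero_of_finite
  intro n
  induction n with
  | zero =>
    intro D _ hn
    exact absurd hn (by have := Nat.card_pos (α := D); omega)
  | succ n ih =>
    intro D hD hn
    by_cases h1 : ∀ y, D ≤ centralizer (U y : Set G)
    · have h2 : D ≤ centralizer ((⨆ y, U y : Subgroup G) : Set G) := by
        rw [le_centralizer_iff]
        exact iSup_le fun y => le_centralizer_iff.1 (h1 y)
      rw [relIndex_eq_one.2 h2]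
      have := hri (centralizer (D : Set G)) X
      omega
    · push Not at h1
      obtain ⟨y, hy⟩ := h1
      have h2 := (h5 D hD y).resolve_left hy
      set C₁ := centralizer (U y : Set G) with hC₁
      set D₁ := C₁ ⊓ D with hD₁
      have hlt : Nat.card D₁ < Nat.card D := by
        have hle : D₁ ≤ D := inf_le_right
        refine lt_of_le_of_ne (card_le_of_le hle) fun e => hy ?_
        have := eq_of_le_of_card_ge hle e.ge
        rw [← this]
        exact inf_le_left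
      have h3 := ih D₁ (inf_le_right.trans hD) (by omega)
      have hCU : centralizer ((⨆ y, U y : Subgroup G) : Set G) ≤ C₁ :=
        centralizer_le (by exact_mod_cast le_iSup U y)
      have h4 := relIndex_split (X := centralizer ((⨆ y, U y : Subgroup G) : Set G)) (Y := C₁) (D := D)
        (inf_le_left.trans hCU)
      -- on the `X`-side
      set CD := centralizer (D : Set G) with hCD
      set CD₁ := centralizer (D₁ : Set G) with hCD₁
      have hle : CD ≤ CD₁ := centralizer_le (by exact_mod_cast (inf_le_right : D₁ ≤ D))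
      have h6 := relIndex_split (X := CD) (Y := CD₁) (D := X) (inf_le_left.trans hle)
      have hUy : U y ≤ CD₁ := by
        rw [hCD₁, ← le_centralizer_iff]
        exact inf_le_left
      -- `|C_X(D₁) : C(D)| ≥ |U y ∩ X : C(D)| ≥ |U y : C(D)| / 2`
      have h7 : CD.relIndex (U y) ≤ CD.relIndex (X ⊓ U y) * 2 := by
        have h8 : CD.relIndex (U y) ≤ (CD ⊓ X).relIndex (U y) := relIndex_le_of_le_left inf_le_left (hri _ _)
        have h9 := relIndex_split (X := CD ⊓ X) (Y := X) (D := U y) (inf_le_left.trans inf_le_right)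
        have h10 : (CD ⊓ X).relIndex (X ⊓ U y) = CD.relIndex (X ⊓ U y) := by
          rw [← inf_relIndex_right (CD ⊓ X), ← inf_relIndex_right CD]
          congr 1
          apply le_antisymm
          · exact le_inf (inf_le_left.trans inf_le_left) inf_le_right
          · exact le_inf (le_inf inf_le_left (inf_le_right.trans inf_le_left)) inf_le_right
        rw [h9, h10] at h8
        exact h8.trans (Nat.mul_le_mul_left _ (hX y))
      have h8 : CD.relIndex (X ⊓ U y) ≤ CD.relIndex (CD₁ ⊓ X) :=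
        relIndex_le_of_le_right (le_inf (inf_le_right.trans hUy) inf_le_left) (hri _ _)
      have h9 : (C₁.relIndex D) ^ 3 ≤ CD.relIndex (CD₁ ⊓ X) := by omega
      rw [h4, h6, mul_pow, mul_comm]
      exact Nat.mul_le_mul h9 h3

end Cfsg.Agent.Omega.OM.Swap.Fam.CountExt

end
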