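import Cfsg.Agent.Mrg.Omega.OM.Swap.Gen.One


/-!
# THEOREM SW: the star lemma

`StarH.out : StarH F T V z i j c a → ∃ D E, StarO F V z i j D E`; `Sit.false`, `SitF.false`.
-/

set_option autoImplicit false

namespace Cfsg.Agent.Omega.OM.Swap

open Subgroup Cfsg Cfsg.Agent.ZN Cfsg.Agent.ZN.ChoiceBase Cfsg.Agent.ZN.ChoiceSit

universe u

/-- The input of the star lemma. -/
structure StarH {G : Type u} [Group G] {ι : Type*} (F T : Subgroup G) (V : ι → Subgroup G) (z : ι → G) (i j : ι)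
    (c a : G) : Prop where
  syl : Syl T F
  card : ∀ i, Nat.card (V i) = 4
  zV : ∀ i, z i ∈ V i
  z1 : ∀ i, z i ≠ 1
  sq : ∀ i, ∀ x ∈ V i, x * x = 1
  cm : ∀ i j, ∀ x ∈ V i, ∀ y ∈ V j, x * y = y * x
  ind : ∀ i, ∀ x ∈ V i, x ∈ (⨆ j, ⨆ _ : j ≠ i, V j) → x = 1
  perm : ∀ t ∈ T, ∀ i, ∃ j, cj t (V i) = V j ∧ t * z i * t⁻¹ = z j
  tr : ∀ i j, ∃ o ∈ o2 F, cj o (V i) = V j
  mov : ∀ i, ∃ t ∈ T, (∃ x ∈ V i, t * x ≠ x * t) ∧ ∀ j, j ≠ i → ∀ x ∈ V j, t * x = x * t
  ti : ∀ i, ∀ x ∈ V i, x ≠ 1 → x ∉ cj a (⨆ j, V j)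
  ij : i ≠ j
  cT : c ∈ T
  cc : ∀ u ∈ ⨆ k, V k, c * (c * u * c⁻¹) * c⁻¹ = u
  cV : cj c (V i) = V j
  aF : a ∈ F
  star : ∀ x ∈ V i, a * (x * (c * x * c⁻¹)) = x * (c * x * c⁻¹) * a

section Four

open M4

variable {G : Type u} [Group G]

/-- `⟨x, z⟩` in coordinates -/
def al {x z : G} (hx : x * x = 1) (hz' : z * z = 1) (hc : x * z = z * x) : Z2 × Z2 →* G :=
  MonoidHom.noncommCoprod (hz x hx) (hz z hz') (by
    intro m n
    rcases z2_cases m with rfl | rfl
    · rw [map_one]; exact Commute.one_left _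
    · rcases z2_cases n with rfl | rfl
      · rw [map_one]; exact Commute.one_right _
      · rw [hz_g, hz_g]; exact hc)

theorem al_gg {x z : G} (hx : x * x = 1) (hz' : z * z = 1) (hc : x * z = z * x) : al hx hz' hc (g, g) = x * z := by
  change hz x hx g * hz z hz' g = x * z
  rw [hz_g, hz_g]

theorem al_g1 {x z : G} (hx : x * x = 1) (hz' : z * z = 1) (hc : x * z = z * x) : al hx hz' hc (g, 1) = x := by
  change hz x hx g * hz z hz' 1 = x
  rw [hz_g, map_one, mul_one]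

theorem al_1g {x z : G} (hx : x * x = 1) (hz' : z * z = 1) (hc : x * z = z * x) : al hx hz' hc (1, g) = z := by
  change hz x hx 1 * hz z hz' g = z
  rw [hz_g, map_one, one_mul]

theorem al_inj {x z : G} (hx : x * x = 1) (hz' : z * z = 1) (hc : x * z = z * x) (x1 : x ≠ 1) (z1 : z ≠ 1)
    (xz : x ≠ z) : Function.Injective (al hx hz' hc) := by
  rw [injective_iff_map_eq_one]
  rintro ⟨m, n⟩ hm
  rcases z2_cases m with rfl | rfl <;> rcases z2_cases n with rfl | rfl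
  · rfl
  · rw [al_1g] at hm; exact absurd hm z1
  · rw [al_g1] at hm; exact absurd hm x1
  · rw [al_gg] at hm
    exact absurd ((eq_inv_of_mul_eq_one_left hm).trans (inv_eq_of_mul_eq_one_left hz')) xz

theorem al_range {x z : G} (hx : x * x = 1) (hz' : z * z = 1) (hc : x * z = z * x) (x1 : x ≠ 1) (z1 : z ≠ 1)
    (xz : x ≠ z) {W : Subgroup G} (hW : Nat.card W = 4) (hxW : x ∈ W) (hzW : z ∈ W) : (al hx hz' hc).range = W := by
  have : Finite W := Nat.finite_of_card_ne_zero (by rw [hW]; decide)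
  apply eq_of_le_of_card_ge
  · rintro _ ⟨⟨m, n⟩, rfl⟩
    rcases z2_cases m with rfl | rfl <;> rcases z2_cases n with rfl | rfl
    · change al hx hz' hc 1 ∈ W
      rw [map_one]; exact one_mem _
    · rw [al_1g]; exact hzW
    · rw [al_g1]; exact hxW
    · rw [al_gg]; exact mul_mem hxW hzW
  · have h1 : Nat.card (al hx hz' hc).range = Nat.card (Z2 × Z2) :=
      (Nat.card_congr (MonoidHom.ofInjective (al_inj hx hz' hc x1 z1 xz)).toEquiv).symm
    rw [hW, h1, Nat.card_eq_fintype_card]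
    decide

/-- The elements of a four group. -/
theorem four {x z : G} (hx : x * x = 1) (hz' : z * z = 1) (hc : x * z = z * x) (x1 : x ≠ 1) (z1 : z ≠ 1)
    (xz : x ≠ z) {W : Subgroup G} (hW : Nat.card W = 4) (hxW : x ∈ W) (hzW : z ∈ W) {y : G} (hy : y ∈ W) :
    y = 1 ∨ y = z ∨ y = x ∨ y = x * z := by
  rw [← al_range hx hz' hc x1 z1 xz hW hxW hzW] at hy
  obtain ⟨⟨m, n⟩, rfl⟩ := hy
  rcases z2_cases m with rfl | rfl <;> rcases z2_cases n with rfl | rfl
  · left; exact map_one _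
  · right; left; exact al_1g _ _ _
  · right; right; left; exact al_g1 _ _ _
  · right; right; right; exact al_gg _ _ _

end Four

open M4

namespace StarH

variable {G : Type u} [Group G] {ι : Type*} {F T : Subgroup G} {V : ι → Subgroup G} {z : ι → G} {i j : ι} {c a : G}

variable (h : StarH F T V z i j c a)
include h

theorem V_inj {k l : ι} (e : V k = V l) : k = l := by
  by_contra hne
  refine h.z1 k (h.ind k _ (h.zV k) ?_)
  have h1 : V l ≤ ⨆ j, ⨆ _ : j ≠ k, V j := le_iSup₂_of_le l (Ne.symm hne) le_rfl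
  exact h1 (e ▸ h.zV k)

theorem inv_eq {k : ι} {x : G} (hx : x ∈ V k) : x⁻¹ = x := inv_eq_of_mul_eq_one_left (h.sq k x hx)

/-- An element of `T` which maps `V k` to `V l` maps `z k` to `z l`. -/
theorem z_of {t : G} (ht : t ∈ T) {k l : ι} (e : cj t (V k) = V l) : t * z k * t⁻¹ = z l := by
  obtain ⟨m, hm, hz⟩ := h.perm t ht k
  have : m = l := h.V_inj (hm.symm.trans e)
  rw [← this]
  exact hz

theorem cj_inj {t : G} {k l m : ι} (e : cj t (V k) = V m) (e' : cj t (V l) = V m) : k = l := by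
  apply h.V_inj
  have h1 := congrArg (cj t⁻¹) (e.trans e'.symm)
  rwa [cj_inv_cj, cj_inv_cj] at h1

theorem cj_T_le {t : G} (ht : t ∈ T) : cj t (⨆ k, V k) ≤ ⨆ k, V k := by
  rw [cj_iSup]
  refine iSup_le fun i => ?_
  obtain ⟨j, hj, -⟩ := h.perm t ht i
  rw [hj]
  exact le_iSup V j

theorem cj_T {t : G} (ht : t ∈ T) : cj t (⨆ k, V k) = ⨆ k, V k := by
  refine le_antisymm (h.cj_T_le ht) ?_
  have h1 := cj_mono t (h.cj_T_le (inv_mem ht))
  rwa [cj_cj_inv] at h1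

theorem O_le [Finite G] : o2 F ≤ T := o2_le_syl h.syl

/-- `O` normalises `cj a U`. -/
theorem conj_a [Finite G] {o : G} (ho : o ∈ o2 F) : cj o (cj a (⨆ k, V k)) = cj a (⨆ k, V k) := by
  have h1 : a⁻¹ * o * a ∈ o2 F := by
    have h2 := cj_eq_of_mem_normalizer (ChoiceSit.le_normalizer_o2 F h.aF)
    rw [← h2] at ho
    exact mem_cj.1 ho
  have e : o * a = a * (a⁻¹ * o * a) := by group
  rw [cj_cj, e, ← cj_cj, h.cj_T (h.O_le h1)]

/-- The transvection on `V k`. -/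
theorem exists_t (k : ι) : ∃ t ∈ T, ∃ x ∈ V k, x ≠ 1 ∧ x ≠ z k ∧ cj t (V k) = V k ∧ t * z k * t⁻¹ = z k ∧
    t * x * t⁻¹ = x * z k ∧ ∀ l, l ≠ k → ∀ y ∈ V l, t * y = y * t := by
  obtain ⟨t, ht, ⟨x, hx, hm⟩, ho⟩ := h.mov k
  have h1 : cj t (V k) = V k := by
    obtain ⟨l, hl, -⟩ := h.perm t ht k
    by_cases hlk : l = k
    · rw [hlk] at hl; exact hl
    · exfalso
      have h2 : cj t (V l) = V l := by
        apply le_antisymm
        · intro y hy
          have h3 := mem_cj.1 hy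
          have h4 := ho l hlk _ h3
          have h5 : t⁻¹ * y * t = y := by
            have : t * (t⁻¹ * y * t) = y * t := by group
            rw [this] at h4
            exact (mul_right_cancel h4).symm
          rwa [h5] at h3
        · intro y hy
          rw [mem_cj]
          have h4 := ho l hlk _ hy
          have h5 : t⁻¹ * y * t = y := by
            rw [mul_assoc, ← h4, inv_mul_cancel_left]
          rwa [h5]
      exact hlk (h.cj_inj hl h2).symm
  have hz := h.z_of ht h1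
  have hx1 : x ≠ 1 := by
    rintro rfl
    exact hm (by rw [mul_one, one_mul])
  have hxz : x ≠ z k := by
    rintro rfl
    exact hm (mul_inv_eq_iff_eq_mul.1 hz)
  refine ⟨t, ht, x, hx, hx1, hxz, h1, hz, ?_, ho⟩
  have h2 : t * x * t⁻¹ ∈ V k := by
    rw [← h1]
    exact conj_mem_cj hx
  rcases four (h.sq k x hx) (h.sq k _ (h.zV k)) (h.cm k k x hx _ (h.zV k)) hx1 (h.z1 k) hxz (h.card k) hx (h.zV k) h2
    with h3 | h3 | h3 | h3
  · exact absurd (conj_eq_one_iff.1 h3) hx1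
  · rw [← hz] at h3
    exact absurd (mul_left_cancel (mul_right_cancel h3)) hxz
  · exact absurd (mul_inv_eq_iff_eq_mul.1 h3) hm
  · exact h3

omit h in
theorem cj_hom (w u v : G) : w * (u * v) * w⁻¹ = (w * u * w⁻¹) * (w * v * w⁻¹) := by group

/-- `O` normalises `I = U ⊓ cj a U`. -/
theorem I_nor [Finite G] {o u : G} (ho : o ∈ o2 F) (hu : u ∈ (⨆ k, V k) ⊓ cj a (⨆ k, V k)) :
    o * u * o⁻¹ ∈ (⨆ k, V k) ⊓ cj a (⨆ k, V k) := by
  constructor
  · rw [← h.cj_T (h.O_le ho)]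
    exact conj_mem_cj hu.1
  · rw [← h.conj_a ho]
    exact conj_mem_cj hu.2

theorem star_mem {x : G} (hx : x ∈ V i) : x * (c * x * c⁻¹) ∈ (⨆ k, V k) ⊓ cj a (⨆ k, V k) := by
  have h1 : x * (c * x * c⁻¹) ∈ ⨆ k, V k := by
    refine mul_mem (le_iSup V i hx) (le_iSup V j ?_)
    rw [← h.cV]; exact conj_mem_cj hx
  refine mem_inf.2 ⟨h1, mem_cj.2 ?_⟩
  have h2 := h.star x hx
  have h3 : a⁻¹ * (x * (c * x * c⁻¹)) * a = x * (c * x * c⁻¹) := by
    rw [mul_assoc, ← h2, inv_mul_cancel_left]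
  rwa [h3]

theorem fix_conj {t s : G} {k l : ι} (hto : ∀ l, l ≠ k → ∀ y ∈ V l, t * y = y * t) (hs : s ∈ T)
    (hne : cj s (V k) ≠ V l) {u : G} (hu : u ∈ V l) : t * (s⁻¹ * u * s) * t⁻¹ = s⁻¹ * u * s := by
  obtain ⟨m, hm, -⟩ := h.perm s⁻¹ (inv_mem hs) l
  have hmk : m ≠ k := by
    rintro rfl
    apply hne
    rw [← hm, cj_cj_inv]
  have h1 : s⁻¹ * u * s ∈ V m := by
    rw [← hm]
    have := conj_mem_cj (g := s⁻¹) hu
    rwa [inv_inv] at this
  exact mul_inv_eq_iff_eq_mul.2 (hto m hmk _ h1)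

/-- Third factors do not exist. -/
theorem only [Finite G] (k : ι) : k = i ∨ k = j := by
  by_contra hk
  rw [not_or] at hk
  obtain ⟨t, ht, x, hx, x1, xz, htV, htz, htx, hto⟩ := h.exists_t i
  obtain ⟨s, hs, hsV⟩ := h.tr i k
  have hsT := h.O_le hs
  have hzi := h.zV i
  have zz := h.sq i _ hzi
  -- `t⁻¹ x t = x z`
  have hcz := h.cm i i x hx _ hzi
  have h1 : t⁻¹ * x * t = x * z i := by
    have e1 : t⁻¹ * (t * x * t⁻¹) * t = x := by group
    have e2 : t⁻¹ * (t * z i * t⁻¹) * t = z i := by group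
    rw [htx] at e1
    rw [htz] at e2
    have e3 : t⁻¹ * (x * z i) * t = (t⁻¹ * x * t) * (t⁻¹ * z i * t) := by group
    rw [e3, e2] at e1
    rw [← mul_inv_eq_iff_eq_mul.2 e1.symm, h.inv_eq hzi] 
  have hstar := h.star_mem hx
  set y := c * x * c⁻¹ with hy
  have hyV : y ∈ V j := by rw [← h.cV]; exact conj_mem_cj hx
  have hw : s * (t * s⁻¹ * t⁻¹) ∈ o2 F := by
    refine mul_mem hs ?_
    have h2 := cj_eq_of_mem_normalizer (ChoiceSit.le_normalizer_o2 F (h.syl.1 ht))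
    rw [← h2]
    exact conj_mem_cj (inv_mem hs)
  have hI := h.I_nor hw hstar
  have hwx : ∀ u : G, (s * (t * s⁻¹ * t⁻¹)) * u * (s * (t * s⁻¹ * t⁻¹))⁻¹ =
      s * (t * (s⁻¹ * (t⁻¹ * u * t) * s) * t⁻¹) * s⁻¹ := fun u => by group
  have h3 : (s * (t * s⁻¹ * t⁻¹)) * x * (s * (t * s⁻¹ * t⁻¹))⁻¹ = x * z i := by
    rw [hwx, h1, h.fix_conj hto hsT (l := i) ?_ (mul_mem hx hzi)]
    · group
    · rw [hsV]
      exact fun e => hk.1 (h.V_inj e)
  have h4 : (s * (t * s⁻¹ * t⁻¹)) * y * (s * (t * s⁻¹ * t⁻¹))⁻¹ = y := by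
    have h5 : t⁻¹ * y * t = y := by
      rw [mul_assoc, ← hto j h.ij.symm y hyV, inv_mul_cancel_left]
    rw [hwx, h5, h.fix_conj hto hsT (l := j) ?_ hyV]
    · group
    · rw [hsV]
      exact fun e => hk.2 (h.V_inj e)
  rw [cj_hom, h3, h4] at hI
  have h7 := mul_mem hstar hI
  have c1 := h.cm j i y hyV x hx
  have c2 := h.cm j i y hyV _ hzi
  have e : x * y * (x * z i * y) = z i := by
    calc x * y * (x * z i * y) = x * (y * x) * z i * y := by group
      _ = x * x * (y * z i) * y := by rw [c1]; group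
      _ = x * x * z i * (y * y) := by rw [c2]; group
      _ = z i := by rw [h.sq i x hx, h.sq j y hyV, one_mul, mul_one]
  rw [e] at h7
  exact h.ti i _ hzi (h.z1 i) h7.2

/-- `z i, z j ∉ I`. -/
theorem z_notMem (k : ι) : z k ∉ (⨆ k, V k) ⊓ cj a (⨆ k, V k) := fun h1 => h.ti k _ (h.zV k) (h.z1 k) h1.2

/-- The coordinates. -/
structure Co {G : Type u} [Group G] {ι : Type*} (F T : Subgroup G) (V : ι → Subgroup G) (z : ι → G) (i j : ι)
    (c a : G) (x : G) (φ : M4 →* G) : Prop where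
  inj : Function.Injective φ
  range : φ.range = ⨆ k, V k
  e1 : φ e1 = x
  e2 : φ e2 = z i
  e3 : φ e3 = c * x * c⁻¹
  e4 : φ e4 = z j
  hi : ∀ p, φ (p, 1) ∈ V i
  hj : ∀ p, φ (1, p) ∈ V j

theorem exists_co [Finite G] {x : G} (hx : x ∈ V i) (x1 : x ≠ 1) (xz : x ≠ z i) :
    ∃ φ : M4 →* G, Co F T V z i j c a x φ := by
  have hzi := h.zV i
  have hzj := h.zV j
  have hy : c * x * c⁻¹ ∈ V j := by rw [← h.cV]; exact conj_mem_cj hx
  have hz := h.z_of h.cT h.cV
  have y1 : c * x * c⁻¹ ≠ 1 := fun e => x1 (conj_eq_one_iff.1 e)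
  have yz : c * x * c⁻¹ ≠ z j := fun e => xz (by
    rw [← hz] at e
    exact mul_left_cancel (mul_right_cancel e))
  let A := al (h.sq i x hx) (h.sq i _ hzi) (h.cm i i x hx _ hzi)
  let B := al (h.sq j _ hy) (h.sq j _ hzj) (h.cm j j _ hy _ hzj)
  have hA : A.range = V i := al_range _ _ _ x1 (h.z1 i) xz (h.card i) hx hzi
  have hB : B.range = V j := al_range _ _ _ y1 (h.z1 j) yz (h.card j) hy hzj
  have hAm : ∀ p, A p ∈ V i := fun p => by rw [← hA]; exact ⟨p, rfl⟩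
  have hBm : ∀ p, B p ∈ V j := fun p => by rw [← hB]; exact ⟨p, rfl⟩
  have hAi : Function.Injective A := al_inj _ _ _ x1 (h.z1 i) xz
  have hBi : Function.Injective B := al_inj _ _ _ y1 (h.z1 j) yz
  let φ : M4 →* G := MonoidHom.noncommCoprod A B fun m n => h.cm i j _ (hAm m) _ (hBm n)
  have hφ : ∀ p q, φ (p, q) = A p * B q := fun _ _ => rfl
  refine ⟨φ, ?_, ?_, ?_, ?_, ?_, ?_, ?_, ?_⟩
  · rw [injective_iff_map_eq_one]
    rintro ⟨p, q⟩ hm
    rw [hφ] at hm
    have h1 : A p = (B q)⁻¹ := eq_inv_of_mul_eq_one_left hm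
    have h2 : A p = 1 := h.ind i _ (hAm p) (by
      rw [h1]
      exact le_iSup₂_of_le (f := fun j (_ : j ≠ i) => V j) j h.ij.symm le_rfl (inv_mem (hBm q)))
    rw [h2, one_mul] at hm
    rw [← map_one A] at h2
    rw [← map_one B] at hm
    rw [hAi h2, hBi hm]
    rfl
  · apply le_antisymm
    · rintro _ ⟨⟨p, q⟩, rfl⟩
      rw [hφ]
      exact mul_mem (le_iSup V i (hAm p)) (le_iSup V j (hBm q))
    · refine iSup_le fun k => ?_
      rcases h.only k with rfl | rfl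
      · rw [← hA]
        rintro _ ⟨p, rfl⟩
        exact ⟨(p, 1), by rw [hφ, map_one, mul_one]⟩
      · rw [← hB]
        rintro _ ⟨p, rfl⟩
        exact ⟨(1, p), by rw [hφ, map_one, one_mul]⟩
  · rw [hφ]
    exact (congrArg₂ _ (al_g1 _ _ _) (map_one B)).trans (mul_one _)
  · rw [hφ]
    exact (congrArg₂ _ (al_1g _ _ _) (map_one B)).trans (mul_one _)
  · rw [hφ]
    exact (congrArg₂ _ (map_one A) (al_g1 _ _ _)).trans (one_mul _)
  · rw [hφ]
    exact (congrArg₂ _ (map_one A) (al_1g _ _ _)).trans (one_mul _)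
  · intro p
    rw [hφ, map_one, mul_one]
    exact hAm p
  · intro p
    rw [hφ, map_one, one_mul]
    exact hBm p

omit h in
/-- Conjugation by `o` in coordinates, from the four generators. -/
theorem conj_of {φ : M4 →* G} {ψ : M4 →* M4} {o : G} (h1 : o * φ e1 * o⁻¹ = φ (ψ e1)) (h2 : o * φ e2 * o⁻¹ = φ (ψ e2))
    (h3 : o * φ e3 * o⁻¹ = φ (ψ e3)) (h4 : o * φ e4 * o⁻¹ = φ (ψ e4)) (m : M4) : o * φ m * o⁻¹ = φ (ψ m) := by
  have : (MulAut.conj o).toMonoidHom.comp φ = φ.comp ψ := hom_ext h1 h2 h3 h4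
  exact DFunLike.congr_fun this m

theorem cls_i [Finite G] {x : G} {φ : M4 →* G} (hc : Co F T V z i j c a x φ) (hx : x ∈ V i) (x1 : x ≠ 1)
    (xz : x ≠ z i) {u : G} (hu : u ∈ V i) (u1 : u ≠ 1) (uz : u ≠ z i) : u = φ M4.e1 ∨ u = φ (M4.e1 * M4.e2) := by
  rw [map_mul, hc.e1, hc.e2]
  rcases four (h.sq i x hx) (h.sq i _ (h.zV i)) (h.cm i i x hx _ (h.zV i)) x1 (h.z1 i) xz (h.card i) hx (h.zV i) hu
    with h3 | h3 | h3 | h3
  · exact absurd h3 u1
  · exact absurd h3 uz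
  · exact Or.inl h3
  · exact Or.inr h3

theorem cls_j [Finite G] {x : G} {φ : M4 →* G} (hc : Co F T V z i j c a x φ) (hx : x ∈ V i) (x1 : x ≠ 1)
    (xz : x ≠ z i) {u : G} (hu : u ∈ V j) (u1 : u ≠ 1) (uz : u ≠ z j) : u = φ M4.e3 ∨ u = φ (M4.e3 * M4.e4) := by
  rw [map_mul, hc.e3, hc.e4]
  have hy : c * x * c⁻¹ ∈ V j := by rw [← h.cV]; exact conj_mem_cj hx
  have hz := h.z_of h.cT h.cV
  have y1 : c * x * c⁻¹ ≠ 1 := fun e => x1 (conj_eq_one_iff.1 e)
  have yz : c * x * c⁻¹ ≠ z j := fun e => xz (by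
    rw [← hz] at e
    exact mul_left_cancel (mul_right_cancel e))
  rcases four (h.sq j _ hy) (h.sq j _ (h.zV j)) (h.cm j j _ hy _ (h.zV j)) y1 (h.z1 j) yz (h.card j) hy (h.zV j) hu
    with h3 | h3 | h3 | h3
  · exact absurd h3 u1
  · exact absurd h3 uz
  · exact Or.inl h3
  · exact Or.inr h3

theorem actO [Finite G] {x : G} {φ : M4 →* G} (hc : Co F T V z i j c a x φ) (hx : x ∈ V i) (x1 : x ≠ 1)
    (xz : x ≠ z i) {o : G} (ho : o ∈ o2 F) : ∃ k, ∀ m, o * φ m * o⁻¹ = φ (act k m) := by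
  have hoT := h.O_le ho
  have hy : c * x * c⁻¹ ∈ V j := by rw [← h.cV]; exact conj_mem_cj hx
  have hz := h.z_of h.cT h.cV
  have y1 : c * x * c⁻¹ ≠ 1 := fun e => x1 (conj_eq_one_iff.1 e)
  have yz : c * x * c⁻¹ ≠ z j := fun e => xz (by
    rw [← hz] at e
    exact mul_left_cancel (mul_right_cancel e))
  have key : ∀ p q, o * φ M4.e1 * o⁻¹ = φ p → o * φ M4.e3 * o⁻¹ = φ q →
      (M4.e1 * M4.e3) * (p * q) ≠ M4.e2 ∧ (M4.e1 * M4.e3) * (p * q) ≠ M4.e4 := by
    intro p q hp hq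
    have h1 : φ ((M4.e1 * M4.e3) * (p * q)) ∈ (⨆ k, V k) ⊓ cj a (⨆ k, V k) := by
      rw [map_mul, map_mul, map_mul, ← hp, ← hq, hc.e1, hc.e3, ← cj_hom]
      exact mul_mem (h.star_mem hx) (h.I_nor ho (h.star_mem hx))
    constructor
    · intro e
      rw [e, hc.e2] at h1
      exact h.z_notMem i h1
    · intro e
      rw [e, hc.e4] at h1
      exact h.z_notMem j h1
  obtain ⟨m, hm, hzm⟩ := h.perm o hoT i
  obtain ⟨m', hm', hzm'⟩ := h.perm o hoT j
  have hox : ∀ {u : G}, u ≠ 1 → o * u * o⁻¹ ≠ 1 := fun hu e => hu (conj_eq_one_iff.1 e)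
  have hoz : ∀ {u v : G}, u ≠ v → o * u * o⁻¹ ≠ o * v * o⁻¹ := fun hu e => hu (mul_left_cancel (mul_right_cancel e))
  rcases h.only m with e | e
  · rw [e] at hm hzm
    have e' : m' = j := by
      rcases h.only m' with e' | e'
      · rw [e'] at hm'
        exact absurd (h.cj_inj hm hm') h.ij
      · exact e'
    rw [e'] at hm' hzm'
    have hu : o * x * o⁻¹ ∈ V i := by rw [← hm]; exact conj_mem_cj hx
    have hv : o * (c * x * c⁻¹) * o⁻¹ ∈ V j := by rw [← hm']; exact conj_mem_cj hy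
    have hu' := h.cls_i hc hx x1 xz hu (hox x1) (by rw [← hzm]; exact hoz xz)
    have hv' := h.cls_j hc hx x1 xz hv (hox y1) (by rw [← hzm']; exact hoz yz)
    rw [← hc.e1] at hu'
    rw [← hc.e3] at hv'
    rw [← hc.e2] at hzm
    rw [← hc.e4] at hzm'
    rcases hu' with hu' | hu' <;> rcases hv' with hv' | hv'
    · exact ⟨(false, false), conj_of (ψ := actH (false, false)) hu' hzm hv' hzm'⟩
    · exact absurd (by decide) (key _ _ hu' hv').2
    · exact absurd (by decide) (key _ _ hu' hv').1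
    · exact ⟨(false, true), conj_of (ψ := actH (false, true)) hu' hzm hv' hzm'⟩
  · rw [e] at hm hzm
    have e' : m' = i := by
      rcases h.only m' with e' | e'
      · exact e'
      · rw [e'] at hm'
        exact absurd (h.cj_inj hm hm') h.ij
    rw [e'] at hm' hzm'
    have hu : o * x * o⁻¹ ∈ V j := by rw [← hm]; exact conj_mem_cj hx
    have hv : o * (c * x * c⁻¹) * o⁻¹ ∈ V i := by rw [← hm']; exact conj_mem_cj hy
    have hu' := h.cls_j hc hx x1 xz hu (hox x1) (by rw [← hzm]; exact hoz xz)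
    have hv' := h.cls_i hc hx x1 xz hv (hox y1) (by rw [← hzm']; exact hoz yz)
    rw [← hc.e1] at hu'
    rw [← hc.e3] at hv'
    rw [← hc.e2, ← hc.e4] at hzm
    rw [← hc.e4, ← hc.e2] at hzm'
    rcases hu' with hu' | hu' <;> rcases hv' with hv' | hv'
    · exact ⟨(true, false), conj_of (ψ := actH (true, false)) hu' hzm hv' hzm'⟩
    · exact absurd (by decide) (key _ _ hu' hv').1
    · exact absurd (by decide) (key _ _ hu' hv').2
    · exact ⟨(true, true), conj_of (ψ := actH (true, true)) hu' hzm hv' hzm'⟩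

/-- The star lemma. -/
theorem out [Finite G] : ∃ D E, StarO F V z i j D E := by
  obtain ⟨t, ht, x, hx, x1, xz, htV, htz, htx, hto⟩ := h.exists_t i
  obtain ⟨φ, hc⟩ := h.exists_co hx x1 xz
  have hO := fun o ho => h.actO hc hx x1 xz (o := o) ho
  have hy : c * x * c⁻¹ ∈ V j := by rw [← h.cV]; exact conj_mem_cj hx
  have hz := h.z_of h.cT h.cV
  have hloc := loc_of hc.inj hc.range hO
  rw [map_mul, hc.e2, hc.e4] at hloc
  -- the action of `c`
  have hcc : ∀ m, c * φ m * c⁻¹ = φ (act (true, false) m) := by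
    refine conj_of (ψ := actH (true, false)) ?_ ?_ ?_ ?_
    · change c * φ M4.e1 * c⁻¹ = φ M4.e3
      rw [hc.e1, hc.e3]
    · change c * φ M4.e2 * c⁻¹ = φ M4.e4
      rw [hc.e2, hc.e4, hz]
    · change c * φ M4.e3 * c⁻¹ = φ M4.e1
      rw [hc.e1, hc.e3]
      exact h.cc x (le_iSup V i hx)
    · change c * φ M4.e4 * c⁻¹ = φ M4.e2
      rw [hc.e2, hc.e4, ← hz]
      exact h.cc _ (le_iSup V i (h.zV i))
  -- the action of `t`
  have htt : ∀ m, t * φ m * t⁻¹ = φ (tauH m) := by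
    refine conj_of (ψ := tauH) ?_ ?_ ?_ ?_
    · change t * φ M4.e1 * t⁻¹ = φ (M4.e1 * M4.e2)
      rw [map_mul, hc.e1, hc.e2, htx]
    · change t * φ M4.e2 * t⁻¹ = φ M4.e2
      rw [hc.e2, htz]
    · change t * φ M4.e3 * t⁻¹ = φ M4.e3
      rw [hc.e3]
      exact mul_inv_eq_iff_eq_mul.2 (hto j h.ij.symm _ hy)
    · change t * φ M4.e4 * t⁻¹ = φ M4.e4
      rw [hc.e4]
      exact mul_inv_eq_iff_eq_mul.2 (hto j h.ij.symm _ (h.zV j))
  have hpp : ∀ p, φ (p, p) ∈ (⨆ k, V k) ⊓ cj a (⨆ k, V k) := by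
    intro p
    have h1 := h.star_mem (hc.hi p)
    have e : φ (p, 1) * (c * φ (p, 1) * c⁻¹) = φ (p, p) := by
      rw [hcc, ← map_mul]
      congr 1
      change ((p, 1) * (1, p) : M4) = (p, p)
      simp
    rwa [e] at h1
  have hEt : (fixS (true, false)).map φ = (⨆ k, V k) ⊓ cj a (⨆ k, V k) := by
    apply le_antisymm
    · rintro _ ⟨⟨p, q⟩, hm, rfl⟩
      rw [d_fix p q (mem_fixS.1 hm)]
      exact hpp p
    · intro u hu
      have hu' := hu.1
      rw [SetLike.mem_coe, ← hc.range] at hu'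
      obtain ⟨⟨p, q⟩, rfl⟩ := hu'
      have h1 := mul_mem hu (hpp p)
      rw [← map_mul] at h1
      have e : ((p, q) * (p, p) : M4) = (1, q * p) := by
        rw [Prod.mk_mul_mk]
        congr 1
        have : ∀ p : Z2 × Z2, p * p = 1 := by decide
        exact this p
      rw [e] at h1
      have h2 : φ (1, q * p) = 1 := by
        by_contra hne
        exact h.ti j _ (hc.hj _) hne h1.2
      rw [← map_one φ] at h2
      have h3 : q * p = 1 := congrArg Prod.snd (hc.inj h2)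
      rw [d_fix2 p q h3]
      exact ⟨(p, p), mem_fixS.2 (d_fix' p), rfl⟩
  have hEf : (fixS (true, true)).map φ = (⨆ k, V k) ⊓ cj (t * a) (⨆ k, V k) := by
    have h1 : (fixS (true, true)).map φ = cj t ((fixS (true, false)).map φ) := by
      rw [← map_tau, Subgroup.map_map, cj, Subgroup.map_map]
      congr 1
      ext m
      exact (htt m).symm
    rw [h1, hEt, cj_inf, h.cj_T ht, cj_cj]
  refine ⟨DD.map φ, fun b => if b then (fixS (true, false)).map φ else (fixS (true, true)).map φ,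
    h.ij, h.only, hloc, ?_, ?_, ?_, ?_⟩
  · rintro (_ | _)
    · rw [if_neg (by decide), PLocal.ThompsonJ.card_map_injective _ hc.inj]
      exact card_fixS _ (by decide)
    · rw [if_pos rfl, PLocal.ThompsonJ.card_map_injective _ hc.inj]
      exact card_fixS _ (by decide)
  · rw [if_pos rfl, if_neg (by decide)]
    exact fun e => fixS_ne (Subgroup.map_injective hc.inj e)
  · rintro (_ | _)
    · rw [if_neg (by decide)]
      exact ⟨t * a, mul_mem (h.syl.1 ht) h.aF, hEf⟩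
    · rw [if_pos rfl]
      exact ⟨a, h.aF, hEt⟩
  · rintro o ho k l ⟨u, hu, hm⟩
    obtain ⟨κ, hκ⟩ := hO o ho
    have hne : κ ≠ (false, false) := by
      rintro rfl
      have hu' := le_iSup V k hu
      rw [← hc.range] at hu'
      obtain ⟨m, rfl⟩ := hu'
      apply hm
      rw [← mul_inv_eq_iff_eq_mul, hκ, act_ff]
    rcases h.only l with e | e
    · rw [e]
      refine ⟨φ M4.e1, hc.hi _, fun h1 => d_mv1 κ hne (hc.inj ?_)⟩
      rw [← hκ, h1, mul_inv_cancel_right]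
    · rw [e]
      refine ⟨φ M4.e3, hc.hj _, fun h1 => d_mv3 κ hne (hc.inj ?_)⟩
      rw [← hκ, h1, mul_inv_cancel_right]

end StarH

end Cfsg.Agent.Omega.OM.Swap
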